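import Groth.Agent.AlgSpRegLib.ImageApps
import Groth.Agent.AlgSpLib.Reduced
import Groth.Agent.AlgSpLib.EtSmSpaces
import Groth.Agent.DevissLib.ClosedImm

/-!
# Scheme theoretic images of morphisms from reduced algebraic spaces
-/

set_option autoImplicit false
set_option backward.isDefEq.respectTransparency false
set_option backward.isDefEq.respectTransparency.types false

universe u

open CategoryTheory CategoryTheory.Limits AlgebraicGeometry Opposite AlgSp AlgSpLib TopologicalSpace Topology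

namespace AlgSpRegLib

section Scheme

variable {X Y : Scheme.{u}}

theorem vanishingIdeal_le_ker (f : X ⟶ Y) [IsReduced X] (C : Closeds Y) (h : Set.range f ⊆ C) :
    Scheme.IdealSheafData.vanishingIdeal C ≤ f.ker := by
  refine Scheme.IdealSheafData.le_ofIdeals_iff.2 fun U s hs => ?_
  rw [Scheme.IdealSheafData.vanishingIdeal_ideal, PrimeSpectrum.mem_vanishingIdeal] at hs
  rw [RingHom.mem_ker]
  refine eq_zero_of_basicOpen_eq_bot _ (eq_bot_iff.2 fun w hw => ?_)
  exfalso
  rw [← Scheme.preimage_basicOpen] at hw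
  have hwU : f w ∈ U.1 := Y.basicOpen_le s hw
  have hp : U.2.fromSpec (U.2.primeIdealOf ⟨f w, hwU⟩) = f w := U.2.fromSpec_primeIdealOf ⟨f w, hwU⟩
  have hsp := hs (U.2.primeIdealOf ⟨f w, hwU⟩) (by
    change U.2.fromSpec _ ∈ (C : Set Y)
    rw [hp]; exact h ⟨w, rfl⟩)
  have : U.2.primeIdealOf ⟨f w, hwU⟩ ∈ U.2.fromSpec ⁻¹ᵁ Y.basicOpen s := by
    change U.2.fromSpec _ ∈ Y.basicOpen s
    rw [hp]; exact hw
  rw [U.2.fromSpec_preimage_basicOpen] at this
  exact this hsp

theorem ker_eq_vanishingIdeal (f : X ⟶ Y) [IsReduced X] :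
    f.ker = Scheme.IdealSheafData.vanishingIdeal (Closeds.closure (Set.range f)) := by
  refine le_antisymm ?_ (vanishingIdeal_le_ker f _ subset_closure)
  rw [← Scheme.IdealSheafData.le_support_iff_le_vanishingIdeal]
  exact closure_minimal f.range_subset_ker_support f.ker.support.isClosed

theorem eq_vanishingIdeal_support (I : Y.IdealSheafData) [IsReduced I.subscheme] :
    I = Scheme.IdealSheafData.vanishingIdeal I.support := by
  conv_lhs => rw [← I.ker_subschemeι]
  rw [ker_eq_vanishingIdeal]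
  congr 1
  refine Closeds.ext ?_
  rw [Closeds.coe_closure, I.range_subschemeι]
  exact I.support.isClosed.closure_eq

/-- For a reduced source the image commutes with etale base change. -/
theorem ker_eq_comap_of_isPullback_reduced {X' Y' : Scheme.{u}} {g : Y' ⟶ Y} {g' : X' ⟶ X} {f : X ⟶ Y}
    {f' : X' ⟶ Y'} (sq : IsPullback g' f' f g) [IsReduced X] [Etale g] : f'.ker = f.ker.comap g := by
  haveI : Etale g' := MorphismProperty.of_isPullback (P := @Etale) sq.flip ‹_›
  haveI : IsReduced X' := isReduced_of_smooth g'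
  haveI : IsReduced f.ker.subscheme := by
    rw [ker_eq_vanishingIdeal f]; exact DevissLib.isReduced_vanishingIdeal' _
  let pr := pullback.snd g f.ker.subschemeι
  haveI : Etale pr := MorphismProperty.pullback_snd (P := @Etale) _ _ ‹_›
  haveI : IsReduced (pullback g f.ker.subschemeι) := isReduced_of_smooth pr
  haveI : IsReduced (f.ker.comap g).subscheme :=
    isReduced_of_isOpenImmersion (Scheme.IdealSheafData.comapIso f.ker g).hom
  rw [eq_vanishingIdeal_support (f.ker.comap g), ker_eq_vanishingIdeal f', Scheme.IdealSheafData.support_comap]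
  congr 1
  refine Closeds.ext ?_
  rw [ker_eq_vanishingIdeal f]
  simp only [Closeds.coe_closure, Closeds.coe_preimage, Scheme.IdealSheafData.coe_support_vanishingIdeal]
  rw [(g.isOpenMap).preimage_closure_eq_closure_preimage g.continuous]
  congr 1
  rw [← sq.isoPullback_hom_snd, Scheme.Hom.comp_base, TopCat.coe_comp, Set.range_comp]
  have : Function.Surjective sq.isoPullback.hom := sq.isoPullback.hom.surjective
  rw [this.range_eq, Set.image_univ, Scheme.Pullback.range_snd]

end Scheme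

section Space

variable {S : Scheme.{u}}

theorem isReduced_chart {X Y : Sp S} (hX : IsReducedSp X) {f : X ⟶ Y} {U V : Over S}
    {φ : (yon S).obj V ⟶ Y} {a : (yon S).obj U ⟶ X} {h : U ⟶ V} (hφ : RepWith @Etale φ)
    (hc : IsChartOn f φ a h) : IsReduced U.left := by
  obtain ⟨c, hc1, -, h1, -⟩ := hc
  refine isReduced_of_chart hX (a := a) ?_
  rw [← h1]
  exact repWith_comp hc1 (repWith_of_isPullback (IsPullback.of_hasPullback f φ).flip hφ)

theorem comap_ker_le_reduced {X Y : Sp S} (hX : IsReducedSp X) {f : X ⟶ Y} {U V U' V' R : Over S}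
    {φ : (yon S).obj V ⟶ Y} {a : (yon S).obj U ⟶ X} {h : U ⟶ V} (hφ : RepWith @Etale φ)
    (hc : IsChartOn f φ a h) {φ' : (yon S).obj V' ⟶ Y} {a' : (yon S).obj U' ⟶ X} {h' : U' ⟶ V'}
    (hc' : IsChartOn f φ' a' h') (p : R ⟶ V) (q : R ⟶ V') [Etale p.left]
    (w : (yon S).map p ≫ φ = (yon S).map q ≫ φ') :
    h'.left.ker.comap q.left ≤ h.left.ker.comap p.left :=
  haveI := isReduced_chart hX hφ hc
  comap_ker_le_of_bc hc hc' p q (ker_eq_comap_of_isPullback_reduced (f := h.left) (g := p.left)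
    (g' := (pullback.fst h p).left) (f' := (pullback.snd h p).left)
    ((IsPullback.of_hasPullback h p).map (Over.forget S))) w

theorem isSchImage_iff_ker_reduced {X Y Z : Sp S} (hX : IsReducedSp X) (hY : IsAlgSpace Y) {f : X ⟶ Y} {i : Z ⟶ Y}
    (hi : RepWith @IsClosedImmersion i) {U V : Over S} {φ : (yon S).obj V ⟶ Y} {a : (yon S).obj U ⟶ X}
    {h : U ⟶ V} (hc : IsChartOn f φ a h) (hφ : RepWith @Etale φ) (hφs : RepWith @Surjective φ) :
    IsSchImage f i ↔ IsIdealOn i φ h.left.ker :=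
  isSchImage_iff_ker_of_invariant hY hi hc hφ hφs (comap_eq_of_relation hφ _ fun _ p q hp hq w =>
    haveI := hp
    haveI := hq
    le_antisymm (comap_ker_le_reduced hX hφ hc hc q p w.symm) (comap_ker_le_reduced hX hφ hc hc p q w))

theorem isSchImage_etale_base_change_reduced {X Y Y' Z X' Z' : Sp S} (hX : IsAlgSpace X) (hY : IsAlgSpace Y)
    (hY' : IsAlgSpace Y') (hXr : IsReducedSp X) {f : X ⟶ Y} {i : Z ⟶ Y} (hs : IsSchImage f i)
    {g : Y' ⟶ Y} (hg : IsEtaleMor g) {fst : X' ⟶ X} {f' : X' ⟶ Y'} (sqf : IsPullback fst f' f g)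
    {i₁ : Z' ⟶ Z} {i' : Z' ⟶ Y'} (sqi : IsPullback i₁ i' i g) : IsSchImage f' i' := by
  have hi' : RepWith @IsClosedImmersion i' := repWith_of_isPullback sqi hs.1
  have hX' := isAlgSpace_of_isPullback hX hY' hY sqf
  have hfst : IsEtaleMor fst := isEtaleMor_of_isPullback hY' hY hX sqf.flip hg
  have hX'r : IsReducedSp X' :=
    isReducedSp_of_smooth hX' hX (locP_mono etale_le_smooth (locP_etale_of_isEtaleMor hfst)) hXr
  obtain ⟨V', ψ, hψ, hψs⟩ := hY'.atlas
  obtain ⟨U', a', h', hc⟩ := exists_isChartOn hX' hY' f' ψ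
  have hφ' : RepWith @Etale (ψ ≫ g) := hg ψ hψ
  have hc' : IsChartOn f (ψ ≫ g) (a' ≫ fst) h' := by
    obtain ⟨c, hc1, hc2, h1, h2⟩ := hc
    let e := ((IsPullback.of_hasPullback f' ψ).paste_horiz sqf).isoPullback
    exact ⟨c ≫ e.hom, repWith_comp hc1 (repWith_of_isIso e.hom), repWith_comp hc2 (repWith_of_isIso e.hom),
      by rw [Category.assoc, IsPullback.isoPullback_hom_fst, ← Category.assoc, h1],
      by rw [Category.assoc, IsPullback.isoPullback_hom_snd, h2]⟩
  obtain ⟨V, φ, hφ, hφs⟩ := hY.atlas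
  obtain ⟨U, a, h, hcf⟩ := exists_isChartOn hX hY f φ
  have hI := (isSchImage_iff_ker_reduced hXr hY hs.1 hcf hφ hφs).1 hs
  obtain ⟨J, hJ⟩ := exists_isIdealOn hs.1 (ψ ≫ g)
  obtain ⟨R, p, q, sq⟩ := exists_isPullback_yon φ (ψ ≫ g) hφ.rep
  haveI : Etale q.left := etale_left (repWith_of_isPullback sq hφ)
  haveI : Surjective q.left := surjective_left (repWith_of_isPullback sq hφs)
  haveI : Etale p.left := etale_left (repWith_of_isPullback sq.flip hφ')
  have e : J.comap q.left = h'.left.ker.comap q.left := by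
    rw [← hI.comap_eq hJ p q sq.w]
    exact le_antisymm (comap_ker_le_reduced hXr hφ' hc' hcf q p sq.w.symm)
      (comap_ker_le_reduced hXr hφ hcf hc' p q sq.w)
  obtain ⟨s, sqs⟩ := comap_injective_of_flat_surjective q.left e ▸ hJ
  refine (isSchImage_iff_ker_reduced hX'r hY' hi' hc hψ hψs).2 ⟨sqi.lift s ((yon S).map (subι V' h'.left.ker) ≫ ψ)
    (by rw [sqs.w, Category.assoc]), IsPullback.of_right (by rw [sqi.lift_fst]; exact sqs) (sqi.lift_snd _ _ _) sqi⟩

theorem isRedInduced_of_isSchImage {X Y Z : Sp S} (hX : IsAlgSpace X) (hY : IsAlgSpace Y)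
    (hXr : IsReducedSp X) {f : X ⟶ Y} {i : Z ⟶ Y} (hs : IsSchImage f i) :
    IsRedInduced (closure (Set.range (Points.map f))) i := by
  obtain ⟨V, φ, hφ, hφs⟩ := hY.atlas
  obtain ⟨U, a, h, hc⟩ := exists_isChartOn hX hY f φ
  haveI := isReduced_chart hXr hφ hc
  obtain ⟨fst, sq⟩ := (isSchImage_iff_ker_reduced hXr hY hs.1 hc hφ hφs).1 hs
  haveI : IsReduced h.left.ker.subscheme := by
    rw [ker_eq_vanishingIdeal h.left]; exact DevissLib.isReduced_vanishingIdeal' _
  refine ⟨hs.1, ?_, subOver V h.left.ker, fst, repWith_of_isPullback sq.flip hφ,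
    repWith_of_isPullback sq.flip hφs, ‹IsReduced h.left.ker.subscheme›⟩
  have hr : Points.ofPt φ ⁻¹' Set.range (Points.map f) = Set.range h.left := by
    ext v
    constructor
    · rintro ⟨x, hx⟩
      obtain ⟨c, -, hc2, -, h2⟩ := hc
      obtain ⟨w, -, hw⟩ := exists_point_isPullback (IsPullback.of_hasPullback f φ) x (Points.ofScheme V v)
        (by rw [hx, Points.ofPt_eq_map_ofScheme])
      obtain ⟨z, rfl⟩ := surjective_ofPt hc2 w
      refine ⟨z, (Points.schemeHomeo V).injective ?_⟩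
      rw [Points.map_ofPt, h2] at hw
      rw [← Points.map_yon_map_apply]
      exact (Points.ofPt_eq_map_ofScheme ((yon S).map h) z).symm.trans hw
    · rintro ⟨w, rfl⟩
      exact ⟨Points.ofPt a w, by rw [Points.map_ofPt, hc.w, ofPt_yon_comp]⟩
  have hcl : Points.ofPt φ ⁻¹' closure (Set.range (Points.map f)) = Set.range h.left.ker.subschemeι := by
    rw [(isOpenMap_ofPt hφ).preimage_closure_eq_closure_preimage (Points.continuous_ofPt φ), hr,
      Scheme.IdealSheafData.range_subschemeι, ker_eq_vanishingIdeal h.left,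
      Scheme.IdealSheafData.coe_support_vanishingIdeal, Closeds.coe_closure]
  ext y
  obtain ⟨v, rfl⟩ := surjective_ofPt hφs y
  rw [← mem_range_iff sq v]
  exact (Set.ext_iff.1 hcl v).symm

end Space

end AlgSpRegLib
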