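import Groth.Agent.AlgSpRegLib.CutBy
import Groth.Agent.AlgSpRegLib.ImageReduced

/-!
# Properties of closed subspaces cut out by ideals
-/

set_option autoImplicit false
set_option backward.isDefEq.respectTransparency false
set_option backward.isDefEq.respectTransparency.types false

universe u

open CategoryTheory CategoryTheory.Limits AlgebraicGeometry Opposite AlgSp AlgSpLib TopologicalSpace Topology

namespace AlgSpRegLib

section Scheme

theorem comap_vanishingIdeal_etale {X' X : Scheme.{u}} (g : X' ⟶ X) [Etale g] (C : Closeds X) :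
    (Scheme.IdealSheafData.vanishingIdeal C).comap g =
      Scheme.IdealSheafData.vanishingIdeal ⟨g ⁻¹' C, C.isClosed.preimage g.continuous⟩ := by
  let I := Scheme.IdealSheafData.vanishingIdeal C
  haveI : IsReduced I.subscheme := DevissLib.isReduced_vanishingIdeal' _
  let pr := pullback.snd g I.subschemeι
  haveI : Etale pr := MorphismProperty.pullback_snd (P := @Etale) _ _ ‹_›
  haveI : IsReduced (pullback g I.subschemeι) := isReduced_of_smooth pr
  haveI : IsReduced (I.comap g).subscheme :=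
    isReduced_of_isOpenImmersion (Scheme.IdealSheafData.comapIso I g).hom
  rw [eq_vanishingIdeal_support (I.comap g), Scheme.IdealSheafData.support_comap]
  congr 1

theorem ideal_le_of_comap_top_le {V : Scheme.{u}} {I J : V.IdealSheafData} (W : V.affineOpens)
    (h : haveI : IsAffine W.1.toScheme := W.2
      (I.comap W.1.ι).ideal ⟨⊤, isAffineOpen_top W.1.toScheme⟩ ≤
        (J.comap W.1.ι).ideal ⟨⊤, isAffineOpen_top W.1.toScheme⟩) : I.ideal W ≤ J.ideal W := by
  haveI : IsAffine W.1.toScheme := W.2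
  rw [ChevLib.ideal_comap_openImmersion_top I W.1.ι W (by simp),
    ChevLib.ideal_comap_openImmersion_top J W.1.ι W (by simp)] at h
  have h2 := Ideal.comap_mono (f := (W.1.ι.appLE W.1 ⊤ (by simp)).hom) h
  rwa [Ideal.comap_map_of_bijective _ (bijective_opensι_appLE W.1),
    Ideal.comap_map_of_bijective _ (bijective_opensι_appLE W.1)] at h2

theorem lfp_iff_ker_fg {A B : Scheme.{u}} (f : A ⟶ B) [IsClosedImmersion f] [IsAffine B] :
    LocallyOfFinitePresentation f ↔ (RingHom.ker f.appTop.hom).FG := by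
  obtain ⟨hA, hs⟩ := IsClosedImmersion.isAffine_surjective_of_isAffine f
  rw [HasRingHomProperty.iff_of_isAffine (P := @LocallyOfFinitePresentation)]
  refine ⟨fun h => ?_, fun h => RingHom.FinitePresentation.of_surjective _ hs h⟩
  algebraize [f.appTop.hom]
  haveI : Algebra.FinitePresentation Γ(B, ⊤) Γ(A, ⊤) := h
  exact Algebra.FinitePresentation.ker_fG_of_surjective (R := Γ(B, ⊤)) (Algebra.ofId Γ(B, ⊤) Γ(A, ⊤)) hs

end Scheme

variable {S : Scheme.{u}}

theorem exists_isRedInduced {X : Sp S} (hX : IsAlgSpace X) (T : Set (Points X)) (hT : IsClosed T) :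
    ∃ (Z : Sp S) (i : Z ⟶ X), IsAlgSpace Z ∧ IsRedInduced T i := by
  obtain ⟨V, φ, hφ, hφs⟩ := hX.atlas
  let C : Closeds V.left := ⟨Points.ofPt φ ⁻¹' T, hT.preimage (Points.continuous_ofPt φ)⟩
  obtain ⟨Z, i, z, hZ, hi, sq, -⟩ := exists_closedSub hX hφ hφs (Scheme.IdealSheafData.vanishingIdeal C)
    (comap_eq_of_relation hφ _ fun R p q hp hq w => by
      haveI := hp; haveI := hq
      rw [comap_vanishingIdeal_etale, comap_vanishingIdeal_etale]
      congr 1
      refine Closeds.ext ?_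
      ext x
      show Points.ofPt φ (p.left x) ∈ T ↔ Points.ofPt φ (q.left x) ∈ T
      rw [← ofPt_yon_comp, ← ofPt_yon_comp, w])
  refine ⟨Z, i, hZ, hi, ?_, _, z, repWith_of_isPullback sq.flip hφ, repWith_of_isPullback sq.flip hφs,
    DevissLib.isReduced_vanishingIdeal' C⟩
  ext y
  obtain ⟨v, rfl⟩ := surjective_ofPt hφs y
  rw [← mem_range_iff sq v]
  show v ∈ Set.range (Scheme.IdealSheafData.vanishingIdeal C).subschemeι ↔ _
  rw [Scheme.IdealSheafData.range_subschemeι, Scheme.IdealSheafData.coe_support_vanishingIdeal]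
  rfl

theorem le_iff_factors {X Z Z' : Sp S} (hX : IsAlgSpace X) {i : Z ⟶ X} {i' : Z' ⟶ X}
    {I I' : IdealEt X} (h : IsCutOutBy I i) (h' : IsCutOutBy I' i') : I ≤ I' ↔ ∃ k : Z' ⟶ Z, k ≫ i = i' := by
  obtain ⟨hi, rfl⟩ := h
  obtain ⟨hi', rfl⟩ := h'
  haveI := mono_of_closedImmersion hi
  refine ⟨fun hle => ?_, fun ⟨k, hk⟩ E hE => ?_⟩
  · obtain ⟨V, φ, hφ, hφs⟩ := hX.atlas
    obtain ⟨J, hJ⟩ := exists_isIdealOn hi φ
    obtain ⟨J', hJ'⟩ := exists_isIdealOn hi' φ
    refine hJ'.hom_of_le hφ hφs hJ fun W => ideal_le_of_comap_top_le W ?_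
    haveI : IsAffine W.1.toScheme := W.2
    haveI hE : IsAffine (openObj φ hφ W.1).obj.left.left := W.2
    haveI : IsClosedImmersion (EtOver.bcπ hi.1 (openObj φ hφ W.1)).left :=
      hi.property _ _ _ (EtOver.isPullback_bcObj hi.1 _)
    haveI : IsClosedImmersion (EtOver.bcπ hi'.1 (openObj φ hφ W.1)).left :=
      hi'.property _ _ _ (EtOver.isPullback_bcObj hi'.1 _)
    have e1 := (isIdealOn_ker_of_isPullback hi (EtOver.isPullback_bcObj hi.1 (openObj φ hφ W.1))).unique
      (hJ.comap hi (Over.homMk W.1.ι rfl : Over.mk (W.1.ι ≫ V.hom) ⟶ V))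
    have e2 := (isIdealOn_ker_of_isPullback hi' (EtOver.isPullback_bcObj hi'.1 (openObj φ hφ W.1))).unique
      (hJ'.comap hi' (Over.homMk W.1.ι rfl : Over.mk (W.1.ι ≫ V.hom) ⟶ V))
    have h3 : (EtOver.bcπ hi.1 (openObj φ hφ W.1)).left.ker.ideal ⟨⊤, isAffineOpen_top _⟩ ≤
        (EtOver.bcπ hi'.1 (openObj φ hφ W.1)).left.ker.ideal ⟨⊤, isAffineOpen_top _⟩ := by
      rw [ideal_ker_top, ideal_ker_top]; exact hle _ hE
    rw [e1, e2] at h3
    exact h3
  · haveI := hE
    haveI : IsClosedImmersion (EtOver.bcπ hi.1 E).left := hi.property _ _ _ (EtOver.isPullback_bcObj hi.1 _)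
    haveI : IsClosedImmersion (EtOver.bcπ hi'.1 E).left := hi'.property _ _ _ (EtOver.isPullback_bcObj hi'.1 _)
    have hle := (isIdealOn_ker_of_isPullback hi' (EtOver.isPullback_bcObj hi'.1 E)).le_of_hom
      (isIdealOn_ker_of_isPullback hi (EtOver.isPullback_bcObj hi.1 E)) k hk
    have h3 := hle ⟨⊤, isAffineOpen_top _⟩
    rwa [ideal_ker_top, ideal_ker_top] at h3

theorem factors_iff_le_idealOfRep {X Z : Sp S} (hX : IsAlgSpace X) {i : Z ⟶ X} {I : IdealEt X}
    (hZ : IsCutOutBy I i) {T : Over S} {h : (yon S).obj T ⟶ X} (hh : Representable h) :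
    (∃ k : (yon S).obj T ⟶ Z, k ≫ i = h) ↔ I ≤ idealOfRep hh := by
  obtain ⟨hi, rfl⟩ := hZ
  haveI := mono_of_closedImmersion hi
  refine ⟨fun ⟨k, hk⟩ E hE => ?_, fun hle => ?_⟩
  · haveI := hE
    haveI : IsClosedImmersion (EtOver.bcπ hi.1 E).left := hi.property _ _ _ (EtOver.isPullback_bcObj hi.1 _)
    have hJ := isIdealOn_ker_of_isPullback hi (EtOver.isPullback_bcObj hi.1 E)
    have h0 := (hJ.factor_iff (EtOver.bcπ hh E)).1
      ⟨(EtOver.bcObj hh E).obj.hom ≫ k, by rw [Category.assoc, hk, (EtOver.isPullback_bcObj hh E).w]⟩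
    rw [← le_bot_iff, ← Scheme.IdealSheafData.le_map_iff_comap_le, Scheme.IdealSheafData.map_bot] at h0
    have h3 := (h0 ⟨⊤, isAffineOpen_top _⟩).trans ((EtOver.bcπ hh E).left.ideal_ker_le ⟨⊤, isAffineOpen_top _⟩)
    rw [ideal_ker_top] at h3
    exact h3
  · obtain ⟨V, φ, hφ, hφs⟩ := hX.atlas
    obtain ⟨J, hJ⟩ := exists_isIdealOn hi φ
    have sq := hh.isPullback φ
    haveI : Sheaf.IsLocallySurjective (hh.fst φ) :=
      locSurj_of_atlas (repWith_of_isPullback sq.flip hφ) (repWith_of_isPullback sq.flip hφs)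
    have hker : J ≤ (hh.snd φ).left.ker := by
      rw [Scheme.Hom.ker, Scheme.IdealSheafData.le_ofIdeals_iff]
      intro W s hs
      rw [RingHom.mem_ker]
      haveI : IsAffine W.1.toScheme := W.2
      let E := openObj φ hφ W.1
      let j : E.obj.left ⟶ V := Over.homMk W.1.ι rfl
      have hE : IsAffine E.obj.left.left := W.2
      haveI : IsAffine E.obj.left.left := hE
      haveI : IsClosedImmersion (EtOver.bcπ hi.1 E).left := hi.property _ _ _ (EtOver.isPullback_bcObj hi.1 _)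
      have e1 := (isIdealOn_ker_of_isPullback hi (EtOver.isPullback_bcObj hi.1 E)).unique (hJ.comap hi j)
      have hmem : (W.1.ι.appLE W.1 ⊤ (by simp)).hom s ∈
          RingHom.ker (EtOver.bcπ hh E).left.appTop.hom := by
        refine hle E hE ?_
        show _ ∈ RingHom.ker (EtOver.bcπ hi.1 E).left.appTop.hom
        rw [← ideal_ker_top, e1]
        show _ ∈ (J.comap W.1.ι).ideal ⟨⊤, isAffineOpen_top W.1.toScheme⟩
        rw [ChevLib.ideal_comap_openImmersion_top J W.1.ι W (by simp)]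
        exact Ideal.mem_map_of_mem _ hs
      let π := (hh.snd φ).left
      let P : Over S := Over.mk ((π ⁻¹ᵁ W.1).ι ≫ (hh.pullback φ).hom)
      let jP : P ⟶ hh.pullback φ := Over.homMk (π ⁻¹ᵁ W.1).ι rfl
      let πW : P ⟶ E.obj.left := Over.homMk (π ∣_ W.1) (by
        show (π ∣_ W.1) ≫ W.1.ι ≫ V.hom = (π ⁻¹ᵁ W.1).ι ≫ (hh.pullback φ).hom
        rw [← Category.assoc, morphismRestrict_ι, Category.assoc, Over.w])
      have hjw : jP ≫ hh.snd φ = πW ≫ j := by
        ext : 1
        exact (morphismRestrict_ι π W.1).symm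
      obtain ⟨m, hm⟩ := (yon S).map_surjective ((EtOver.isPullback_bcObj hh E).lift
        ((yon S).map jP ≫ hh.fst φ) ((yon S).map πW) (by
          show _ = (yon S).map πW ≫ (yon S).map j ≫ φ
          rw [Category.assoc, sq.w, ← Functor.map_comp_assoc, hjw, Functor.map_comp_assoc]))
      have hm2 : m ≫ EtOver.bcπ hh E = πW := (yon S).map_injective (by
        rw [Functor.map_comp, hm, IsPullback.lift_snd])
      have h0 : (π ∣_ W.1).appTop ((W.1.ι.appLE W.1 ⊤ (by simp)).hom s) = 0 := by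
        rw [show π ∣_ W.1 = m.left ≫ (EtOver.bcπ hh E).left from (congrArg (fun k => k.left) hm2).symm,
          Scheme.Hom.comp_appTop, CommRingCat.comp_apply]
        rw [RingHom.mem_ker] at hmem
        exact (congrArg _ hmem).trans (map_zero _)
      have key : W.1.ι.appLE W.1 ⊤ (by simp) ≫ (π ∣_ W.1).appTop =
          π.app W.1 ≫ (π ⁻¹ᵁ W.1).ι.appLE (π ⁻¹ᵁ W.1) ⊤ (by simp) := by
        simp only [Scheme.Hom.appTop, Scheme.Hom.app_eq_appLE]
        erw [Scheme.Hom.appLE_comp_appLE, Scheme.Hom.appLE_comp_appLE]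
        simp only [morphismRestrict_ι]
        rfl
      refine (bijective_opensι_appLE (π ⁻¹ᵁ W.1)).1 ?_
      rw [map_zero, ← CommRingCat.comp_apply, ← key]
      exact h0
    rw [← Scheme.IdealSheafData.map_bot, Scheme.IdealSheafData.le_map_iff_comap_le, le_bot_iff] at hker
    obtain ⟨l, hl⟩ := (hJ.factor_iff (hh.snd φ)).2 hker
    exact factor_of_cover i (hh.fst φ) h l (by rw [hl, sq.w])

theorem locP_lfp_iff {X Z : Sp S} (hX : IsAlgSpace X) {i : Z ⟶ X} (hi : RepWith @IsClosedImmersion i) :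
    LocP @LocallyOfFinitePresentation i ↔
      ∀ (E : EtOver X) (hE : IsAffine E.obj.left.left), ((idealOfRep hi.1).ideal E hE).FG := by
  haveI : EtLocProp (@LocallyOfFinitePresentation : MorphismProperty Scheme.{u}) := etLocProp_of_list (by simp)
  refine ⟨fun h E hE => ?_, fun h => ?_⟩
  · haveI := hE
    haveI : IsClosedImmersion (EtOver.bcπ hi.1 E).left := hi.property _ _ _ (EtOver.isPullback_bcObj hi.1 _)
    exact (lfp_iff_ker_fg _).1 (((locP_iff_repWith hX hi.1).1 h).property _ _ _ (EtOver.isPullback_bcObj hi.1 E))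
  · obtain ⟨V, φ, hφ, hφs⟩ := hX.atlas
    have sq := hi.rep.isPullback φ
    haveI : IsClosedImmersion (hi.rep.snd φ).left := hi.property _ _ _ sq
    refine locP_of_chart (a₀ := hi.rep.fst φ) (h₀ := hi.rep.snd φ) (repWith_of_isPullback sq.flip hφ)
      (repWith_of_isPullback sq.flip hφs) hφ sq.w ?_
    refine (IsZariskiLocalAtTarget.iff_of_iSup_eq_top (P := @LocallyOfFinitePresentation)
      (fun W : V.left.affineOpens => W.1) (iSup_affineOpens_eq_top _)).2 fun W => ?_
    haveI : IsAffine W.1.toScheme := W.2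
    haveI : IsClosedImmersion ((hi.rep.snd φ).left ∣_ W.1) := IsZariskiLocalAtTarget.restrict ‹_› W.1
    let E := openObj φ hφ W.1
    haveI hE : IsAffine E.obj.left.left := W.2
    haveI : IsClosedImmersion (EtOver.bcπ hi.1 E).left := hi.property _ _ _ (EtOver.isPullback_bcObj hi.1 _)
    obtain ⟨J, hJ⟩ := exists_isIdealOn hi φ
    let j : E.obj.left ⟶ V := Over.homMk W.1.ι rfl
    have e1 := (isIdealOn_ker_of_isPullback hi (EtOver.isPullback_bcObj hi.1 E)).unique (hJ.comap hi j)
    have e2 := (isIdealOn_ker_of_isPullback hi sq).unique hJ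
    have e3 : ((hi.rep.snd φ).left ∣_ W.1).ker = (hi.rep.snd φ).left.ker.comap W.1.ι :=
      ker_eq_comap_of_isPullback (isPullback_morphismRestrict _ _).flip
    refine (lfp_iff_ker_fg _).2 ?_
    have h4 := h E hE
    change (RingHom.ker (EtOver.bcπ hi.1 E).left.appTop.hom).FG at h4
    rw [← ideal_ker_top, e1, ← e2] at h4
    rw [← ideal_ker_top, e3]
    exact h4

end AlgSpRegLib
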