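import Groth.Agent.AlgSpRegLib.CartierSpace
import Groth.Agent.AlgSpRegLib.CutByApps
import Groth.Agent.BlowUpLib.Props

/-!
# Sums of effective Cartier divisors
-/

set_option autoImplicit false
set_option backward.isDefEq.respectTransparency false
set_option backward.isDefEq.respectTransparency.types false

universe u

open CategoryTheory CategoryTheory.Limits AlgebraicGeometry Opposite AlgSp AlgSpLib TopologicalSpace

namespace AlgSpRegLib

section Scheme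

variable {X : Scheme.{u}}

theorem res_basicOpen {I : X.IdealSheafData} {U : X.affineOpens} {f : Γ(X, U.1)}
    (hf : f ∈ nonZeroDivisors Γ(X, U.1)) (hI : I.ideal U = Ideal.span {f}) (g : Γ(X, U.1))
    (V : X.affineOpens) (hV : V.1 = X.basicOpen g) :
    ∃ f' : Γ(X, V.1), f' ∈ nonZeroDivisors Γ(X, V.1) ∧ I.ideal V = Ideal.span {f'} := by
  obtain rfl : V = X.affineBasicOpen g := Subtype.ext hV
  let r : Γ(X, U.1) →+* Γ(X, X.basicOpen g) := (X.presheaf.map (homOfLE (X.basicOpen_le g)).op).hom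
  refine ⟨r f, ?_, ?_⟩
  · show r f ∈ nonZeroDivisors Γ(X, X.basicOpen g)
    letI := r.toAlgebra
    haveI : IsLocalization.Away g Γ(X, X.basicOpen g) := U.2.isLocalization_basicOpen g
    exact IsLocalization.map_nonZeroDivisors_le (Submonoid.powers g) _ (Submonoid.mem_map_of_mem _ hf)
  · rw [← I.map_ideal_basicOpen U g, hI, Ideal.map_span, Set.image_singleton]
    rfl

theorem isEffCartier_mul {I J : X.IdealSheafData} (hI : BlowUp.IsEffCartierIdeal I)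
    (hJ : BlowUp.IsEffCartierIdeal J) : BlowUp.IsEffCartierIdeal (I * J) := by
  intro x
  obtain ⟨U₁, h₁, f₁, hf₁, e₁⟩ := hI x
  obtain ⟨U₂, h₂, f₂, hf₂, e₂⟩ := hJ x
  obtain ⟨g, g', hgg, hx⟩ := exists_basicOpen_le_affine_inter U₁.2 U₂.2 x ⟨h₁, h₂⟩
  obtain ⟨a, ha, ea⟩ := res_basicOpen hf₁ e₁ g (X.affineBasicOpen g) rfl
  obtain ⟨b, hb, eb⟩ := res_basicOpen hf₂ e₂ g' (X.affineBasicOpen g) hgg
  refine ⟨X.affineBasicOpen g, hx, a * b, mul_mem ha hb, ?_⟩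
  rw [Scheme.IdealSheafData.ideal_mul, Pi.mul_apply, ea, eb, Ideal.span_singleton_mul_span_singleton]

theorem mul_comm' (I J : X.IdealSheafData) : I * J = J * I := by
  ext : 1
  funext U
  simp [mul_comm]

end Scheme

variable {S : Scheme.{u}} {X : Sp S}

theorem comap_top_eq_of_cutOut {Z : Sp S} {i : Z ⟶ X} {I : IdealEt X} (h : IsCutOutBy I i) {V : Over S}
    {φ : (yon S).obj V ⟶ X} (hφ : RepWith @Etale φ) {K : V.left.IdealSheafData} (hK : IsIdealOn i φ K)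
    (W : V.left.affineOpens) : haveI : IsAffine W.1.toScheme := W.2
    (K.comap W.1.ι).ideal ⟨⊤, isAffineOpen_top W.1.toScheme⟩ =
      I.ideal (openObj φ hφ W.1) (isAffine_openObj φ hφ W) := by
  obtain ⟨hi, rfl⟩ := h
  haveI : IsAffine W.1.toScheme := W.2
  let E := openObj φ hφ W.1
  haveI : IsAffine E.obj.left.left := W.2
  haveI : IsClosedImmersion (EtOver.bcπ hi.1 E).left := hi.property _ _ _ (EtOver.isPullback_bcObj hi.1 E)
  have e1 := (isIdealOn_ker_of_isPullback hi (EtOver.isPullback_bcObj hi.1 E)).unique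
    (hK.comap hi (Over.homMk W.1.ι rfl : E.obj.left ⟶ V))
  show _ = RingHom.ker (EtOver.bcπ hi.1 E).left.appTop.hom
  rw [← ideal_ker_top, e1]
  rfl

theorem exists_chart_product {Z Y D : Sp S} {iZ : Z ⟶ X} {iY : Y ⟶ X} {iD : D ⟶ X} {I J : IdealEt X}
    (hZ : IsCutOutBy I iZ) (hY : IsCutOutBy J iY) (hD : IsCutOutBy (I * J) iD) {V : Over S}
    {φ : (yon S).obj V ⟶ X} (hφ : RepWith @Etale φ) :
    ∃ KZ KY : V.left.IdealSheafData, IsIdealOn iZ φ KZ ∧ IsIdealOn iY φ KY ∧ IsIdealOn iD φ (KZ * KY) := by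
  obtain ⟨KZ, hKZ⟩ := exists_isIdealOn hZ.1 φ
  obtain ⟨KY, hKY⟩ := exists_isIdealOn hY.1 φ
  obtain ⟨KD, hKD⟩ := exists_isIdealOn hD.1 φ
  refine ⟨KZ, KY, hKZ, hKY, ?_⟩
  suffices KD = KZ * KY by rwa [← this]
  refine eq_of_cover (fun W : V.left.affineOpens => W) (iSup_affineOpens_eq_top _) fun W => ?_
  haveI : IsAffine W.1.toScheme := W.2
  rw [BlowUpLib.comap_mul, Scheme.IdealSheafData.ideal_mul, Pi.mul_apply, comap_top_eq_of_cutOut hD hφ hKD W,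
    comap_top_eq_of_cutOut hZ hφ hKZ W, comap_top_eq_of_cutOut hY hφ hKY W]
  rfl

theorem isEffCartierSub_sum (hX : IsAlgSpace X) {Z Y D : Sp S} {iZ : Z ⟶ X} {iY : Y ⟶ X} {iD : D ⟶ X}
    {I J : IdealEt X} (hZ : IsCutOutBy I iZ) (hY : IsCutOutBy J iY) (hD : IsCutOutBy (I * J) iD)
    (eZ : IsEffCartierSub iZ) (eY : IsEffCartierSub iY) : IsEffCartierSub iD := by
  obtain ⟨V, φ, hφ, hφs⟩ := hX.atlas
  obtain ⟨KZ, KY, ⟨fZ, sZ⟩, ⟨fY, sY⟩, ⟨fD, sD⟩⟩ := exists_chart_product hZ hY hD hφ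
  exact ⟨hD.1, V, φ, _, fD, hφ, hφs, sD, isEffCartier_mul ((isEffCartierSub_iff hX hZ.1).1 eZ V φ hφ KZ fZ sZ)
    ((isEffCartierSub_iff hX hY.1).1 eY V φ hφ KY fY sY)⟩

theorem isEffCartierSub_factors (hX : IsAlgSpace X) {Z Y D : Sp S} {iZ : Z ⟶ X} {iY : Y ⟶ X} {iD : D ⟶ X}
    {I J : IdealEt X} (hZ : IsCutOutBy I iZ) (hY : IsCutOutBy J iY) (hD : IsCutOutBy (I * J) iD)
    (eD : IsEffCartierSub iD) : IsEffCartierSub iZ ∧ IsEffCartierSub iY := by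
  obtain ⟨V, φ, hφ, hφs⟩ := hX.atlas
  obtain ⟨KZ, KY, ⟨fZ, sZ⟩, ⟨fY, sY⟩, ⟨fD, sD⟩⟩ := exists_chart_product hZ hY hD hφ
  have h := (isEffCartierSub_iff hX hD.1).1 eD V φ hφ _ fD sD
  exact ⟨⟨hZ.1, V, φ, _, fZ, hφ, hφs, sZ, BlowUpLib.isEffCartier_of_mul (I := KY) (J := KZ) (mul_comm' KY KZ ▸ h)⟩,
    hY.1, V, φ, _, fY, hφ, hφs, sY, BlowUpLib.isEffCartier_of_mul h⟩

end AlgSpRegLib
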