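import Mathlib
import Groth.Agent.MultLiftLib.KerBot

/-!
# Scheme theoretic images and flat base change
-/

set_option autoImplicit false
universe u

open CategoryTheory CategoryTheory.Limits AlgebraicGeometry TopologicalSpace

namespace AlgSpRegLib

variable {X Y Z : Scheme.{u}}

theorem dominant_of_flat_surjective (f : X ⟶ Y) [Flat f] [Surjective f] : IsSchemeTheoreticallyDominant f :=
  ⟨Groth.Agent.MultLift.ker_eq_bot_of_flat_surjective f⟩

theorem ker_comp_dominant (g : X ⟶ Y) [IsSchemeTheoreticallyDominant g] (f : Y ⟶ Z) : (g ≫ f).ker = f.ker := by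
  rw [Scheme.Hom.ker_comp, g.ker_eq_bot, Scheme.IdealSheafData.map_bot]

theorem dominant_toImage (f : X ⟶ Y) [QuasiCompact f] : IsSchemeTheoreticallyDominant f.toImage := by
  refine ⟨Scheme.IdealSheafData.ext_of_iSup_eq_top
    (fun U : Y.affineOpens => ⟨f.imageι ⁻¹ᵁ U.1, U.2.preimage f.imageι⟩)
    (top_le_iff.mp fun x _ => ?_) fun U => ?_⟩
  · obtain ⟨U, hU, hxU, -⟩ := exists_isAffineOpen_mem_and_subset (x := f.imageι x) (U := ⊤) trivial
    exact Opens.mem_iSup.mpr ⟨⟨U, hU⟩, hxU⟩
  · rw [Scheme.Hom.ker_apply, Scheme.IdealSheafData.ideal_bot, Pi.bot_apply,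
      ← RingHom.injective_iff_ker_eq_bot]
    exact f.toImage_app_injective U

/-- A morphism factors through a closed subscheme iff the ideal pulls back to zero. -/
theorem factor_iff_comap (I : Y.IdealSheafData) (f : X ⟶ Y) :
    (∃ l : X ⟶ I.subscheme, l ≫ I.subschemeι = f) ↔ I.comap f = ⊥ := by
  rw [← le_bot_iff, ← Scheme.IdealSheafData.le_map_iff_comap_le, Scheme.IdealSheafData.map_bot]
  refine ⟨?_, fun h => ⟨IsClosedImmersion.lift I.subschemeι f (by simpa using h),
    IsClosedImmersion.lift_fac _ _ _⟩⟩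
  rintro ⟨l, rfl⟩
  exact le_trans (by simp) (Scheme.Hom.le_ker_comp _ _)

theorem comap_ker_self (f : X ⟶ Y) : f.ker.comap f = ⊥ := by
  rw [← le_bot_iff, ← Scheme.IdealSheafData.le_map_iff_comap_le, Scheme.IdealSheafData.map_bot]

variable {X' Y' : Scheme.{u}} {g : Y' ⟶ Y} {g' : X' ⟶ X} {f : X ⟶ Y} {f' : X' ⟶ Y'}

theorem comap_ker_le_of_comm (w : g' ≫ f = f' ≫ g) : f.ker.comap g ≤ f'.ker := by
  rw [← Scheme.IdealSheafData.le_map_iff_comap_le, Scheme.IdealSheafData.map_ker, ← w]
  exact Scheme.Hom.le_ker_comp _ _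

/-- The scheme theoretic image of a quasi-compact morphism commutes with flat base change. -/
theorem ker_eq_comap_of_isPullback (sq : IsPullback g' f' f g) [QuasiCompact f] [Flat g] :
    f'.ker = f.ker.comap g := by
  let m : X' ⟶ pullback f.imageι g := pullback.lift (g' ≫ f.toImage) f' (by
    rw [Category.assoc, Scheme.Hom.toImage_imageι]; exact sq.w)
  have hm : m ≫ pullback.snd f.imageι g = f' := pullback.lift_snd _ _ _
  have sq' : IsPullback g' m f.toImage (pullback.fst f.imageι g) :=
    IsPullback.of_bot (by rw [hm, Scheme.Hom.toImage_imageι]; exact sq) (pullback.lift_fst _ _ _).symm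
      (IsPullback.of_hasPullback f.imageι g)
  haveI := dominant_toImage f
  haveI : IsSchemeTheoreticallyDominant m := IsSchemeTheoreticallyDominant.of_isPullback sq'
  rw [← hm, ker_comp_dominant]
  have e := Scheme.IdealSheafData.ker_fst_of_isClosedImmersion f.imageι g
  have h2 : (pullback.snd f.imageι g).ker = (pullback.fst g f.imageι).ker := by
    rw [← pullbackSymmetry_hom_comp_fst f.imageι g, Scheme.Hom.ker_comp_of_isIso]
  rw [h2, e]
  simp

/-- Ideals which agree after a flat surjective pullback agree. -/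
theorem map_comap_of_flat_surjective (g : Y' ⟶ Y) [Flat g] [Surjective g] (I : Y.IdealSheafData) :
    (I.comap g).map g = I := by
  have h : (pullback.fst g I.subschemeι).ker = I.comap g := by
    rw [Scheme.IdealSheafData.ker_fst_of_isClosedImmersion, Scheme.IdealSheafData.ker_subschemeι]
  rw [← h, Scheme.IdealSheafData.map_ker, pullback.condition]
  haveI := dominant_of_flat_surjective (pullback.snd g I.subschemeι)
  rw [ker_comp_dominant, Scheme.IdealSheafData.ker_subschemeι]

theorem comap_injective_of_flat_surjective (g : Y' ⟶ Y) [Flat g] [Surjective g] {I J : Y.IdealSheafData}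
    (h : I.comap g = J.comap g) : I = J := by
  rw [← map_comap_of_flat_surjective g I, h, map_comap_of_flat_surjective g J]

theorem comap_sSup (g : Y' ⟶ Y) (s : Set Y.IdealSheafData) :
    (sSup s).comap g = ⨆ I ∈ s, I.comap g :=
  (Scheme.IdealSheafData.map_gc g).l_sSup

end AlgSpRegLib
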