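import Groth.Agent.AlgSpLib.LocP
import Groth.Agent.AlgSpLib.Noeth
import Groth.Agent.AlgSpLib.MorPack
import Groth.Agent.MiscFlat6.LCPoint
import Groth.Prelude.Def_AlgSpDec
import Mathlib.AlgebraicGeometry.Morphisms.QuasiFinite
import Mathlib.RingTheory.Unramified.LocalStructure

/-! Dimension of algebraic spaces under quasi-finite and integral morphisms. -/

set_option autoImplicit false
universe u

open CategoryTheory CategoryTheory.Limits AlgebraicGeometry Topology TopologicalSpace
open AlgSp AlgSpLib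

namespace AlgSpRegLib

attribute [local instance] specializationOrder in
theorem topDim_le_of_lqf {X Y : Scheme.{u}} (f : X ⟶ Y) [LocallyQuasiFinite f] :
    topologicalKrullDim ↥X ≤ topologicalKrullDim ↥Y := by
  rw [topologicalKrullDim, topologicalKrullDim, Order.krullDim_eq_of_orderIso irreducibleSetEquivPoints,
    Order.krullDim_eq_of_orderIso (irreducibleSetEquivPoints (α := ↥Y))]
  refine Order.krullDim_le_of_strictMono (fun x => f x) fun a b hab => ?_
  refine lt_of_le_of_ne (show f b ⤳ f a from (show b ⤳ a from hab.le).map f.continuous) fun e => hab.ne ?_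
  haveI := (Scheme.Hom.isDiscrete_preimage_singleton f (f a)).to_subtype
  let a' : ↥(f ⁻¹' {f a}) := ⟨a, rfl⟩
  let b' : ↥(f ⁻¹' {f a}) := ⟨b, e.symm⟩
  have : b' ⤳ a' := (subtype_specializes_iff b' a').2 hab.le
  exact (congrArg Subtype.val this.eq).symm

theorem lqf_of_etale {X Y : Scheme.{u}} (f : X ⟶ Y) [Etale f] : LocallyQuasiFinite f := by
  rw [HasRingHomProperty.iff_appLE (P := @LocallyQuasiFinite)]
  intro U V e
  have h : (Scheme.Hom.appLE f U V e).hom.Etale :=
    HasRingHomProperty.appLE @AlgebraicGeometry.Etale f inferInstance U V e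
  algebraize [(Scheme.Hom.appLE f U V e).hom]
  haveI : Algebra.Etale Γ(Y, U) Γ(X, V) := by assumption
  exact (inferInstance : Algebra.QuasiFinite Γ(Y, U) Γ(X, V))

theorem topDim_le_of_etale {X Y : Scheme.{u}} (f : X ⟶ Y) [Etale f] :
    topologicalKrullDim ↥X ≤ topologicalKrullDim ↥Y :=
  haveI := lqf_of_etale f
  topDim_le_of_lqf f

theorem topDim_le_of_etale_surjective {X Y : Scheme.{u}} (f : X ⟶ Y) [Etale f] [Surjective f] :
    topologicalKrullDim ↥Y ≤ topologicalKrullDim ↥X :=
  topologicalKrullDim_le_of_generalizing (Flat.generalizingMap f) f.surjective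

variable {S : Scheme.{u}}

theorem topDim_le_dim {F : Sp S} {U : Over S} {a : (yon S).obj U ⟶ F} (ha : RepWith @Etale a) :
    topologicalKrullDim ↥U.left ≤ AlgSp.dim F :=
  le_iSup_of_le U (le_iSup_of_le a (le_iSup_of_le ha le_rfl))

/-- Any chart has dimension at most that of a surjective chart. -/
theorem topDim_le_atlas {F : Sp S} {U W : Over S} {a : (yon S).obj U ⟶ F}
    {c : (yon S).obj W ⟶ F} (ha : RepWith @Etale a) (hc : RepWith @Etale c) (hcs : RepWith @Surjective c) :
    topologicalKrullDim ↥U.left ≤ topologicalKrullDim ↥W.left := by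
  obtain ⟨T, p, q, sq⟩ := exists_isPullback_yon c a hc.rep
  have : Etale p.left := ha.property c _ _ sq.flip
  have : Etale q.left := hc.property a _ _ sq
  have : Surjective q.left := hcs.property a _ _ sq
  exact (topDim_le_of_etale_surjective q.left).trans (topDim_le_of_etale p.left)

theorem dim_eq_atlas {F : Sp S} {W : Over S}
    {c : (yon S).obj W ⟶ F} (hc : RepWith @Etale c) (hcs : RepWith @Surjective c) :
    AlgSp.dim F = topologicalKrullDim ↥W.left :=
  le_antisymm (iSup_le fun _ => iSup_le fun _ => iSup_le fun ha => topDim_le_atlas ha hc hcs)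
    (topDim_le_dim hc)

theorem dim_le_of_locP_lqf {F G : Sp S} (hF : IsAlgSpace F) (hG : IsAlgSpace G) {f : F ⟶ G}
    (hf : LocP (@LocallyQuasiFinite ⊓ @LocallyOfFiniteType) f) : AlgSp.dim F ≤ AlgSp.dim G := by
  obtain ⟨V, b, hb, hbs⟩ := hG.atlas
  obtain ⟨U, a, h, ha, has, e⟩ := exists_chart_over hF hG f b hb hbs
  rw [dim_eq_atlas ha has, dim_eq_atlas hb hbs]
  have : LocallyQuasiFinite h.left := (hf a b h ha hb e).1
  exact topDim_le_of_lqf h.left

theorem exists_integral_chart {F G : Sp S} (hG : IsAlgSpace G) {f : F ⟶ G} (hf : IsIntegralMor f) :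
    ∃ (W V : Over S) (c : (yon S).obj W ⟶ F) (b : (yon S).obj V ⟶ G) (i : W ⟶ V),
      RepWith @Etale c ∧ RepWith @Surjective c ∧ RepWith @Etale b ∧ RepWith @Surjective b ∧
      IsIntegralHom i.left ∧ IsPullback c ((yon S).map i) f b := by
  obtain ⟨V, b, hb, hbs⟩ := hG.atlas
  have h := isIntegralMor_iff.1 hf
  have sq := h.rep.isPullback b
  exact ⟨_, V, _, b, h.rep.snd b, repWith_of_isPullback sq.flip hb, repWith_of_isPullback sq.flip hbs, hb, hbs,
    h.property b _ _ sq, sq⟩

theorem dim_le_of_isIntegralMor {F G : Sp S} (hG : IsAlgSpace G) {f : F ⟶ G}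
    (hf : IsIntegralMor f) : AlgSp.dim F ≤ AlgSp.dim G := by
  obtain ⟨W, V, c, b, i, hc, hcs, hb, hbs, hi, -⟩ := exists_integral_chart hG hf
  rw [dim_eq_atlas hc hcs, dim_eq_atlas hb hbs]
  exact (MiscFlat6.dim_le_of_isIntegralHom i.left).1

end AlgSpRegLib

namespace AlgSpRegLib

variable {S : Scheme.{u}}

theorem dim_ge_of_isIntegralMor_surjective {F G : Sp S} (hG : IsAlgSpace G) {f : F ⟶ G}
    (hf : IsIntegralMor f) (hs : IsSurjectiveMor f) : AlgSp.dim G ≤ AlgSp.dim F := by
  obtain ⟨W, V, c, b, i, hc, hcs, hb, hbs, hi, sq⟩ := exists_integral_chart hG hf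
  have h2 : Function.Surjective (Points.map ((yon S).map i)) := map_surjective_of_isPullback sq hs
  rw [Points.map_yon_map_eq] at h2
  have : Surjective i.left :=
    ⟨(Function.Surjective.of_comp_left h2 (Points.schemeHomeo V).injective).of_comp⟩
  rw [dim_eq_atlas hb hbs, dim_eq_atlas hc hcs]
  exact ((MiscFlat6.dim_le_of_isIntegralHom i.left).2 this).ge

end AlgSpRegLib
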