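import Groth.Prelude.Def_AlgSpEt
import Groth.Prelude.Def_AlgSpCov
import Groth.Agent.AlgSpLib.Points
import Groth.Agent.AlgSpLib.LocP
import Mathlib.CategoryTheory.Sites.CoverPreserving
import Mathlib.CategoryTheory.Sites.CoverLifting

/-!
# Covering sieves of the etale sites
-/

set_option autoImplicit false
set_option backward.isDefEq.respectTransparency false
set_option backward.isDefEq.respectTransparency.types false

universe u v

open CategoryTheory CategoryTheory.Limits AlgebraicGeometry Opposite AlgSp AlgSpLib Topology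

namespace AlgSpRegLib

variable {S : Scheme.{u}}

/-- Points of an object of the etale site over an object of a fibre square. -/
theorem mem_etTop_iff {X : Sp S} {E : EtOver X} (T : Sieve E) :
    T ∈ etTop X E ↔ ∀ e : E.obj.left.left, ∃ (Z : EtOver X) (g : Z ⟶ E), T g ∧ e ∈ Set.range g.hom.left.left := by
  constructor
  · intro h
    replace h : (etPre X).Saturate E T := h
    induction h with
    | of U R hR =>
      intro e
      obtain ⟨ι, Z, g, rfl⟩ := R.exists_eq_ofArrows
      obtain ⟨i, hi⟩ := (ofArrows_mem_etPre_iff Z g).1 hR e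
      exact ⟨Z i, g i, Sieve.le_generate _ _ _ ⟨i⟩, hi⟩
    | top U => exact fun e => ⟨U, 𝟙 U, trivial, e, rfl⟩
    | pullback U T' _ V k ih =>
      intro e
      obtain ⟨Z, g, hg, z, hz⟩ := ih (k.hom.left.left e)
      obtain ⟨P, q, r, sq⟩ := exists_isPullback_yon ((yon S).map k.hom.left) ((yon S).map g.hom.left)
        (representable_yon_map k.hom.left)
      obtain ⟨w, hw₁, hw₂⟩ := (ofPt_eq_ofPt_iff sq e z).1 (by
        rw [ofPt_comp_ofScheme, ofPt_comp_ofScheme, Function.comp_apply, Function.comp_apply,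
          Points.map_yon_map_apply, Points.map_yon_map_apply, hz])
      haveI := EtOver.etale_left g
      haveI : Etale q.left := etale_left (repWith_of_isPullback sq.flip
        ((repWith_yon_map_iff (P := (@Etale : MorphismProperty Scheme.{u})) g.hom.left).2 ‹_›))
      let Z' : EtOver X := EtOver.mk ((yon S).map q ≫ V.obj.hom)
        (AlgSpLib.repWith_comp ((repWith_yon_map_iff (P := (@Etale : MorphismProperty Scheme.{u})) q).2 ‹_›) V.property)
      refine ⟨Z', EtOver.homMk q rfl, ?_, w, hw₁⟩
      have hr : (yon S).map r ≫ Z.obj.hom = (yon S).map q ≫ V.obj.hom := by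
        rw [← EtOver.w g, ← Category.assoc, ← sq.w, Category.assoc, EtOver.w k]
      have e' : EtOver.homMk (E := Z') q rfl ≫ k = EtOver.homMk (E := Z') r hr ≫ g :=
        EtOver.hom_ext _ _ ((yon S).map_injective (by
          change (yon S).map (q ≫ k.hom.left) = (yon S).map (r ≫ g.hom.left)
          rw [Functor.map_comp, Functor.map_comp, sq.w]))
      change T' _
      rw [e']
      exact T'.downward_closed hg _
    | transitive U T' R _ _ ih₁ ih₂ =>
      intro e
      obtain ⟨Z, g, hg, z, rfl⟩ := ih₁ e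
      obtain ⟨Z', g', hg', z', rfl⟩ := ih₂ hg z
      exact ⟨Z', g' ≫ g, hg', z', rfl⟩
  · intro h
    choose Z g hg he using h
    refine (etTop X).superset_covering ?_ (ofArrows_mem_etTop (ι := E.obj.left.left) Z g fun e => ⟨e, he e⟩)
    exact (Sieve.generate_le_iff _ _).2 fun _ _ ⟨i⟩ => hg i

/-- The covering sieves of the big etale site of algebraic spaces. -/
theorem mem_spacesTop_etale_iff {X : Space S} (T : Sieve X) :
    T ∈ spacesTop S IsEtaleMor X ↔ ∀ x : Points X.obj, ∃ (Z : Space S) (g : Z ⟶ X),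
      T g ∧ IsEtaleMor g.hom ∧ x ∈ Set.range (Points.map g.hom) := by
  constructor
  · intro h
    replace h : (spacesPre S IsEtaleMor).Saturate X T := h
    induction h with
    | of U R hR =>
      intro x
      obtain ⟨Z, g, hg, hx⟩ := hR.2 x
      exact ⟨Z, g, Sieve.le_generate _ _ _ hg, hR.1 g hg, hx⟩
    | top U => exact fun x => ⟨U, 𝟙 U, trivial, fun W φ hφ => by simpa using hφ, x, Points.map_id x⟩
    | pullback U T' _ V k ih =>
      intro x
      obtain ⟨Z, g, hg, hge, z, hz⟩ := ih (Points.map k.hom x)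
      have sq := IsPullback.of_hasPullback g.hom k.hom
      obtain ⟨w, hw₁, hw₂⟩ := exists_point_isPullback sq z x hz
      let P : Space S := ⟨pullback g.hom k.hom, isAlgSpace_pullback Z.property V.property U.property g.hom k.hom⟩
      refine ⟨P, ObjectProperty.homMk (pullback.snd g.hom k.hom), ?_,
        isEtaleMor_of_isPullback Z.property U.property V.property sq hge, w, hw₂⟩
      change T' _
      have e' : (ObjectProperty.homMk (pullback.snd g.hom k.hom) : P ⟶ V) ≫ k =
          (ObjectProperty.homMk (pullback.fst g.hom k.hom) : P ⟶ Z) ≫ g := by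
        ext1; exact sq.w.symm
      rw [e']
      exact T'.downward_closed hg _
    | transitive U T' R _ _ ih₁ ih₂ =>
      intro x
      obtain ⟨Z, g, hg, hge, z, rfl⟩ := ih₁ x
      obtain ⟨Z', g', hg', hge', z', rfl⟩ := ih₂ hg z
      exact ⟨Z', g' ≫ g, hg', isEtaleMor_comp hge hge', z', Points.map_comp _ _ _⟩
  · intro h
    let R : Presieve X := fun Z g => T g ∧ IsEtaleMor g.hom
    refine (spacesTop S IsEtaleMor).superset_covering ((Sieve.generate_le_iff R T).2 fun _ _ hg => hg.1)
      (Precoverage.generate_mem_toGrothendieck ⟨fun _ _ hg => hg.2, fun x => ?_⟩)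
    obtain ⟨Z, g, hg, hge, hx⟩ := h x
    exact ⟨Z, g, ⟨hg, hge⟩, hx⟩

section postcomp

variable {X Y : Sp S} (f : X ⟶ Y) (hf : IsEtaleMor f)

theorem postcomp_isCocontinuous : (EtOver.postcomp f hf).IsCocontinuous (etTop X) (etTop Y) where
  cover_lift {E T} hT := by
    refine (mem_etTop_iff _).2 fun e => ?_
    obtain ⟨Z, g, hg, he⟩ := (mem_etTop_iff T).1 hT e
    let k : Z.obj.left ⟶ E.obj.left := g.hom.left
    let Z' : EtOver X := EtOver.mk ((yon S).map k ≫ E.obj.hom)
      (AlgSpLib.repWith_comp ((repWith_yon_map_iff (P := (@Etale : MorphismProperty Scheme.{u})) k).2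
        (EtOver.etale_left g)) E.property)
    refine ⟨Z', EtOver.homMk k rfl, ?_, he⟩
    change T _
    have e' : (EtOver.postcomp f hf).map (EtOver.homMk (E := Z') k rfl) =
        EtOver.homMk (E := (EtOver.postcomp f hf).obj Z') (E' := Z) (𝟙 Z.obj.left) (by
          change (yon S).map (𝟙 _) ≫ Z.obj.hom = ((yon S).map k ≫ E.obj.hom) ≫ f
          rw [CategoryTheory.Functor.map_id, Category.id_comp, ← EtOver.w g, Category.assoc]; rfl) ≫ g :=
      EtOver.hom_ext _ _ (Category.id_comp _).symm
    rw [e']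
    exact T.downward_closed hg _

theorem postcomp_coverPreserving : CoverPreserving (etTop X) (etTop Y) (EtOver.postcomp f hf) where
  cover_preserve {E T} hT := by
    refine (mem_etTop_iff _).2 fun e => ?_
    obtain ⟨Z, g, hg, he⟩ := (mem_etTop_iff T).1 hT e
    exact ⟨_, (EtOver.postcomp f hf).map g, Presieve.image_mem_functorPushforward _ _ hg, he⟩

theorem postcomp_compatiblePreserving : CompatiblePreserving.{v} (etTop Y) (EtOver.postcomp f hf) where
  compatible := by
    intro ℱ U T x hx Y₁ Y₂ W f₁ f₂ g₁ g₂ hg₁ hg₂ eq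
    let Z' : EtOver X := EtOver.mk ((yon S).map f₁.hom.left ≫ Y₁.obj.hom)
      (AlgSpLib.repWith_comp ((repWith_yon_map_iff (P := (@Etale : MorphismProperty Scheme.{u})) f₁.hom.left).2
        (EtOver.etale_left f₁)) Y₁.property)
    have eleft : f₁.hom.left ≫ g₁.hom.left = f₂.hom.left ≫ g₂.hom.left := congrArg (fun t => t.hom.left) eq
    let a₁ : Z' ⟶ Y₁ := EtOver.homMk f₁.hom.left rfl
    let a₂ : Z' ⟶ Y₂ := EtOver.homMk f₂.hom.left (by
      change (yon S).map f₂.hom.left ≫ Y₂.obj.hom = (yon S).map f₁.hom.left ≫ Y₁.obj.hom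
      rw [← EtOver.w g₂, ← EtOver.w g₁, ← Category.assoc, ← Category.assoc, ← Functor.map_comp, ← Functor.map_comp,
        eleft])
    let i : W ⟶ (EtOver.postcomp f hf).obj Z' := EtOver.homMk (𝟙 W.obj.left) (by
      change (yon S).map (𝟙 _) ≫ ((yon S).map f₁.hom.left ≫ Y₁.obj.hom) ≫ f = W.obj.hom
      rw [CategoryTheory.Functor.map_id, Category.id_comp, ← EtOver.w f₁, Category.assoc]; rfl)
    have e₁ : f₁ = i ≫ (EtOver.postcomp f hf).map a₁ := EtOver.hom_ext _ _ (Category.id_comp _).symm
    have e₂ : f₂ = i ≫ (EtOver.postcomp f hf).map a₂ := EtOver.hom_ext _ _ (Category.id_comp _).symm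
    have h := hx a₁ a₂ hg₁ hg₂ (EtOver.hom_ext _ _ eleft)
    rw [e₁, e₂, op_comp, op_comp, Functor.map_comp_apply, Functor.map_comp_apply]
    exact congrArg _ h

theorem postcomp_isContinuous : (EtOver.postcomp f hf).IsContinuous (etTop X) (etTop Y) :=
  Functor.isContinuous_of_coverPreserving (postcomp_compatiblePreserving f hf) (postcomp_coverPreserving f hf)

end postcomp

section toSpaces

variable {X Y : Space S} (f : Y ⟶ X)

/-- The comparison functor from the small etale site to the big etale site over the target. -/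
noncomputable abbrev toBig : EtOver Y.obj ⥤ Over X :=
  EtOver.toEtSpOver Y ⋙ ObjectProperty.ι (fun E : Over Y => IsEtaleMor E.hom.hom) ⋙ Over.map f

theorem toBig_isCocontinuous : (toBig f).IsCocontinuous (etTop Y.obj) (spacesTopOver IsEtaleMor X) where
  cover_lift {E T} hT := by
    refine (mem_etTop_iff _).2 fun e => ?_
    obtain ⟨Z, g, hg, hge, z, hz⟩ := (mem_spacesTop_etale_iff _).1 ((GrothendieckTopology.mem_over_iff _ _).1 hT)
      (Points.schemeHomeo E.obj.left e)
    obtain ⟨V, a, ha, has⟩ := Z.property.atlas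
    obtain ⟨v, rfl⟩ := surjective_ofPt has z
    obtain ⟨k, hk⟩ := (yon S).map_surjective (a ≫ g.hom)
    have hk' : RepWith @Etale ((yon S).map k) := hk ▸ hge a ha
    let Z' : EtOver Y.obj := EtOver.mk ((yon S).map k ≫ E.obj.hom) (AlgSpLib.repWith_comp hk' E.property)
    refine ⟨Z', EtOver.homMk k rfl, ?_, v, ?_⟩
    · rw [Sieve.overEquiv_iff] at hg
      change T _
      let a' : ((toBig f).obj Z').left ⟶ Z := ObjectProperty.homMk a
      let g' : Over.mk (g ≫ ((toBig f).obj E).hom) ⟶ (toBig f).obj E := Over.homMk g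
      have e' : (toBig f).map (EtOver.homMk (E := Z') k rfl) = Over.homMk a' (by
          ext1
          change a ≫ g.hom ≫ E.obj.hom ≫ f.hom = ((yon S).map k ≫ E.obj.hom) ≫ f.hom
          rw [hk, Category.assoc, Category.assoc]) ≫ g' := by
        ext : 2
        exact hk
      rw [e']
      exact T.downward_closed hg _
    · apply (Points.schemeHomeo E.obj.left).injective
      rw [← hz, Points.map_ofPt, ← hk, ofPt_comp_ofScheme, Function.comp_apply, Points.map_yon_map_apply]
      rfl

theorem toBig_coverPreserving : CoverPreserving (etTop Y.obj) (spacesTopOver IsEtaleMor X) (toBig f) where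
  cover_preserve {E T} hT := by
    refine (GrothendieckTopology.mem_over_iff _ _).2 ((mem_spacesTop_etale_iff _).2 fun x => ?_)
    obtain ⟨e, rfl⟩ := (Points.schemeHomeo E.obj.left).surjective x
    obtain ⟨Z, g, hg, z, hz⟩ := (mem_etTop_iff T).1 hT e
    refine ⟨_, ((toBig f).map g).left, ?_, isEtaleMor_of_repWith _
      ((repWith_yon_map_iff (P := (@Etale : MorphismProperty Scheme.{u})) g.hom.left).2 (EtOver.etale_left g)),
      Points.schemeHomeo Z.obj.left z, ?_⟩
    · rw [Sieve.overEquiv_iff]
      let i : Over.mk (((toBig f).map g).left ≫ ((toBig f).obj E).hom) ⟶ (toBig f).obj Z :=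
        Over.homMk (𝟙 _) (by rw [Category.id_comp]; exact (Over.w ((toBig f).map g)).symm)
      have e' : (Over.homMk ((toBig f).map g).left rfl :
          Over.mk (((toBig f).map g).left ≫ ((toBig f).obj E).hom) ⟶ (toBig f).obj E) = i ≫ (toBig f).map g := by
        ext : 1; exact (Category.id_comp _).symm
      change (Sieve.functorPushforward (toBig f) T) _
      rw [e']
      exact Sieve.downward_closed _ (show (Sieve.functorPushforward (toBig f) T).arrows ((toBig f).map g) from
        ⟨_, g, 𝟙 _, hg, (Category.id_comp _).symm⟩) i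
    · change Points.map ((yon S).map g.hom.left) _ = _
      rw [Points.map_yon_map_apply, hz]

theorem toBig_compatiblePreserving : CompatiblePreserving.{v} (spacesTopOver IsEtaleMor X) (toBig f) where
  compatible := by
    intro ℱ U T x hx Y₁ Y₂ W f₁ f₂ g₁ g₂ hg₁ hg₂ eq
    have eleft : f₁.left.hom ≫ (yon S).map g₁.hom.left = f₂.left.hom ≫ (yon S).map g₂.hom.left :=
      congrArg (fun t => t.left.hom) eq
    obtain ⟨P, q, r, sq⟩ := exists_isPullback_yon ((yon S).map g₁.hom.left) ((yon S).map g₂.hom.left)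
      (representable_yon_map g₁.hom.left)
    haveI := EtOver.etale_left g₂
    let Z' : EtOver Y.obj := EtOver.mk ((yon S).map q ≫ Y₁.obj.hom) (AlgSpLib.repWith_comp
      (repWith_of_isPullback sq.flip ((repWith_yon_map_iff (P := (@Etale : MorphismProperty Scheme.{u})) _).2 ‹_›))
      Y₁.property)
    let a₁ : Z' ⟶ Y₁ := EtOver.homMk q rfl
    let a₂ : Z' ⟶ Y₂ := EtOver.homMk r (by
      change (yon S).map r ≫ Y₂.obj.hom = (yon S).map q ≫ Y₁.obj.hom
      rw [← EtOver.w g₂, ← EtOver.w g₁, ← Category.assoc, ← Category.assoc, sq.w])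
    let l : W.left ⟶ ((toBig f).obj Z').left := ObjectProperty.homMk (sq.lift f₁.left.hom f₂.left.hom eleft)
    let i : W ⟶ (toBig f).obj Z' := Over.homMk l (by
      ext1
      change sq.lift f₁.left.hom f₂.left.hom eleft ≫ ((yon S).map q ≫ Y₁.obj.hom) ≫ f.hom = W.hom.hom
      rw [← Category.assoc, ← Category.assoc, sq.lift_fst, Category.assoc]
      exact congrArg (fun t => t.hom) (Over.w f₁))
    have e₁ : f₁ = i ≫ (toBig f).map a₁ := by ext : 2; exact (sq.lift_fst _ _ _).symm
    have e₂ : f₂ = i ≫ (toBig f).map a₂ := by ext : 2; exact (sq.lift_snd _ _ _).symm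
    have h := hx a₁ a₂ hg₁ hg₂ (EtOver.hom_ext _ _ ((yon S).map_injective (by
      change (yon S).map (q ≫ g₁.hom.left) = (yon S).map (r ≫ g₂.hom.left)
      rw [Functor.map_comp, Functor.map_comp, sq.w])))
    rw [e₁, e₂, op_comp, op_comp, Functor.map_comp_apply, Functor.map_comp_apply]
    exact congrArg _ h

theorem toBig_isContinuous : (toBig f).IsContinuous (etTop Y.obj) (spacesTopOver IsEtaleMor X) :=
  Functor.isContinuous_of_coverPreserving (toBig_compatiblePreserving f) (toBig_coverPreserving f)

end toSpaces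

end AlgSpRegLib
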