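import Groth.Agent.AlgSpRegLib.StalkZero
import Mathlib.CategoryTheory.Sites.Point.Conservative
import Mathlib.CategoryTheory.Sites.Point.Skyscraper
import Mathlib.FieldTheory.IsAlgClosed.AlgebraicClosure

/-!
# The small etale site of an algebraic space has enough points
-/

set_option autoImplicit false
set_option backward.isDefEq.respectTransparency false
set_option backward.isDefEq.respectTransparency.types false

universe u u' v'

open CategoryTheory CategoryTheory.Limits AlgebraicGeometry Opposite AlgSp AlgSpLib Topology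

namespace AlgSpRegLib

variable {S : Scheme.{u}} {X : Sp S}

/-- The fibre functor of a geometric point, one universe up. -/
noncomputable def geomFiber (p : FieldPt X) : EtOver X ⥤ Type (u + 1) := FieldPt.liftsTo p ⋙ uliftFunctor.{u + 1, u}

/-- The neighbourhoods are the elements of the lifted fibre functor. -/
noncomputable def nbhdEquiv (p : FieldPt X) : EtNbhd p ≌ (geomFiber p).Elements where
  functor :=
    { obj := fun N => ⟨N.1, ULift.up N.2⟩
      map := fun g => CategoryOfElements.homMk _ _ g.1 (congrArg ULift.up g.2) }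
  inverse :=
    { obj := fun N => ⟨N.1, N.2.down⟩
      map := fun g => CategoryOfElements.homMk _ _ g.1 (congrArg ULift.down g.2) }
  unitIso := Iso.refl _
  counitIso := Iso.refl _

/-- A geometric point as a point of the small etale site. -/
noncomputable def geomPoint (hX : IsAlgSpace X) (p : FieldPt X) (hp : p.IsGeometric) :
    GrothendieckTopology.Point.{u + 1} (etTop X) where
  fiber := geomFiber p
  isCofiltered :=
    haveI := isCofiltered_etNbhd hX p hp
    IsCofiltered.of_equivalence (nbhdEquiv p)
  initiallySmall :=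
    haveI : EssentiallySmall.{u + 1} (geomFiber p).Elements := essentiallySmall_of_small_of_locallySmall _
    initiallySmall_of_essentiallySmall _
  jointly_surjective := fun {E} R hR x => by
    obtain ⟨Z, g, hg, z, hz⟩ := (mem_etTop_iff R).1 hR (x.down.1.left (IsLocalRing.closedPoint p.K))
    obtain ⟨l, hl⟩ := exists_refine p hp ⟨E, x.down⟩ g z hz
    exact ⟨Z, g, hg, ULift.up l, congrArg ULift.up hl⟩

/-- The stalk at a geometric point is the fibre functor of the point. -/
noncomputable def stalkEtPshIso (hX : IsAlgSpace X) (p : FieldPt X) (hp : p.IsGeometric) (A : Type u') [Category.{v'} A]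
    [HasColimitsOfSize.{u + 1, u + 1} A] [HasColimitsOfShape (EtNbhd p)ᵒᵖ A] :
    (geomPoint hX p hp).presheafFiber (A := A) ≅ stalkEtPshFunctor A p :=
  haveI : HasColimitsOfShape (geomFiber p).Elementsᵒᵖ A :=
    inferInstanceAs (HasColimitsOfShape (geomPoint hX p hp).fiber.Elementsᵒᵖ A)
  (Functor.isoWhiskerLeft ((Functor.whiskeringLeft _ _ A).obj (CategoryOfElements.π (geomFiber p)).op)
    (Functor.Final.colimIso (nbhdEquiv p).functor.op).symm :)

noncomputable def stalkEtIso (hX : IsAlgSpace X) (p : FieldPt X) (hp : p.IsGeometric) (A : Type u') [Category.{v'} A]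
    [HasColimitsOfSize.{u + 1, u + 1} A] [HasColimitsOfShape (EtNbhd p)ᵒᵖ A] :
    (geomPoint hX p hp).sheafFiber (A := A) ≅ stalkEtFunctor A p :=
  Functor.isoWhiskerLeft (sheafToPresheaf (etTop X) A) (stalkEtPshIso hX p hp A)

theorem exists_geometric_over (E : EtOver X) (e : E.obj.left.left) :
    ∃ (p : FieldPt X) (_ : p.IsGeometric) (l : (FieldPt.liftsTo p).obj E),
      l.1.left (IsLocalRing.closedPoint p.K) = e ∧ Points.mk p = Points.ofPt E.obj.hom e := by
  let K := AlgebraicClosure (E.obj.left.left.residueField e)
  let a : Spec (CommRingCat.of K) ⟶ E.obj.left.left :=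
    Spec.map (CommRingCat.ofHom (algebraMap (E.obj.left.left.residueField e) K)) ≫
      E.obj.left.left.fromSpecResidueField e
  let str := a ≫ E.obj.left.hom
  let k : Over.mk str ⟶ E.obj.left := Over.homMk a rfl
  let p : FieldPt X := { K := K, str := str, val := (AlgSp.J S).uliftYonedaEquiv ((yon S).map k ≫ E.obj.hom) }
  have hto : p.toHom = (yon S).map k ≫ E.obj.hom := Equiv.symm_apply_apply _ _
  have he : a (IsLocalRing.closedPoint K) = e := by
    rw [Scheme.Hom.comp_apply]
    exact Scheme.fromSpecResidueField_apply _ _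
  refine ⟨p, (inferInstance : IsAlgClosed K), ⟨k, hto.symm⟩, he, ?_⟩
  rw [← Points.ofPt_toHom p (IsLocalRing.closedPoint K), hto, ofPt_yon_comp]
  exact congrArg _ he

/-- The family of geometric points. -/
def geomPoints (hX : IsAlgSpace X) : ObjectProperty (GrothendieckTopology.Point.{u + 1} (etTop X)) :=
  fun Φ => ∃ (p : FieldPt X) (hp : p.IsGeometric), Φ = geomPoint hX p hp

theorem geomPoints_conservative (hX : IsAlgSpace X) : (geomPoints hX).IsConservativeFamilyOfPoints := by
  refine ObjectProperty.IsConservativeFamilyOfPoints.mk' fun E R h => (mem_etTop_iff R).2 fun e => ?_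
  obtain ⟨p, hp, l, hl, -⟩ := exists_geometric_over E e
  obtain ⟨Z, g, hg, y, hy⟩ := h ⟨geomPoint hX p hp, p, hp, rfl⟩ (ULift.up l)
  exact ⟨Z, g, hg, y.down.1.left (IsLocalRing.closedPoint p.K),
    (congrArg (fun t => t.down.1.left (IsLocalRing.closedPoint p.K)) hy).trans hl⟩

end AlgSpRegLib
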