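import Groth.Agent.AlgSpRegLib.CartierSpace
import Groth.Agent.AlgSpRegLib.ImageScheme
import Groth.Agent.AlgSpLib.ImmLocal
import Groth.Agent.AlgSpLib.Bootstrap
import Groth.Agent.AlgSpLib.SheafDesc
import Groth.Agent.AlgSpLib.Iso

/-!
# Closed subspaces from invariant closed subschemes of a chart
-/

set_option autoImplicit false
set_option backward.isDefEq.respectTransparency false
set_option backward.isDefEq.respectTransparency.types false

universe u

open CategoryTheory CategoryTheory.Limits AlgebraicGeometry Opposite AlgSp AlgSpLib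

namespace AlgSpRegLib

variable {S : Scheme.{u}}

/-- The closed subscheme of a chart, as an object over `S`. -/
noncomputable abbrev subOver (V : Over S) (I : V.left.IdealSheafData) : Over S := Over.mk (I.subschemeι ≫ V.hom)

/-- Its inclusion. -/
noncomputable abbrev subι (V : Over S) (I : V.left.IdealSheafData) : subOver V I ⟶ V := Over.homMk I.subschemeι rfl

theorem mono_subι (V : Over S) (I : V.left.IdealSheafData) : Mono (subι V I) :=
  (Over.forget S).mono_of_mono_map (inferInstanceAs (Mono I.subschemeι))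

theorem factor_subι {T V : Over S} (I : V.left.IdealSheafData) (r : T ⟶ V) :
    (∃ l, l ≫ subι V I = r) ↔ I.comap r.left = ⊥ := by
  rw [← factor_iff_comap]
  refine ⟨fun ⟨l, h⟩ => ⟨l.left, congrArg (fun k => k.left) h⟩, fun ⟨l, h⟩ => ?_⟩
  refine ⟨Over.homMk l (by
    show l ≫ I.subschemeι ≫ V.hom = T.hom
    rw [reassoc_of% h]; exact Over.w r), ?_⟩
  ext : 1
  exact h

theorem locSurj_of_atlas {F : Sp S} {U : Over S} {a : (yon S).obj U ⟶ F} (ha : RepWith @Etale a)
    (has : RepWith @Surjective a) : Sheaf.IsLocallySurjective a :=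
  isLocallySurjective_of_repWith
    (repWith_mono (fun _ _ g (_ : Etale g) => (inferInstance : Flat g)) ha)
    (repWith_mono (fun _ _ g (_ : Etale g) => (inferInstance : LocallyOfFinitePresentation g)) ha) has

/-- Factorisation through a monomorphism is local for local surjections. -/
theorem factor_of_cover {Z X A U : Sp S} (i : Z ⟶ X) [Mono i] (a : U ⟶ A) [Sheaf.IsLocallySurjective a]
    (g : A ⟶ X) (l : U ⟶ Z) (h : l ≫ i = a ≫ g) : ∃ k : A ⟶ Z, k ≫ i = g := by
  have sq := IsPullback.of_hasPullback i g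
  have e : pullback.lift l a h ≫ pullback.snd i g = a := pullback.lift_snd _ _ _
  haveI : Sheaf.IsLocallySurjective (pullback.snd i g) :=
    Presheaf.isLocallySurjective_of_isLocallySurjective_fac (AlgSp.J S)
      (show (pullback.lift l a h).hom ≫ (pullback.snd i g).hom = a.hom from congrArg (fun t => t.hom) e)
  haveI := isIso_of_mono_isLocallySurjective (pullback.snd i g)
  exact ⟨inv (pullback.snd i g) ≫ pullback.fst i g, by rw [Category.assoc, sq.w, IsIso.inv_hom_id_assoc]⟩

theorem hom_ext_of_family {G : Sp S} {T : Over S} {V : T.left → Over S} (h : ∀ t, V t ⟶ T)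
    (h₁ : ∀ t, Flat (h t).left) (h₂ : ∀ t, LocallyOfFinitePresentation (h t).left)
    (h₃ : ∀ t, t ∈ Set.range (h t).left) {p p' : (yon S).obj T ⟶ G}
    (e : ∀ t, (yon S).map (h t) ≫ p = (yon S).map (h t) ≫ p') : p = p' := by
  refine yEq.injective ?_
  refine (((isSheaf_iff_isSheaf_of_type _ _).1 G.property _
    (ofArrows_mem_J h h₁ h₂ fun t => ⟨t, h₃ t⟩)).isSeparatedFor).ext ?_
  rintro Z g ⟨W, k, c, ⟨t⟩, rfl⟩
  rw [← yEq_map, ← yEq_map, Functor.map_comp, Category.assoc, Category.assoc, e]

/-- A closed subscheme of an atlas which is invariant descends to a closed subspace. -/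
theorem exists_closedSub {X : Sp S} (hX : IsAlgSpace X) {V : Over S} {φ : (yon S).obj V ⟶ X}
    (hφ : RepWith @Etale φ) (hφs : RepWith @Surjective φ) (I : V.left.IdealSheafData)
    (hinv : ∀ (T : Over S) (r s : T ⟶ V), (yon S).map r ≫ φ = (yon S).map s ≫ φ →
      I.comap r.left = I.comap s.left) :
    ∃ (Z : Sp S) (i : Z ⟶ X) (z : (yon S).obj (subOver V I) ⟶ Z), IsAlgSpace Z ∧
      RepWith @IsClosedImmersion i ∧ IsPullback z ((yon S).map (subι V I)) i φ ∧
      Sheaf.IsLocallySurjective z := by
  let a := (yon S).map (subι V I) ≫ φ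
  haveI := mono_subι V I
  haveI : Mono ((yon S).map (subι V I)) := inferInstance
  haveI : Epi (Sheaf.toImage a) := inferInstance
  haveI hz : Sheaf.IsLocallySurjective (Sheaf.toImage a) := (Sheaf.isLocallySurjective_iff_epi _).mpr ‹_›
  have sq : IsPullback (Sheaf.toImage a) ((yon S).map (subι V I)) (Sheaf.imageι a) φ := by
    refine isPullback_of_forall_existsUnique (Sheaf.toImage_ι _) fun T x y hxy => ?_
    obtain ⟨y, rfl⟩ := (yon S).map_surjective y
    obtain ⟨C, c, h₁, h₂, h₃, hl⟩ := exists_lift_of_isLocallySurjective (Sheaf.toImage a) x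
    have hc : ∀ t, ∃ l : C t ⟶ subOver V I, l ≫ subι V I = c t ≫ y := fun t => by
      obtain ⟨l, hl⟩ := hl t
      obtain ⟨l, rfl⟩ := (yon S).map_surjective l
      have := congrArg (· ≫ Sheaf.imageι a) hl
      simp only [Category.assoc, Sheaf.toImage_ι, hxy, a] at this
      rw [← Functor.map_comp_assoc, ← Functor.map_comp_assoc] at this
      rw [factor_subι, ← hinv _ _ _ this]
      exact (factor_subι I _).1 ⟨l, rfl⟩
    choose l hl using hc
    obtain ⟨b, hb⟩ := exists_amalgamation c h₁ h₂ (fun t => ⟨t, h₃ t⟩) (fun t => (yon S).map (l t))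
      fun i j Z gi gj hg => by
        rw [← cancel_mono ((yon S).map (subι V I)), ← Functor.map_comp, ← Functor.map_comp, ← Functor.map_comp,
          ← Functor.map_comp, Category.assoc, Category.assoc, hl, hl, reassoc_of% hg]
    have hby : b ≫ (yon S).map (subι V I) = (yon S).map y := hom_ext_of_family c h₁ h₂ h₃ fun t => by
      rw [← Category.assoc, hb, ← Functor.map_comp, hl, Functor.map_comp]
    refine ⟨b, ⟨?_, hby⟩, fun b' hb' => by rw [← cancel_mono ((yon S).map (subι V I)), hby, hb'.2]⟩
    rw [← cancel_mono (Sheaf.imageι a), Category.assoc, Sheaf.toImage_ι, hxy]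
    simp only [a, reassoc_of% hby]
  have hze : RepWith @Etale (Sheaf.toImage a) := repWith_of_isPullback sq.flip hφ
  have hzs : RepWith @Surjective (Sheaf.toImage a) := repWith_of_isPullback sq.flip hφs
  have hZ := isAlgSpace_of_atlas _ hze hzs
  refine ⟨_, Sheaf.imageι a, Sheaf.toImage a, hZ, ?_, sq, hz⟩
  refine repWith_imm_of_fppf (Or.inl rfl) hX (fun _ : PUnit.{u + 1} => IsAlgSpace.yon_obj V)
    (isFppfCover_of_charts (fun _ : PUnit.{u + 1} => φ) (fun _ => hφ)
      fun x => ⟨⟨⟩, map_surjective_of_repWith hφs x⟩) hZ (fun _ => sq) fun _ => ?_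
  exact (repWith_yon_map_iff _ _).2 (inferInstanceAs (IsClosedImmersion I.subschemeι))

end AlgSpRegLib
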