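import Groth.Agent.AlgSpRegLib.ImageIdeal

/-!
# Closed subspaces cut out by quasi-coherent sheaves of ideals
-/

set_option autoImplicit false
set_option backward.isDefEq.respectTransparency false
set_option backward.isDefEq.respectTransparency.types false

universe u

open CategoryTheory CategoryTheory.Limits AlgebraicGeometry Opposite AlgSp AlgSpLib TopologicalSpace

namespace AlgSpRegLib

section Scheme

variable {V : Scheme.{u}}

theorem isIso_opensι_appLE (W : V.Opens) : IsIso (W.ι.appLE W ⊤ (by simp)) := by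
  have h0 := W.ι_image_top
  have : (homOfLE (X := V.Opens) (show W.ι ''ᵁ ⊤ ≤ W from h0.le)) = eqToHom h0 := Subsingleton.elim _ _
  simp only [Scheme.Opens.ι_appLE, this, eqToHom_op, eqToHom_map]
  exact ⟨eqToHom (by show Γ(V, W.ι ''ᵁ ⊤) = _; rw [h0]), eqToHom_trans _ _, eqToHom_trans _ _⟩

theorem bijective_opensι_appLE (W : V.Opens) : Function.Bijective (W.ι.appLE W ⊤ (by simp)).hom :=
  haveI := isIso_opensι_appLE W
  ConcreteCategory.bijective_of_isIso _

theorem ideal_eq_of_comap_top_eq {I J : V.IdealSheafData} (W : V.affineOpens)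
    (h : haveI : IsAffine W.1.toScheme := W.2
      (I.comap W.1.ι).ideal ⟨⊤, isAffineOpen_top W.1.toScheme⟩ =
        (J.comap W.1.ι).ideal ⟨⊤, isAffineOpen_top W.1.toScheme⟩) : I.ideal W = J.ideal W := by
  haveI : IsAffine W.1.toScheme := W.2
  rw [ChevLib.ideal_comap_openImmersion_top I W.1.ι W (by simp),
    ChevLib.ideal_comap_openImmersion_top J W.1.ι W (by simp)] at h
  have h2 := congrArg (Ideal.comap (W.1.ι.appLE W.1 ⊤ (by simp)).hom) h
  rwa [Ideal.comap_map_of_bijective _ (bijective_opensι_appLE W.1),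
    Ideal.comap_map_of_bijective _ (bijective_opensι_appLE W.1)] at h2

theorem eq_of_cover {I J : V.IdealSheafData} {ι : Type*} (U : ι → V.affineOpens) (hU : ⨆ i, (U i).1 = ⊤)
    (h : ∀ i, haveI : IsAffine (U i).1.toScheme := (U i).2
      (I.comap (U i).1.ι).ideal ⟨⊤, isAffineOpen_top (U i).1.toScheme⟩ =
        (J.comap (U i).1.ι).ideal ⟨⊤, isAffineOpen_top (U i).1.toScheme⟩) : I = J :=
  Scheme.IdealSheafData.ext_of_iSup_eq_top U hU fun i => ideal_eq_of_comap_top_eq (U i) (h i)

end Scheme

variable {S : Scheme.{u}} {X : Sp S}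

/-- The etale object given by an open of the underlying scheme of a chart. -/
noncomputable abbrev openObj {V : Over S} (φ : (yon S).obj V ⟶ X) (hφ : RepWith @Etale φ) (W : V.left.Opens) :
    EtOver X :=
  EtOver.mk ((yon S).map (Over.homMk W.ι rfl : Over.mk (W.ι ≫ V.hom) ⟶ V) ≫ φ)
    (repWith_comp ((repWith_yon_map_iff (P := (@Etale : MorphismProperty Scheme.{u})) _).2
      (inferInstanceAs (Etale W.ι))) hφ)

theorem isAffine_openObj {V : Over S} (φ : (yon S).obj V ⟶ X) (hφ : RepWith @Etale φ) (W : V.left.affineOpens) :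
    IsAffine (openObj φ hφ W.1).obj.left.left := W.2

theorem qcoh_map_eq {I : IdealEt X} (hI : I.IsQCoh) {E E' : EtOver X} (g : E' ⟶ E)
    (hE : IsAffine E.obj.left.left) (hE' : IsAffine E'.obj.left.left) :
    (I.ideal E hE).map g.hom.left.left.appTop.hom = I.ideal E' hE' :=
  le_antisymm (I.map_le g hE hE') (hI g hE hE')

/-- An ideal sheaf on a chart with the values of `I`. -/
theorem exists_chart_ideal (I : IdealEt X) (hI : I.IsQCoh) {V : Over S} {φ : (yon S).obj V ⟶ X}
    (hφ : RepWith @Etale φ) :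
    ∃ K : V.left.IdealSheafData, ∀ (W : V.left.affineOpens), haveI : IsAffine W.1.toScheme := W.2
      (K.comap W.1.ι).ideal ⟨⊤, isAffineOpen_top W.1.toScheme⟩ =
        I.ideal (openObj φ hφ W.1) (isAffine_openObj φ hφ W) := by
  let J : ∀ W : V.left.affineOpens, Ideal Γ(V.left, W.1) := fun W =>
    (I.ideal (openObj φ hφ W.1) (isAffine_openObj φ hφ W)).comap (W.1.ι.appLE W.1 ⊤ (by simp)).hom
  have hJ : ∀ W : V.left.affineOpens, (J W).map (W.1.ι.appLE W.1 ⊤ (by simp)).hom =
      I.ideal (openObj φ hφ W.1) (isAffine_openObj φ hφ W) := fun W =>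
    Ideal.map_comap_of_surjective _ (bijective_opensι_appLE W.1).2 _
  let K : V.left.IdealSheafData :=
  { ideal := J
    map_ideal_basicOpen := fun W f => by
      let B := V.left.affineBasicOpen f
      let g : openObj φ hφ B.1 ⟶ openObj φ hφ W.1 :=
        EtOver.homMk (Over.homMk (V.left.homOfLE (show B.1 ≤ W.1 from V.left.basicOpen_le f)) (by
          show _ ≫ W.1.ι ≫ V.hom = B.1.ι ≫ V.hom
          rw [Scheme.homOfLE_ι_assoc])) (by
          dsimp only [openObj, EtOver.mk, CostructuredArrow.mk_hom_eq_self]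
          rw [← Category.assoc, ← Functor.map_comp]
          congr 2
          ext : 1
          exact Scheme.homOfLE_ι _ (show B.1 ≤ W.1 from V.left.basicOpen_le f))
      have h2 := qcoh_map_eq hI g (isAffine_openObj φ hφ W) (isAffine_openObj φ hφ B)
      rw [← hJ W, ← hJ B, Ideal.map_map, ← CommRingCat.hom_comp] at h2
      have key : W.1.ι.appLE W.1 ⊤ (by simp) ≫ g.hom.left.left.appTop =
          V.left.presheaf.map (homOfLE (V.left.basicOpen_le f)).op ≫ B.1.ι.appLE B.1 ⊤ (by simp) := by
        simp only [Scheme.Hom.appTop, Scheme.Hom.app_eq_appLE]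
        erw [Scheme.Hom.appLE_comp_appLE]
        erw [Scheme.Hom.map_appLE]
        simp only [g, EtOver.homMk, CostructuredArrow.homMk_left, ObjectProperty.homMk_hom, Over.homMk_left,
          Scheme.homOfLE_ι]
        rfl
      rw [key, CommRingCat.hom_comp, ← Ideal.map_map] at h2
      have h3 := congrArg (Ideal.comap (B.1.ι.appLE B.1 ⊤ (by simp)).hom) h2
      rwa [Ideal.comap_map_of_bijective _ (bijective_opensι_appLE B.1),
        Ideal.comap_map_of_bijective _ (bijective_opensι_appLE B.1)] at h3 }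
  refine ⟨K, fun W => ?_⟩
  haveI : IsAffine W.1.toScheme := W.2
  rw [ChevLib.ideal_comap_openImmersion_top K W.1.ι W (by simp)]
  exact hJ W

/-- The values of a chart ideal pull back to the values of `I` on all affine objects over the chart. -/
theorem comap_chart_ideal {I : IdealEt X} (hI : I.IsQCoh) {V : Over S} {φ : (yon S).obj V ⟶ X}
    {hφ : RepWith @Etale φ} {K : V.left.IdealSheafData}
    (hK : ∀ (W : V.left.affineOpens), haveI : IsAffine W.1.toScheme := W.2
      (K.comap W.1.ι).ideal ⟨⊤, isAffineOpen_top W.1.toScheme⟩ =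
        I.ideal (openObj φ hφ W.1) (isAffine_openObj φ hφ W))
    (E : EtOver X) (hE : IsAffine E.obj.left.left) (r : E.obj.left ⟶ V)
    (w : (yon S).map r ≫ φ = E.obj.hom) :
    K.comap r.left = Scheme.IdealSheafData.ofIdealTop (I.ideal E hE) := by
  haveI := hE
  have hcov : ∀ x : E.obj.left.left, ∃ (A : E.obj.left.left.affineOpens) (W : V.left.affineOpens),
      x ∈ A.1 ∧ A.1 ≤ r.left ⁻¹ᵁ W.1 := fun x => by
    obtain ⟨W, hW, hxW, -⟩ := exists_isAffineOpen_mem_and_subset (x := r.left x) (U := ⊤) trivial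
    obtain ⟨A, hA, hxA, hAW⟩ := exists_isAffineOpen_mem_and_subset (x := x) (U := r.left ⁻¹ᵁ W) hxW
    exact ⟨⟨A, hA⟩, ⟨W, hW⟩, hxA, hAW⟩
  choose A W hxA hAW using hcov
  refine eq_of_cover A (top_le_iff.1 fun x _ => Opens.mem_iSup.2 ⟨x, hxA x⟩) fun x => ?_
  haveI : IsAffine (A x).1.toScheme := (A x).2
  haveI : IsAffine (W x).1.toScheme := (W x).2
  let EA := openObj E.obj.hom E.property (A x).1
  let m : (A x).1.toScheme ⟶ (W x).1.toScheme :=
    r.left.resLE (W x).1 (A x).1 (hAW x)
  have hm : m ≫ (W x).1.ι = (A x).1.ι ≫ r.left := Scheme.Hom.resLE_comp_ι _ _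
  let g : EA ⟶ openObj φ hφ (W x).1 := EtOver.homMk (Over.homMk m (by
      show m ≫ (W x).1.ι ≫ V.hom = (A x).1.ι ≫ E.obj.left.hom
      rw [reassoc_of% hm, Over.w r])) (by
    dsimp only [EA, openObj, EtOver.mk, CostructuredArrow.mk_hom_eq_self]
    rw [← Category.assoc, ← Functor.map_comp, ← w, ← Category.assoc, ← Functor.map_comp]
    congr 2
    ext : 1
    exact hm)
  let gE : EA ⟶ E := EtOver.homMk (Over.homMk (A x).1.ι rfl) rfl
  rw [← Scheme.IdealSheafData.comap_comp, ← hm, Scheme.IdealSheafData.comap_comp,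
    ChevLib.ideal_comap_top_of_isAffine (f := m), hK (W x),
    ChevLib.ideal_comap_top_of_isAffine (Scheme.IdealSheafData.ofIdealTop (I.ideal E hE))]
  have e1 := qcoh_map_eq hI g (isAffine_openObj φ hφ (W x)) (isAffine_openObj _ E.property (A x))
  have e2 := qcoh_map_eq hI gE hE (isAffine_openObj _ E.property (A x))
  simpa using! e1.trans e2.symm

theorem exists_isCutOutBy (hX : IsAlgSpace X) (I : IdealEt X) (hI : I.IsQCoh) :
    ∃ (Z : Sp S) (i : Z ⟶ X), IsAlgSpace Z ∧ IsCutOutBy I i := by
  obtain ⟨V, φ, hφ, hφs⟩ := hX.atlas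
  obtain ⟨K, hK⟩ := exists_chart_ideal I hI hφ
  have key := comap_chart_ideal hI hK
  obtain ⟨Z, i, z, hZ, hi, sq, -⟩ := exists_closedSub hX hφ hφs K (comap_eq_of_relation hφ K
    fun R p q hp hq w => by
      refine eq_of_cover (fun A : R.left.affineOpens => A) (iSup_affineOpens_eq_top _) fun A => ?_
      haveI : IsAffine A.1.toScheme := A.2
      have hpφ : RepWith @Etale ((yon S).map p ≫ φ) :=
        repWith_comp ((repWith_yon_map_iff (P := (@Etale : MorphismProperty Scheme.{u})) p).2 hp) hφ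
      let E := openObj ((yon S).map p ≫ φ) hpφ A.1
      let j : E.obj.left ⟶ R := Over.homMk A.1.ι rfl
      have h1 := key E (isAffine_openObj _ hpφ A) (j ≫ p) (by
        rw [Functor.map_comp, Category.assoc]; rfl)
      have h2 := key E (isAffine_openObj _ hpφ A) (j ≫ q) (by
        rw [Functor.map_comp, Category.assoc, ← w]; rfl)
      rw [← Scheme.IdealSheafData.comap_comp, ← Scheme.IdealSheafData.comap_comp]
      exact congrArg (fun L : A.1.toScheme.IdealSheafData => L.ideal ⟨⊤, isAffineOpen_top _⟩) (h1.trans h2.symm))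
  refine ⟨Z, i, hZ, hi, IdealEt.ext (funext fun E => funext fun hE => ?_)⟩
  haveI := hE
  haveI : IsClosedImmersion (EtOver.bcπ hi.1 E).left := hi.property _ _ _ (EtOver.isPullback_bcObj hi.1 E)
  obtain ⟨R, p, q, sqR⟩ := exists_isPullback_yon φ E.obj.hom hφ.rep
  haveI : Etale q.left := etale_left (repWith_of_isPullback sqR hφ)
  haveI : Surjective q.left := surjective_left (repWith_of_isPullback sqR hφs)
  have hJ := isIdealOn_ker_of_isPullback hi (EtOver.isPullback_bcObj hi.1 E)
  have e : (EtOver.bcπ hi.1 E).left.ker = Scheme.IdealSheafData.ofIdealTop (I.ideal E hE) := by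
    refine comap_injective_of_flat_surjective q.left ?_
    rw [← IsIdealOn.comap_eq ⟨z, sq⟩ hJ p q sqR.w]
    refine eq_of_cover (fun A : R.left.affineOpens => A) (iSup_affineOpens_eq_top _) fun A => ?_
    haveI : IsAffine A.1.toScheme := A.2
    have hqE : RepWith @Etale ((yon S).map q ≫ E.obj.hom) :=
      repWith_comp ((repWith_yon_map_iff (P := (@Etale : MorphismProperty Scheme.{u})) q).2 ‹_›) E.property
    let EA := openObj ((yon S).map q ≫ E.obj.hom) hqE A.1
    let j : EA.obj.left ⟶ R := Over.homMk A.1.ι rfl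
    have h1 := key EA (isAffine_openObj _ hqE A) (j ≫ p) (by
      rw [Functor.map_comp, Category.assoc, sqR.w]; rfl)
    let gE : EA ⟶ E := EtOver.homMk (j ≫ q) (by rw [Functor.map_comp, Category.assoc]; rfl)
    have e2 := qcoh_map_eq hI gE hE (isAffine_openObj _ hqE A)
    rw [← Scheme.IdealSheafData.comap_comp, ← Scheme.IdealSheafData.comap_comp,
      ChevLib.ideal_comap_top_of_isAffine (Scheme.IdealSheafData.ofIdealTop (I.ideal E hE)),
      show A.1.ι ≫ p.left = (j ≫ p).left from rfl, h1]
    haveI : IsAffine EA.obj.left.left := A.2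
    have e3 : (Scheme.IdealSheafData.ofIdealTop (I.ideal EA (isAffine_openObj _ hqE A))).ideal
        ⟨⊤, isAffineOpen_top _⟩ = I.ideal EA (isAffine_openObj _ hqE A) := by simp
    refine e3.trans (e2.symm.trans ?_)
    rw [Scheme.Hom.comp_appTop]
    simp [gE, j, Ideal.map_map]
  have := congrArg (fun L : E.obj.left.left.IdealSheafData => L.ideal ⟨⊤, isAffineOpen_top _⟩) e
  simp only [ideal_ker_top] at this
  simpa using! this

end AlgSpRegLib
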