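import Groth.Prelude.Def_AlgSpModX
import Groth.Agent.AlgSpRegLib.SiteEt
import Mathlib.Algebra.Category.ModuleCat.Sheaf.Limits
import Mathlib.Algebra.Category.ModuleCat.Presheaf.Limits
import Mathlib.Algebra.Homology.ShortComplex.ModuleCat
import Mathlib.Algebra.Category.Grp.FilteredColimits

/-!
# Weakly associated points: elementary facts
-/

set_option autoImplicit false
set_option linter.style.haveILetI false
set_option backward.isDefEq.respectTransparency false
set_option backward.isDefEq.respectTransparency.types false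

universe u

open CategoryTheory CategoryTheory.Limits AlgebraicGeometry Opposite AlgSp AlgSpLib Topology

noncomputable section

namespace AlgSpRegLib

variable {S : Scheme.{u}} {X : Sp S}

theorem exists_primeAtPt_eq (U : Scheme.{u}) [IsAffine U] (P : Ideal Γ(U, ⊤)) [hP : P.IsPrime] :
    ∃ u : U, primeAtPt U u = P := by
  refine ⟨U.isoSpec.inv ⟨P, hP⟩, ?_⟩
  have h1 : ((isAffineOpen_top U).primeIdealOf ⟨U.isoSpec.inv ⟨P, hP⟩, trivial⟩).asIdeal =
      primeAtPt U (U.isoSpec.inv ⟨P, hP⟩) := by
    rw [IsAffineOpen.primeIdealOf_eq_map_closedPoint]; rfl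
  rw [← h1]
  have h2 : (isAffineOpen_top U).primeIdealOf ⟨U.isoSpec.inv ⟨P, hP⟩, trivial⟩ = ⟨P, hP⟩ := by
    have h3 := (isAffineOpen_top U).fromSpec_primeIdealOf ⟨U.isoSpec.inv ⟨P, hP⟩, trivial⟩
    rw [IsAffineOpen.fromSpec_top] at h3
    exact (U.isoSpec.symm.schemeIsoToHomeo).injective h3
  rw [h2]

theorem exists_affine_over (E : EtOver X) (e : E.obj.left.left) :
    ∃ (E' : EtOver X) (g : E' ⟶ E), IsAffine E'.obj.left.left ∧ e ∈ Set.range g.hom.left.left := by
  obtain ⟨O, hO, hmem, -⟩ := exists_isAffineOpen_mem_and_subset (U := ⊤) (x := e) trivial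
  let q : Over.mk (O.ι ≫ E.obj.left.hom) ⟶ E.obj.left := Over.homMk O.ι rfl
  have hq : Etale q.left := show Etale O.ι from inferInstance
  exact ⟨EtOver.mk ((yon S).map q ≫ E.obj.hom)
    (AlgSpLib.repWith_comp ((repWith_yon_map_iff (P := (@Etale : MorphismProperty Scheme.{u})) q).2 hq) E.property),
    EtOver.homMk q rfl, hO, ⟨e, hmem⟩, rfl⟩

theorem eq_zero_of_affine (M : ModEt X) {E : EtOver X} (s : sectModEt M E)
    (h : ∀ (E' : EtOver X) (g : E' ⟶ E), IsAffine E'.obj.left.left → (M.val.map g.op).hom s = 0) : s = 0 := by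
  have hsh : Presheaf.IsSheaf (etTop X) (M.val.presheaf ⋙ forget AddCommGrpCat) :=
    Presheaf.isSheaf_comp_of_isSheaf _ _ _ M.isSheaf
  let T : Sieve E :=
    { arrows := fun E' g => (M.val.map g.op).hom s = 0
      downward_closed := fun {A B g} hg k => by
        show (M.val.map (k ≫ g).op).hom s = 0
        rw [op_comp, PresheafOfModules.map_comp_apply, hg, map_zero] }
  have hT : T ∈ etTop X E := (mem_etTop_iff T).2 fun e => by
    obtain ⟨E', g, ha, he⟩ := exists_affine_over E e
    exact ⟨E', g, h E' g ha, he⟩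
  exact ((isSheaf_iff_isSheaf_of_type _ _).1 hsh).isSeparated T hT |>.ext fun E' g hg => by
    show (M.val.map g.op).hom s = (M.val.map g.op).hom 0
    rw [map_zero]
    exact hg

theorem sect_exact (C : ShortComplex (ModEt X)) (hC : C.ShortExact) (E : EtOver X) :
    Function.Injective (C.f.val.app (op E)).hom ∧
      ∀ x : sectModEt C.X₂ E, (C.g.val.app (op E)).hom x = 0 → ∃ y, (C.f.val.app (op E)).hom y = x := by
  let F := SheafOfModules.evaluation (R := OEtRing X) (op E)
  haveI : PreservesFiniteLimits F := by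
    change PreservesFiniteLimits (SheafOfModules.forget _ ⋙ PresheafOfModules.evaluation _ (op E))
    infer_instance
  haveI : F.PreservesZeroMorphisms :=
    inferInstanceAs (SheafOfModules.forget _ ⋙ PresheafOfModules.evaluation _ (op E)).PreservesZeroMorphisms
  haveI := hC.mono_f
  refine ⟨(ModuleCat.mono_iff_injective (F.map C.f)).1 inferInstance, ?_⟩
  exact (ShortComplex.moduleCat_exact_iff _).1
    ((C.map F).exact_of_f_is_kernel (KernelFork.mapIsLimit _ hC.fIsKernel F))

theorem weakAssEt_subset (C : ShortComplex (ModEt X)) (hC : C.ShortExact) :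
    WeakAssEt C.X₂ ⊆ WeakAssEt C.X₁ ∪ WeakAssEt C.X₃ ∧ WeakAssEt C.X₁ ⊆ WeakAssEt C.X₂ := by
  constructor
  · rintro x ⟨E, ha, u, hu, s, hs⟩
    obtain ⟨hinj, hex⟩ := sect_exact C hC E
    let t := (C.g.val.app (op E)).hom s
    have hst : annSect s ≤ annSect (M := C.X₃) (E := E) t := fun a ha => by
      rw [mem_annSect_iff] at ha ⊢
      exact (map_smul (C.g.val.app (op E)).hom _ s).symm.trans ((congrArg _ ha).trans (map_zero _))
    by_cases ht : annSect (M := C.X₃) (E := E) t ≤ primeAtPt E.obj.left.left u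
    · exact Or.inr ⟨E, ha, u, hu, t, ⟨inferInstance, ht⟩, fun q hq hle => hs.2 ⟨hq.1, hst.trans hq.2⟩ hle⟩
    · obtain ⟨a, hat, hap⟩ := SetLike.not_le_iff_exists.1 ht
      obtain ⟨r, hr⟩ := hex (upΓ E a • s) (by
        rw [mem_annSect_iff] at hat
        exact (map_smul (C.g.val.app (op E)).hom _ s).trans hat)
      have hrs : ∀ b, b ∈ annSect (M := C.X₁) (E := E) r ↔ b * a ∈ annSect s := fun b => by
        rw [mem_annSect_iff, mem_annSect_iff, map_mul, mul_smul]
        constructor
        · intro h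
          rw [← hr]
          exact (map_smul (C.f.val.app (op E)).hom _ r).symm.trans ((congrArg _ h).trans (map_zero _))
        · intro h
          refine hinj ?_
          rw [map_smul, map_zero, hr]
          exact h
      refine Or.inl ⟨E, ha, u, hu, r, ⟨inferInstance, fun b hb => ?_⟩, fun q hq hle => hs.2 ⟨hq.1, fun b hb => ?_⟩ hle⟩
      · exact ((isPrime_primeAtPt E.obj.left.left u).mem_or_mem (hs.1.2 ((hrs b).1 hb))).resolve_right hap
      · exact hq.2 ((hrs b).2 ((annSect s).mul_mem_right a hb))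
  · rintro x ⟨E, ha, u, hu, s, hs⟩
    obtain ⟨hinj, -⟩ := sect_exact C hC E
    refine ⟨E, ha, u, hu, (C.f.val.app (op E)).hom s, ?_⟩
    convert hs using 2
    ext b
    rw [mem_annSect_iff, mem_annSect_iff, ← map_smul, map_eq_zero_iff _ hinj]

theorem isZero_iff_weakAssEt_empty (M : ModEt X) : IsZero M ↔ WeakAssEt M = ∅ := by
  constructor
  · intro h
    refine Set.eq_empty_of_forall_notMem fun x ⟨E, ha, u, hu, s, hs⟩ => ?_
    have h0 : s = 0 := by
      have := congrArg (fun φ : M ⟶ M => (φ.val.app (op E)).hom s) (h.eq_of_src (𝟙 M) 0)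
      exact this
    refine (isPrime_primeAtPt E.obj.left.left u).ne_top (top_le_iff.1 (le_trans ?_ hs.1.2))
    intro a _
    rw [mem_annSect_iff, h0, smul_zero]
  · intro h
    rw [IsZero.iff_id_eq_zero]
    ext ⟨E⟩ s
    show s = 0
    refine eq_zero_of_affine M s fun E' g ha => ?_
    by_contra hne
    have hne' : annSect (M := M) (E := E') ((M.val.map g.op).hom s) ≠ ⊤ := fun htop => hne (by
      have := (mem_annSect_iff _ 1).1 (htop ▸ Submodule.mem_top)
      rwa [map_one, one_smul] at this)
    obtain ⟨P, hP⟩ := Ideal.nonempty_minimalPrimes hne'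
    haveI := hP.1.1
    obtain ⟨u, hu⟩ := exists_primeAtPt_eq E'.obj.left.left P
    have : Points.ofPt E'.obj.hom u ∈ WeakAssEt M := ⟨E', ha, u, rfl, _, hu ▸ hP⟩
    rw [h] at this
    exact this

end AlgSpRegLib
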