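import Groth.Agent.AlgSpRegLib.ImageApps
import Groth.Agent.ChevLib.Basic
import Groth.Prelude.Def_AlgSpModX

/-!
# The ideal of the image on the small etale site
-/

set_option autoImplicit false
set_option backward.isDefEq.respectTransparency false
set_option backward.isDefEq.respectTransparency.types false

universe u

open CategoryTheory CategoryTheory.Limits AlgebraicGeometry Opposite AlgSp AlgSpLib TopologicalSpace

namespace AlgSpRegLib

variable {S : Scheme.{u}}

theorem isIdealOn_ker_of_isPullback {Z Y : Sp S} {i : Z ⟶ Y} (hi : RepWith @IsClosedImmersion i) {V W : Over S}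
    {φ : (yon S).obj V ⟶ Y} {fst : (yon S).obj W ⟶ Z} {s : W ⟶ V} (sq : IsPullback fst ((yon S).map s) i φ) :
    IsIdealOn i φ s.left.ker := by
  obtain ⟨I, hI⟩ := exists_isIdealOn hi φ
  obtain ⟨fst', sq'⟩ := hI
  haveI : IsClosedImmersion s.left := hi.property φ _ _ sq
  haveI : IsClosedImmersion (subι V I).left := (inferInstance : IsClosedImmersion I.subschemeι)
  have h := comap_ker_eq sq sq' (𝟙 V) (𝟙 V) rfl
  simp only [Over.id_left, Scheme.IdealSheafData.comap_id] at h
  rw [h]
  simpa using! (⟨fst', sq'⟩ : IsIdealOn i φ I)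

theorem ideal_ker_top {A B : Scheme.{u}} (f : A ⟶ B) [QuasiCompact f] [IsAffine B] :
    f.ker.ideal ⟨⊤, isAffineOpen_top B⟩ = RingHom.ker f.appTop.hom :=
  Scheme.Hom.ker_apply f ⟨⊤, isAffineOpen_top B⟩

theorem etale_hom_left {Y : Sp S} {E E' : EtOver Y} (g : E' ⟶ E) : Etale g.hom.left.left :=
  etale_cancel g.hom.left E.obj.hom (by rw [EtOver.w g]; exact E'.property) E.property

theorem locP_flat_of_repWith_etale {F G : Sp S} {f : F ⟶ G} (hf : RepWith @Etale f) : LocP @Flat f := by
  haveI : EtLocProp (@Flat : MorphismProperty Scheme.{u}) := etLocProp_of_list (by simp)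
  exact locP_of_repWith (repWith_mono (fun _ _ k (_ : Etale k) => (inferInstance : Flat k)) hf)

/-- Ideals on an affine scheme are equal if they agree on affine charts. -/
theorem eq_of_comap_top_eq {V : Scheme.{u}} {I J : V.IdealSheafData}
    (h : ∀ W : V.affineOpens, haveI : IsAffine W.1.toScheme := W.2
      (I.comap W.1.ι).ideal ⟨⊤, isAffineOpen_top W.1.toScheme⟩ =
        (J.comap W.1.ι).ideal ⟨⊤, isAffineOpen_top W.1.toScheme⟩) : I = J := by
  refine Scheme.IdealSheafData.ext (funext fun W => ?_)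
  haveI : IsAffine W.1.toScheme := W.2
  have hW := h W
  rw [ChevLib.ideal_comap_openImmersion_top I W.1.ι W (by simp),
    ChevLib.ideal_comap_openImmersion_top J W.1.ι W (by simp)] at hW
  let e := W.1.ι.appLE W.1 ⊤ (by simp)
  have : IsIso e := by
    have h0 := W.1.ι_image_top
    have : (homOfLE (X := V.Opens) (show W.1.ι ''ᵁ ⊤ ≤ W.1 from h0.le)) = eqToHom h0 :=
      Subsingleton.elim _ _
    simp only [e, Scheme.Opens.ι_appLE, this, eqToHom_op, eqToHom_map]
    exact ⟨eqToHom (by show Γ(V, W.1.ι ''ᵁ ⊤) = _; rw [h0]), eqToHom_trans _ _, eqToHom_trans _ _⟩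
  have hbij : Function.Bijective e.hom := ConcreteCategory.bijective_of_isIso _
  have h2 := congrArg (Ideal.comap e.hom) hW
  rwa [Ideal.comap_map_of_bijective e.hom hbij, Ideal.comap_map_of_bijective e.hom hbij] at h2

variable {X Y : Sp S} {f : X ⟶ Y}

theorem idealOfRep_isQCoh (hX : IsAlgSpace X) (hY : IsAlgSpace Y) (hf : Representable f)
    (hqc : IsQuasiCompactMor f) : (idealOfRep hf).IsQCoh := by
  have hq := (repWith_quasiCompact_iff hX hY hf).2 hqc
  intro E E' g hE hE'
  haveI : QuasiCompact (EtOver.bcπ hf E).left := hq.property _ _ _ (EtOver.isPullback_bcObj hf E)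
  haveI : QuasiCompact (EtOver.bcπ hf E').left := hq.property _ _ _ (EtOver.isPullback_bcObj hf E')
  haveI := etale_hom_left g
  have key := comap_ker_le (isChartOn_of_isPullback (EtOver.isPullback_bcObj hf E))
    (isChartOn_of_isPullback (EtOver.isPullback_bcObj hf E')) g.hom.left (𝟙 E'.obj.left)
    (by rw [CategoryTheory.Functor.map_id, Category.id_comp]; exact EtOver.w g)
  simp only [Over.id_left, Scheme.IdealSheafData.comap_id] at key
  haveI := hE
  haveI := hE'
  have k2 := key ⟨⊤, isAffineOpen_top _⟩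
  rw [ChevLib.ideal_comap_top_of_isAffine, ideal_ker_top, ideal_ker_top] at k2
  exact k2

theorem isSchImage_iff_isCutOutBy (hX : IsAlgSpace X) (hY : IsAlgSpace Y) (hf : Representable f)
    (hqc : IsQuasiCompactMor f) {Z : Sp S} (i : Z ⟶ Y) :
    IsSchImage f i ↔ IsCutOutBy (idealOfRep hf) i := by
  have hq := (repWith_quasiCompact_iff hX hY hf).2 hqc
  constructor
  · intro hs
    refine ⟨hs.1, IdealEt.ext (funext fun E => funext fun hE => ?_)⟩
    haveI := hE
    haveI : QuasiCompact (EtOver.bcπ hf E).left := hq.property _ _ _ (EtOver.isPullback_bcObj hf E)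
    haveI : IsClosedImmersion (EtOver.bcπ hs.1.1 E).left := hs.1.property _ _ _ (EtOver.isPullback_bcObj hs.1.1 E)
    have h1 := isIdealOn_ker_of_isSchImage hX hY hqc hs (locP_flat_of_repWith_etale E.property)
      (isChartOn_of_isPullback (EtOver.isPullback_bcObj hf E))
    have h2 := isIdealOn_ker_of_isPullback hs.1 (EtOver.isPullback_bcObj hs.1.1 E)
    have := congrArg (fun I : E.obj.left.left.IdealSheafData => I.ideal ⟨⊤, isAffineOpen_top _⟩) (h2.unique h1)
    simp only [ideal_ker_top] at this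
    exact this
  · rintro ⟨hi, he⟩
    obtain ⟨V, φ, hφ, hφs⟩ := hY.atlas
    have sq := hf.isPullback φ
    haveI : QuasiCompact (hf.snd φ).left := hq.property _ _ _ sq
    obtain ⟨I, hI⟩ := exists_isIdealOn hi φ
    refine (isSchImage_iff_ker hY hi (isChartOn_of_isPullback sq) hφ hφs).2 ?_
    suffices I = (hf.snd φ).left.ker by rwa [← this]
    refine eq_of_comap_top_eq fun W => ?_
    let W' : Over S := Over.mk (W.1.ι ≫ V.hom)
    let j : W' ⟶ V := Over.homMk W.1.ι rfl
    let E : EtOver Y := EtOver.mk ((yon S).map j ≫ φ)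
      (repWith_comp ((repWith_yon_map_iff (P := (@Etale : MorphismProperty Scheme.{u})) j).2
        (inferInstanceAs (Etale W.1.ι))) hφ)
    have hE : IsAffine E.obj.left.left := W.2
    haveI : IsAffine W'.left := W.2
    haveI : QuasiCompact (EtOver.bcπ hf E).left := hq.property _ _ _ (EtOver.isPullback_bcObj hf E)
    haveI : IsClosedImmersion (EtOver.bcπ hi.1 E).left := hi.property _ _ _ (EtOver.isPullback_bcObj hi.1 E)
    have e1 : (EtOver.bcπ hi.1 E).left.ker = I.comap W.1.ι :=
      (isIdealOn_ker_of_isPullback hi (EtOver.isPullback_bcObj hi.1 E)).unique (hI.comap hi j)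
    haveI : Flat j.left := inferInstanceAs (Flat W.1.ι)
    haveI : Flat (𝟙 W' : W' ⟶ W').left := inferInstanceAs (Flat (𝟙 _))
    haveI : Flat (𝟙 E.obj.left : E.obj.left ⟶ E.obj.left).left := inferInstanceAs (Flat (𝟙 _))
    have e2 : (EtOver.bcπ hf E).left.ker = (hf.snd φ).left.ker.comap W.1.ι := by
      have := comap_ker_eq_of_qc (isChartOn_of_isPullback sq) (isChartOn_of_isPullback (EtOver.isPullback_bcObj hf E))
        j (𝟙 E.obj.left) (by simp [E])
      exact ((Scheme.IdealSheafData.comap_id _).symm.trans this.symm)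
    have e3 := congrArg (fun J : IdealEt Y => J.ideal E hE) he
    haveI := hE
    have e4 : (EtOver.bcπ hi.1 E).left.ker.ideal ⟨⊤, isAffineOpen_top _⟩ =
        (EtOver.bcπ hf E).left.ker.ideal ⟨⊤, isAffineOpen_top _⟩ := by
      rw [ideal_ker_top, ideal_ker_top]; exact e3
    rw [← e1, ← e2]
    exact e4

end AlgSpRegLib
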