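import Groth.Agent.BlowUpLib.Cartier
import Mathlib.RingTheory.Flat.EquationalCriterion
/-!
# Effective Cartier ideals descend along flat open surjections
-/

set_option autoImplicit false
set_option linter.style.haveILetI false

universe u

open CategoryTheory AlgebraicGeometry

namespace AlgSpRegLib

section Ring

variable {A : Type u} [CommRing A]

/-- A flat algebra detects membership up to elements outside a prime. -/
theorem exists_mul_mem {B : Type u} [CommRing B] [Algebra A B] [Module.Flat A B] (Q : Ideal B) [Q.IsPrime]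
    (J : Ideal A) (x : A) (s : B) (hs : s ∉ Q) (h : s * algebraMap A B x ∈ J.map (algebraMap A B)) :
    ∃ a : A, a ∉ Q.comap (algebraMap A B) ∧ a * x ∈ J := by
  classical
  obtain ⟨l, hlJ, hl⟩ := (Finsupp.mem_span_image_iff_linearCombination B).1 h
  let f : Option ↥l.support → A := fun o => o.elim x fun j => -(j : A)
  let m : Option ↥l.support → B := fun o => o.elim s fun j => l j
  have h0 : ∑ o, f o • m o = 0 := by
    rw [Fintype.sum_option]
    simp only [f, m, Option.elim, Algebra.smul_def, map_neg, neg_mul, Finset.sum_neg_distrib]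
    rw [Finset.sum_coe_sort l.support fun j => algebraMap A B j * l j]
    rw [Finsupp.linearCombination_apply, Finsupp.sum] at hl
    simp only [smul_eq_mul] at hl
    rw [mul_comm, ← hl, ← sub_eq_add_neg, sub_eq_zero]
    exact Finset.sum_congr rfl fun j _ => mul_comm _ _
  obtain ⟨k, a, y, h1, h2⟩ := Module.Flat.isTrivialRelation_of_sum_smul_eq_zero h0
  have hs' := h1 none
  simp only [m, Option.elim] at hs'
  obtain ⟨j, hj⟩ : ∃ j, a none j ∉ Q.comap (algebraMap A B) := by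
    by_contra hcon
    push Not at hcon
    refine hs (hs' ▸ Ideal.sum_mem _ fun j _ => ?_)
    rw [Algebra.smul_def]
    exact Ideal.mul_mem_right _ _ (hcon j)
  refine ⟨a none j, hj, ?_⟩
  have h3 := h2 j
  rw [Fintype.sum_option] at h3
  simp only [f, Option.elim, neg_mul, Finset.sum_neg_distrib, ← sub_eq_add_neg, sub_eq_zero] at h3
  rw [mul_comm, h3]
  exact Ideal.sum_mem _ fun i _ => Ideal.mul_mem_right _ _ (hlJ i.2)

variable {ι : Type u} [Finite ι] {B : ι → Type u} [∀ i, CommRing (B i)] [∀ i, Algebra A (B i)]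
  [∀ i, Module.Flat A (B i)]

/-- An ideal which becomes principal and generated by a nonzerodivisor on a flat cover is so, locally. -/
theorem exists_principal_nzd (hsurj : ∀ p : PrimeSpectrum A, ∃ i, ∃ Q : PrimeSpectrum (B i),
      PrimeSpectrum.comap (algebraMap A (B i)) Q = p)
    (I : Ideal A) (hI : ∀ i, ∃ t ∈ nonZeroDivisors (B i), I.map (algebraMap A (B i)) = Ideal.span {t})
    (p : PrimeSpectrum A) :
    ∃ h : A, h ∉ p.asIdeal ∧ ∃ x ∈ I, (∀ z ∈ I, h * z ∈ Ideal.span {x}) ∧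
      ∀ a : A, a * x = 0 → h * a = 0 := by
  classical
  choose t ht hIt using hI
  have hrep : ∀ i, ∃ l : A →₀ B i, (l.support : Set A) ⊆ I ∧ l.sum (fun a b => b * algebraMap A (B i) a) = t i := by
    intro i
    have : t i ∈ I.map (algebraMap A (B i)) := by rw [hIt i]; exact Ideal.mem_span_singleton_self _
    obtain ⟨l, hlI, hl⟩ := (Finsupp.mem_span_image_iff_linearCombination (B i)).1 this
    exact ⟨l, hlI, hl⟩
  choose l hlI hl using hrep
  have : Fintype ι := Fintype.ofFinite ι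
  let T : Finset A := Finset.univ.biUnion fun i => (l i).support
  have hTI : (T : Set A) ⊆ I := fun a ha => by
    obtain ⟨i, -, hi⟩ := Finset.mem_biUnion.1 ha
    exact hlI i hi
  have hIT : I = Ideal.span (T : Set A) := by
    refine le_antisymm (fun z hz => ?_) (Ideal.span_le.2 hTI)
    let K : Ideal A := (Ideal.span (T : Set A)).colon (Ideal.span {z} : Set A)
    have hK : K = ⊤ := by
      by_contra hK
      obtain ⟨P, hP, hKP⟩ := Ideal.exists_le_maximal K hK
      obtain ⟨i, Q, hQ⟩ := hsurj ⟨P, hP.isPrime⟩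
      have hQ' : Q.asIdeal.comap (algebraMap A (B i)) = P := congrArg PrimeSpectrum.asIdeal hQ
      obtain ⟨a, ha, ha'⟩ := exists_mul_mem Q.asIdeal (Ideal.span (T : Set A)) z 1
        (fun h1 => Q.isPrime.ne_top ((Ideal.eq_top_iff_one _).2 h1)) (by
          rw [one_mul]
          refine (?_ : I.map (algebraMap A (B i)) ≤ _) (Ideal.mem_map_of_mem _ hz)
          rw [hIt i, Ideal.span_le, Set.singleton_subset_iff, ← hl i, SetLike.mem_coe]
          exact Ideal.sum_mem _ fun a ha => Ideal.mul_mem_left _ _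
            (Ideal.mem_map_of_mem _ (Ideal.subset_span (Finset.mem_biUnion.2 ⟨i, Finset.mem_univ _, ha⟩))))
      refine ha (hQ' ▸ hKP ?_)
      simp only [K, Submodule.mem_colon, SetLike.mem_coe, Ideal.mem_span_singleton]
      rintro w ⟨c, rfl⟩
      rw [smul_eq_mul, ← mul_assoc]
      exact Ideal.mul_mem_right _ _ ha'
    have h1 : (1 : A) ∈ K := hK ▸ Submodule.mem_top
    simpa using Submodule.mem_colon.1 h1 z (Ideal.mem_span_singleton_self z)
  obtain ⟨i, Q, hQ⟩ := hsurj p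
  have hQ' : Q.asIdeal.comap (algebraMap A (B i)) = p.asIdeal := congrArg PrimeSpectrum.asIdeal hQ
  have hdiv : ∀ j (z : A), z ∈ I → ∃ c, algebraMap A (B j) z = c * t j := fun j z hz =>
    Ideal.mem_span_singleton'.1 (hIt j ▸ Ideal.mem_map_of_mem _ hz) |>.imp fun _ => Eq.symm
  choose c hc using hdiv
  obtain ⟨x, hxT, hxc⟩ : ∃ x, ∃ hx : x ∈ I, c i x hx ∉ Q.asIdeal := by
    by_contra hcon
    push Not at hcon
    have h1 : ((l i).support.attach.sum fun a => l i a.1 * c i a.1 (hlI i a.2)) * t i = 1 * t i := by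
      rw [one_mul]
      conv_rhs => rw [← hl i, Finsupp.sum, ← Finset.sum_attach]
      rw [Finset.sum_mul]
      exact Finset.sum_congr rfl fun a _ => by rw [mul_assoc, ← hc i a.1 (hlI i a.2)]
    rw [mul_cancel_right_mem_nonZeroDivisors (ht i)] at h1
    exact Q.isPrime.ne_top ((Ideal.eq_top_iff_one _).2
      (h1 ▸ Ideal.sum_mem _ fun a _ => Ideal.mul_mem_left _ _ (hcon _ _)))
  have hz : ∀ z ∈ I, ∃ a : A, a ∉ p.asIdeal ∧ a * z ∈ Ideal.span {x} := fun z hz => by
    rw [← hQ']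
    refine exists_mul_mem Q.asIdeal _ z (c i x hxT) hxc ?_
    rw [Ideal.map_span, Set.image_singleton, Ideal.mem_span_singleton']
    exact ⟨c i z hz, by rw [hc i z hz, hc i x hxT]; ring⟩
  choose g hg hgx using hz
  let h := T.attach.prod fun z => g z.1 (hTI z.2)
  have hh : h ∉ p.asIdeal := fun hmem => by
    obtain ⟨z, -, hz'⟩ := p.isPrime.prod_mem_iff.1 hmem
    exact hg _ _ hz'
  have hall : ∀ z ∈ I, h * z ∈ Ideal.span {x} := by
    intro z hz
    rw [hIT] at hz
    induction hz using Submodule.span_induction with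
    | mem z hz =>
      have : g z (hTI hz) ∣ h := Finset.dvd_prod_of_mem (fun z : T => g z.1 (hTI z.2)) (T.mem_attach ⟨z, hz⟩)
      obtain ⟨d, hd⟩ := this
      rw [hd, mul_comm (g z _) d, mul_assoc]
      exact Ideal.mul_mem_left _ _ (hgx z (hTI hz))
    | zero => simp
    | add z w _ _ hz hw => rw [mul_add]; exact add_mem hz hw
    | smul r z _ hz =>
      rw [smul_eq_mul, ← mul_assoc, mul_comm h r, mul_assoc]
      exact Ideal.mul_mem_left _ _ hz
  refine ⟨h, hh, x, hxT, hall, fun a ha => ?_⟩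
  have hzero : ∀ j, algebraMap A (B j) (h * a) = 0 := by
    intro j
    have h1 : algebraMap A (B j) h * t j ∈ Ideal.span {algebraMap A (B j) x} := by
      rw [← hl j, Finsupp.sum, Finset.mul_sum]
      refine Ideal.sum_mem _ fun z hz => ?_
      rw [← mul_assoc, mul_comm _ (l j z), mul_assoc, ← map_mul]
      refine Ideal.mul_mem_left _ _ ?_
      rw [← Set.image_singleton, ← Ideal.map_span]
      exact Ideal.mem_map_of_mem _ (hall z (hlI j hz))
    obtain ⟨e, he⟩ := Ideal.mem_span_singleton'.1 h1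
    rw [map_mul]
    refine (mul_right_mem_nonZeroDivisors_eq_zero_iff (ht j)).1 ?_
    rw [mul_right_comm, ← he, mul_assoc, ← map_mul, mul_comm x a, ha, map_zero, mul_zero]
  by_contra hne
  obtain ⟨P, hP, hle⟩ := Ideal.exists_le_maximal ((⊥ : Ideal A).colon (Ideal.span {h * a} : Set A))
    (fun htop => hne (by
      have := Submodule.mem_colon.1 (htop ▸ Submodule.mem_top : (1 : A) ∈ _) (h * a)
        (Ideal.mem_span_singleton_self _)
      simpa using this))
  obtain ⟨j, Q', hQ''⟩ := hsurj ⟨P, hP.isPrime⟩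
  obtain ⟨b, hb, hb'⟩ := exists_mul_mem Q'.asIdeal (⊥ : Ideal A) (h * a) 1
    (fun h1 => Q'.isPrime.ne_top ((Ideal.eq_top_iff_one _).2 h1)) (by rw [hzero j, mul_zero]; exact zero_mem _)
  refine hb ?_
  rw [show Q'.asIdeal.comap (algebraMap A (B j)) = P from congrArg PrimeSpectrum.asIdeal hQ'']
  refine hle ?_
  simp only [Submodule.mem_colon, SetLike.mem_coe, Ideal.mem_span_singleton, Submodule.mem_bot]
  rintro w ⟨d, rfl⟩
  rw [smul_eq_mul, ← mul_assoc, (Submodule.mem_bot A).1 hb', zero_mul]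

end Ring

/-- Effective Cartier ideals descend along flat open surjections. -/
theorem isEffCartier_of_comap {X Y : Scheme.{u}} (f : X ⟶ Y) [Flat f] [Surjective f] (hf : IsOpenMap f)
    (𝓙 : Y.IdealSheafData) (h : BlowUp.IsEffCartierIdeal (𝓙.comap f)) : BlowUp.IsEffCartierIdeal 𝓙 := by
  intro y
  obtain ⟨U, hU, hyU, -⟩ := exists_isAffineOpen_mem_and_subset (show y ∈ (⊤ : Y.Opens) from trivial)
  let J := {W : X.affineOpens // W.1 ≤ f ⁻¹ᵁ U ∧
    ∃ t ∈ nonZeroDivisors Γ(X, W.1), (𝓙.comap f).ideal W = Ideal.span {t}}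
  have hopen : ∀ W : J, IsOpen (f '' (W.1.1 : Set X)) := fun W => hf _ W.1.1.isOpen
  have hcov : (U : Set Y) ⊆ ⋃ W : J, f '' (W.1.1 : Set X) := by
    intro z hz
    obtain ⟨s, rfl⟩ := f.surjective z
    obtain ⟨V, hsV, t, ht, hV⟩ := h s
    obtain ⟨W₀, hW₀, hsW₀, hle⟩ :=
      exists_isAffineOpen_mem_and_subset (show s ∈ V.1 ⊓ f ⁻¹ᵁ U from ⟨hsV, hz⟩)
    let W : X.affineOpens := ⟨W₀, hW₀⟩
    have e : W.1 ≤ V.1 := hle.trans inf_le_left
    refine Set.mem_iUnion.2 ⟨⟨W, hle.trans inf_le_right, (X.presheaf.map (homOfLE e).op).hom t, ?_, ?_⟩,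
      s, hsW₀, rfl⟩
    · refine BlowUpLib.nzd_of_flat _ ?_ ht
      have hflat := HasRingHomProperty.appLE @Flat (𝟙 X) inferInstance V W e
      simpa [Scheme.Hom.appLE] using! hflat
    · rw [← Scheme.IdealSheafData.map_ideal _ (U := W) (V := V) e, hV, Ideal.map_span, Set.image_singleton]
      rfl
  obtain ⟨T, hT⟩ := hU.isCompact.elim_finite_subcover _ hopen hcov
  letI : ∀ W : T, Algebra Γ(Y, U) Γ(X, W.1.1.1) := fun W => (f.appLE U W.1.1.1 W.1.2.1).hom.toAlgebra
  haveI : ∀ W : T, Module.Flat Γ(Y, U) Γ(X, W.1.1.1) := fun W => f.flat_appLE hU W.1.1.2 W.1.2.1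
  have hsurj : ∀ p : PrimeSpectrum Γ(Y, U), ∃ W : T, ∃ Q : PrimeSpectrum Γ(X, W.1.1.1),
      PrimeSpectrum.comap (algebraMap Γ(Y, U) Γ(X, W.1.1.1)) Q = p := by
    intro p
    have hp : hU.fromSpec p ∈ (U : Set Y) := by
      rw [← hU.range_fromSpec]; exact ⟨p, rfl⟩
    obtain ⟨W, hW⟩ := Set.mem_iUnion.mp (hT hp)
    obtain ⟨hWt, s, hsW, hs'⟩ := Set.mem_iUnion.mp hW
    obtain ⟨q, hq⟩ : ∃ q, W.1.2.fromSpec q = s := by
      rw [← Set.mem_range, W.1.2.range_fromSpec]; exact hsW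
    refine ⟨⟨W, hWt⟩, q, hU.fromSpec.isOpenEmbedding.injective ?_⟩
    have e := IsAffineOpen.SpecMap_appLE_fromSpec f hU W.1.2 W.2.1
    have h2 := congrArg (fun φ : Spec Γ(X, W.1.1) ⟶ Y => φ q) e
    simp only [Scheme.Hom.comp_apply] at h2
    rw [hq, hs'] at h2
    exact h2
  have hI : ∀ W : T, ∃ t ∈ nonZeroDivisors Γ(X, W.1.1.1),
      (𝓙.ideal ⟨U, hU⟩).map (algebraMap Γ(Y, U) Γ(X, W.1.1.1)) = Ideal.span {t} := fun W => by
    obtain ⟨t, ht, hW⟩ := W.1.2.2
    exact ⟨t, ht, (Groth.Agent.S4666.ideal_comap_eq _ f ⟨U, hU⟩ W.1.1 W.1.2.1).symm.trans hW⟩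
  obtain ⟨g, hg, x, hx, hall, hann⟩ := exists_principal_nzd hsurj _ hI (hU.primeIdealOf ⟨y, hyU⟩)
  have hgy : y ∈ Y.basicOpen g := by
    rw [show y = hU.fromSpec (hU.primeIdealOf ⟨y, hyU⟩) from (hU.fromSpec_primeIdealOf ⟨y, hyU⟩).symm]
    show hU.primeIdealOf ⟨y, hyU⟩ ∈ hU.fromSpec ⁻¹ᵁ Y.basicOpen g
    rw [hU.fromSpec_preimage_basicOpen g]
    exact hg
  letI : Algebra Γ(Y, U) Γ(Y, Y.basicOpen g) :=
    (Y.presheaf.map (homOfLE (Y.basicOpen_le g)).op).hom.toAlgebra
  haveI : IsLocalization.Away g Γ(Y, Y.basicOpen g) := hU.isLocalization_basicOpen g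
  have hgu : IsUnit (algebraMap Γ(Y, U) Γ(Y, Y.basicOpen g) g) := IsLocalization.Away.algebraMap_isUnit g
  refine ⟨Y.affineBasicOpen g (U := ⟨U, hU⟩), hgy,
    (algebraMap Γ(Y, U) Γ(Y, Y.basicOpen g) x : Γ(Y, Y.basicOpen g)), ?_, ?_⟩
  · show algebraMap Γ(Y, U) Γ(Y, Y.basicOpen g) x ∈ nonZeroDivisors Γ(Y, Y.basicOpen g)
    refine mem_nonZeroDivisors_iff_right.2 fun z hz => ?_
    obtain ⟨⟨a, m⟩, rfl⟩ := IsLocalization.mk'_surjective (Submonoid.powers g) z
    simp only at hz ⊢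
    rw [mul_comm, IsLocalization.mul_mk'_eq_mk'_of_mul, IsLocalization.mk'_eq_zero_iff] at hz
    obtain ⟨n, hn⟩ := hz
    rw [IsLocalization.mk'_eq_zero_iff]
    obtain ⟨k, hk⟩ := n.2
    refine ⟨⟨g ^ (k + 1), k + 1, rfl⟩, ?_⟩
    have hk' : g ^ k = n.1 := hk
    show g ^ (k + 1) * a = 0
    rw [pow_succ', mul_assoc]
    refine hann _ ?_
    rw [hk', mul_assoc, mul_comm a x]
    exact hn
  · rw [← 𝓙.map_ideal_basicOpen]
    refine le_antisymm (Ideal.map_le_iff_le_comap.2 fun z hz => ?_) ?_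
    · rw [Ideal.mem_comap]
      have h1 := Ideal.mem_map_of_mem (algebraMap Γ(Y, U) Γ(Y, Y.basicOpen g)) (hall z hz)
      rw [Ideal.map_span, Set.image_singleton, map_mul] at h1
      exact (Ideal.unit_mul_mem_iff_mem _ hgu).1 h1
    · rw [Ideal.span_le, Set.singleton_subset_iff]
      exact Ideal.mem_map_of_mem _ hx

end AlgSpRegLib
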