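import Groth.Agent.AlgSpRegLib.CartierDesc
import Groth.Agent.AlgSpLib.Basic
import Groth.Agent.AlgSpLib.LocP
import Groth.Prelude.Def_AlgSpSub
import Groth.Prelude.Def_AlgSp4
/-!
# Effective Cartier divisors on algebraic spaces
-/

set_option autoImplicit false
set_option backward.isDefEq.respectTransparency false
set_option backward.isDefEq.respectTransparency.types false

universe u

open CategoryTheory CategoryTheory.Limits AlgebraicGeometry Opposite AlgSp

namespace AlgSpRegLib

variable {S : Scheme.{u}}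

theorem ker_of_isPullback {A B A' B' : Scheme.{u}} {f : A ⟶ B} {g : B' ⟶ B} {g' : A' ⟶ A} {f' : A' ⟶ B'}
    (sq : IsPullback g' f' f g) [IsClosedImmersion f] : f'.ker = f.ker.comap g := by
  rw [← sq.flip.isoPullback_hom_fst, Scheme.Hom.ker_comp_of_isIso,
    Scheme.IdealSheafData.ker_fst_of_isClosedImmersion]

/-- Two represented pullbacks of a morphism have the same ideal on a common chart. -/
theorem comap_ker_eq {F G : Sp S} {i : F ⟶ G} {V V' W W' T : Over S} {φ : (yon S).obj V ⟶ G}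
    {φ' : (yon S).obj V' ⟶ G} {fst : (yon S).obj W ⟶ F} {snd : W ⟶ V} {fst' : (yon S).obj W' ⟶ F}
    {snd' : W' ⟶ V'} (sq : IsPullback fst ((yon S).map snd) i φ) (sq' : IsPullback fst' ((yon S).map snd') i φ')
    (t : T ⟶ V) (t' : T ⟶ V') (w : (yon S).map t ≫ φ = (yon S).map t' ≫ φ')
    [IsClosedImmersion snd.left] [IsClosedImmersion snd'.left] :
    snd.left.ker.comap t.left = snd'.left.ker.comap t'.left := by
  have A := IsPullback.of_hasPullback snd t
  have A' := IsPullback.of_hasPullback snd' t'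
  have HA := (A.map (yon S)).paste_horiz sq
  have HA' := (A'.map (yon S)).paste_horiz sq'
  rw [w] at HA
  let φ₁ := HA.isoIsPullback _ _ HA'
  let ψ : pullback snd t ≅ pullback snd' t' := (yon S).preimageIso φ₁
  have hψ : ψ.hom ≫ pullback.snd snd' t' = pullback.snd snd t := by
    refine (yon S).map_injective ?_
    rw [Functor.map_comp, show (yon S).map ψ.hom = φ₁.hom from (yon S).map_preimage φ₁.hom]
    exact HA.isoIsPullback_hom_snd _ _ HA'
  haveI : IsIso ψ.hom.left := (inferInstance : IsIso ((Over.forget S).map ψ.hom))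
  have h1 : (pullback.snd snd t).left.ker = snd.left.ker.comap t.left :=
    ker_of_isPullback (f := snd.left) (g := t.left) (g' := (pullback.fst snd t).left) (A.map (Over.forget S))
  have h2 : (pullback.snd snd' t').left.ker = snd'.left.ker.comap t'.left :=
    ker_of_isPullback (f := snd'.left) (g := t'.left) (g' := (pullback.fst snd' t').left) (A'.map (Over.forget S))
  rw [← h1, ← h2, ← hψ, Over.comp_left, Scheme.Hom.ker_comp_of_isIso]

/-- The inverse image of a closed subspace in a chart is a closed subscheme. -/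
theorem exists_ideal {F G : Sp S} {i : F ⟶ G} (hi : RepWith @IsClosedImmersion i) {U : Over S}
    (φ : (yon S).obj U ⟶ G) :
    ∃ (I : U.left.IdealSheafData) (fst : (yon S).obj (Over.mk (I.subschemeι ≫ U.hom)) ⟶ F),
      IsPullback fst ((yon S).map (Over.homMk I.subschemeι rfl : Over.mk (I.subschemeι ≫ U.hom) ⟶ U)) i φ := by
  have sq := hi.rep.isPullback φ
  let s := hi.rep.snd φ
  haveI : IsClosedImmersion s.left := hi.2 φ _ _ sq
  let e : hi.rep.pullback φ ≅ Over.mk (s.left.ker.subschemeι ≫ U.hom) :=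
    Over.isoMk (asIso s.left.toImage) (by
      simp only [asIso_hom, Over.mk_hom, ← Category.assoc]
      exact (congrArg (· ≫ U.hom) s.left.toImage_imageι).trans (Over.w s))
  refine ⟨s.left.ker, (yon S).map e.inv ≫ hi.rep.fst φ, sq.of_iso ((yon S).mapIso e) (Iso.refl _) (Iso.refl _)
    (Iso.refl _) ?_ ?_ (by simp) (by simp)⟩
  · simp [← Functor.map_comp_assoc]
  · simp only [Functor.mapIso_hom, Iso.refl_hom, Category.comp_id, ← Functor.map_comp]
    congr 1
    ext : 1
    exact s.left.toImage_imageι.symm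

theorem isEffCartierIdeal_transfer {F G : Sp S} {i : F ⟶ G} {V U T : Over S} {φ : (yon S).obj V ⟶ G}
    {φ' : (yon S).obj U ⟶ G} {I : V.left.IdealSheafData} {J : U.left.IdealSheafData}
    {fst : (yon S).obj (Over.mk (I.subschemeι ≫ V.hom)) ⟶ F} {fst' : (yon S).obj (Over.mk (J.subschemeι ≫ U.hom)) ⟶ F}
    (sq : IsPullback fst ((yon S).map (Over.homMk I.subschemeι rfl : Over.mk (I.subschemeι ≫ V.hom) ⟶ V)) i φ)
    (sq' : IsPullback fst' ((yon S).map (Over.homMk J.subschemeι rfl : Over.mk (J.subschemeι ≫ U.hom) ⟶ U)) i φ')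
    (t : T ⟶ V) (t' : T ⟶ U) (w : (yon S).map t ≫ φ = (yon S).map t' ≫ φ')
    [Flat t.left] [Etale t'.left] [Surjective t'.left] (hI : BlowUp.IsEffCartierIdeal I) :
    BlowUp.IsEffCartierIdeal J := by
  haveI : IsClosedImmersion (Over.homMk I.subschemeι rfl : Over.mk (I.subschemeι ≫ V.hom) ⟶ V).left :=
    (inferInstance : IsClosedImmersion I.subschemeι)
  haveI : IsClosedImmersion (Over.homMk J.subschemeι rfl : Over.mk (J.subschemeι ≫ U.hom) ⟶ U).left :=
    (inferInstance : IsClosedImmersion J.subschemeι)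
  have e : I.comap t.left = J.comap t'.left := by
    have h := comap_ker_eq sq sq' t t' w
    simpa using! h
  refine isEffCartier_of_comap t'.left (Scheme.Hom.isOpenMap _) J ?_
  rw [← e]
  exact BlowUpLib.isEffCartier_comap_of_flat _ hI

theorem isEffCartierSub_iff {F G : Sp S} (hG : IsAlgSpace G) {i : F ⟶ G} (hi : RepWith @IsClosedImmersion i) :
    IsEffCartierSub i ↔
      ∀ (U : Over S) (φ : (yon S).obj U ⟶ G), RepWith @Etale φ →
        ∀ (I : U.left.IdealSheafData) (fst : (yon S).obj (Over.mk (I.subschemeι ≫ U.hom)) ⟶ F),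
          IsPullback fst ((yon S).map (Over.homMk I.subschemeι rfl : Over.mk (I.subschemeι ≫ U.hom) ⟶ U)) i φ →
            BlowUp.IsEffCartierIdeal I := by
  constructor
  · rintro ⟨-, V, φ, I, fst, hφ, hφs, sq, hI⟩ U φ' hφ' J fst' sq'
    obtain ⟨T, t, t', sqT⟩ := AlgSpLib.exists_isPullback_yon φ φ' hφ.rep
    haveI : Etale t'.left := AlgSpLib.etale_left (AlgSpLib.repWith_of_isPullback sqT hφ)
    haveI : Surjective t'.left := AlgSpLib.surjective_left (AlgSpLib.repWith_of_isPullback sqT hφs)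
    haveI : Etale t.left := AlgSpLib.etale_left (AlgSpLib.repWith_of_isPullback sqT.flip hφ')
    exact isEffCartierIdeal_transfer sq sq' t t' sqT.w hI
  · intro h
    obtain ⟨U, φ, hφ, hφs⟩ := hG.atlas
    obtain ⟨I, fst, sq⟩ := exists_ideal hi φ
    exact ⟨hi, U, φ, I, fst, hφ, hφs, sq, h U φ hφ I fst sq⟩

theorem isEffCartierSub_of_flat {F G G' P : Sp S} (hG' : IsAlgSpace G') {i : F ⟶ G} {g : G' ⟶ G}
    (hg : LocP @Flat g) (hi : IsEffCartierSub i) {fst : P ⟶ F} {snd : P ⟶ G'} (sqP : IsPullback fst snd i g) :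
    IsEffCartierSub snd := by
  obtain ⟨hcl, V, φ, I, fI, hφ, hφs, sq, hI⟩ := hi
  have hsnd : RepWith @IsClosedImmersion snd := AlgSpLib.repWith_of_isPullback sqP hcl
  obtain ⟨U, φ', hφ', hφs'⟩ := hG'.atlas
  obtain ⟨J, fJ, sqJ⟩ := exists_ideal hsnd φ'
  obtain ⟨T, t, t', sqT⟩ := AlgSpLib.exists_isPullback_yon φ (φ' ≫ g) hφ.rep
  haveI : Etale t'.left := AlgSpLib.etale_left (AlgSpLib.repWith_of_isPullback sqT hφ)
  haveI : Surjective t'.left := AlgSpLib.surjective_left (AlgSpLib.repWith_of_isPullback sqT hφs)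
  haveI : Flat t.left := hg ((yon S).map t' ≫ φ') φ t
    (AlgSpLib.repWith_comp ((repWith_yon_map_iff @Etale t').2 ‹_›) hφ') hφ
    (by rw [Category.assoc]; exact sqT.w.symm)
  exact ⟨hsnd, U, φ', J, fJ, hφ', hφs', sqJ,
    isEffCartierIdeal_transfer sq (sqJ.paste_horiz sqP) t t' sqT.w hI⟩

end AlgSpRegLib
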