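import Groth.Agent.AlgSpLib.Basic
import Groth.Agent.AlgSpLib.LocP
import Groth.Agent.AlgSpLib.Points
/-!
# Pullbacks of one morphism to two charts, and open subspaces
-/

set_option autoImplicit false
set_option backward.isDefEq.respectTransparency false
set_option backward.isDefEq.respectTransparency.types false

universe u

open CategoryTheory CategoryTheory.Limits AlgebraicGeometry Opposite AlgSp

namespace AlgSpRegLib

variable {S : Scheme.{u}}

/-- Two represented pullbacks of one morphism agree on a common chart. -/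
theorem exists_iso_over {F G : Sp S} {i : F ⟶ G} {V V' W W' T : Over S} {φ : (yon S).obj V ⟶ G}
    {φ' : (yon S).obj V' ⟶ G} {fst : (yon S).obj W ⟶ F} {snd : W ⟶ V} {fst' : (yon S).obj W' ⟶ F}
    {snd' : W' ⟶ V'} (sq : IsPullback fst ((yon S).map snd) i φ) (sq' : IsPullback fst' ((yon S).map snd') i φ')
    (t : T ⟶ V) (t' : T ⟶ V') (w : (yon S).map t ≫ φ = (yon S).map t' ≫ φ') :
    ∃ ψ : pullback snd t ≅ pullback snd' t', ψ.hom ≫ pullback.snd snd' t' = pullback.snd snd t := by
  have HA := ((IsPullback.of_hasPullback snd t).map (yon S)).paste_horiz sq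
  have HA' := ((IsPullback.of_hasPullback snd' t').map (yon S)).paste_horiz sq'
  rw [w] at HA
  refine ⟨(yon S).preimageIso (HA.isoIsPullback _ _ HA'), (yon S).map_injective ?_⟩
  rw [Functor.map_comp, show (yon S).map ((yon S).preimageIso (HA.isoIsPullback _ _ HA')).hom =
    (HA.isoIsPullback _ _ HA').hom from (yon S).map_preimage _]
  exact HA.isoIsPullback_hom_snd _ _ HA'

/-- A property stable under base change which descends along etale surjections passes from one surjective
etale chart to every represented pullback. -/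
theorem repWith_of_chart {P : MorphismProperty Scheme.{u}} [P.IsStableUnderBaseChange]
    [P.DescendsAlong (@Surjective ⊓ @Flat ⊓ @LocallyOfFinitePresentation)]
    {F G : Sp S} {f : F ⟶ G} (hf : Representable f) {V W : Over S} {φ : (yon S).obj V ⟶ G}
    (hφ : RepWith @Etale φ) (hφs : RepWith @Surjective φ) {fst : (yon S).obj W ⟶ F} {snd : W ⟶ V}
    (sq : IsPullback fst ((yon S).map snd) f φ) (hP : P snd.left) : RepWith P f := by
  haveI : P.RespectsIso := MorphismProperty.IsStableUnderBaseChange.respectsIso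
  refine MorphismProperty.relative_of_snd hf fun V' ξ => ?_
  obtain ⟨T, t, t', sqT⟩ := AlgSpLib.exists_isPullback_yon φ ξ hφ.rep
  haveI : Etale t'.left := AlgSpLib.etale_left (AlgSpLib.repWith_of_isPullback sqT hφ)
  haveI : Surjective t'.left := AlgSpLib.surjective_left (AlgSpLib.repWith_of_isPullback sqT hφs)
  obtain ⟨ψ, hψ⟩ := exists_iso_over sq (hf.isPullback ξ) t t' sqT.w
  have h1 : P (pullback.snd snd t).left :=
    MorphismProperty.of_isPullback (P := P) (f := t.left) (g := snd.left)
      ((IsPullback.of_hasPullback snd t).map (Over.forget S)) hP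
  haveI : IsIso ψ.hom.left := (inferInstance : IsIso ((Over.forget S).map ψ.hom))
  rw [← hψ, Over.comp_left, P.cancel_left_of_respectsIso] at h1
  exact MorphismProperty.of_isPullback_of_descendsAlong (P := P)
    (Q := @Surjective ⊓ @Flat ⊓ @LocallyOfFinitePresentation) (f := t'.left) (g := (hf.snd ξ).left)
    ((IsPullback.of_hasPullback (hf.snd ξ) t').map (Over.forget S)).flip
    ⟨⟨‹_›, inferInstance⟩, inferInstance⟩ h1

/-- The image of a pullback in a chart is the inverse image of the image. -/
theorem mem_range_iff {F G : Sp S} {j : F ⟶ G} {V W : Over S} {φ : (yon S).obj V ⟶ G}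
    {fst : (yon S).obj W ⟶ F} {snd : W ⟶ V} (sq : IsPullback fst ((yon S).map snd) j φ) (v : ↥V.left) :
    v ∈ Set.range snd.left ↔ Points.ofPt φ v ∈ Set.range (Points.map j) := by
  constructor
  · rintro ⟨w, rfl⟩
    exact ⟨Points.ofPt fst w, by rw [Points.map_ofPt, sq.w, AlgSpLib.ofPt_yon_comp]⟩
  · rintro ⟨x, hx⟩
    obtain ⟨p, -, hp⟩ := AlgSpLib.exists_point_isPullback sq x (Points.ofScheme V v)
      (by rw [hx, Points.ofPt_eq_map_ofScheme])
    obtain ⟨w, rfl⟩ := (Points.schemeHomeo W).surjective p
    refine ⟨w, (Points.schemeHomeo V).injective ?_⟩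
    show Points.ofScheme V (snd.left w) = Points.ofScheme V v
    rw [← hp]
    show _ = Points.map ((yon S).map snd) (Points.ofScheme W w)
    rw [← Points.ofPt_eq_map_ofScheme, ← Category.comp_id ((yon S).map snd), AlgSpLib.ofPt_yon_comp]

/-- An open of a chart with the correct points is the inverse image of an open subspace. -/
theorem exists_isPullback_open {F G : Sp S} {j : F ⟶ G} (hj : RepWith @IsOpenImmersion j) {V : Over S}
    (φ : (yon S).obj V ⟶ G) (W : V.left.Opens)
    (hW : ∀ v, v ∈ W ↔ Points.ofPt φ v ∈ Set.range (Points.map j)) :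
    ∃ fst : (yon S).obj (Over.mk (W.ι ≫ V.hom)) ⟶ F,
      IsPullback fst ((yon S).map (Over.homMk W.ι rfl : Over.mk (W.ι ≫ V.hom) ⟶ V)) j φ := by
  have sq := hj.rep.isPullback φ
  let s := hj.rep.snd φ
  haveI : IsOpenImmersion s.left := hj.2 φ _ _ sq
  have hr : Set.range s.left = Set.range W.ι := by
    rw [Scheme.Opens.range_ι]
    ext v
    rw [mem_range_iff sq, SetLike.mem_coe, hW]
  let e : hj.rep.pullback φ ≅ Over.mk (W.ι ≫ V.hom) :=
    Over.isoMk (IsOpenImmersion.isoOfRangeEq s.left W.ι hr) (by
      simp only [Over.mk_hom, ← Category.assoc, IsOpenImmersion.isoOfRangeEq_hom_fac]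
      exact Over.w s)
  refine ⟨(yon S).map e.inv ≫ hj.rep.fst φ, sq.of_iso ((yon S).mapIso e) (Iso.refl _) (Iso.refl _)
    (Iso.refl _) ?_ ?_ (by simp) (by simp)⟩
  · simp [← Functor.map_comp_assoc]
  · simp only [Functor.mapIso_hom, Iso.refl_hom, Category.comp_id, ← Functor.map_comp]
    congr 1
    ext : 1
    exact (IsOpenImmersion.isoOfRangeEq_hom_fac _ _ hr).symm

end AlgSpRegLib
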