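import Groth.Agent.FlatLib.GenericFree
import Mathlib
/-!
# Flat finitely presented algebras preserve schematic density

The dévissage used here needs no Noetherian hypothesis: the coefficient ring of a presentation is
Noetherian, and one inducts on the ideals of that ring which annihilate the module.
-/

set_option autoImplicit false
set_option linter.style.haveILetI false
set_option synthInstance.maxHeartbeats 80000
universe u

open TensorProduct

namespace AlgSpRegLib

variable {A : Type u} [CommRing A]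

/-- Restriction to the open defined by `J` is injective on all sections of the module `M`. -/
def DenseMod (J : Set A) (M : Type u) [AddCommGroup M] [Module A M] : Prop :=
  ∀ (g : A) (m : M), (∀ a ∈ J, ∃ k : ℕ, (a * g) ^ k • m = 0) → ∃ k : ℕ, g ^ k • m = 0

theorem DenseMod.of_injective {J : Set A} {M N : Type u} [AddCommGroup M] [Module A M] [AddCommGroup N]
    [Module A N] (h : DenseMod J M) (i : N →ₗ[A] M) (hi : Function.Injective i) : DenseMod J N := by
  intro g m hm
  obtain ⟨k, hk⟩ := h g (i m) fun a ha => by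
    obtain ⟨k, hk⟩ := hm a ha
    exact ⟨k, by rw [← map_smul, hk, map_zero]⟩
  exact ⟨k, hi (by rw [map_smul, hk, map_zero])⟩

section Key

variable {A₀ : Type u} [CommRing A₀] [Algebra A₀ A]
  {C₀ : Type u} [CommRing C₀] [Algebra A₀ C₀] [Algebra.FiniteType A₀ C₀]
  {C : Type u} [CommRing C] [Algebra A C] [Module.Flat A C]

/-- Over a prime `P` of the coefficient ring there is `f ∉ P` such that, modulo `P` and up to powers of `f`,
a tensor with the algebra is detected by finitely supported families of coordinates. -/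
theorem exists_key (e : A ⊗[A₀] C₀ ≃ₗ[A] C) (P : Ideal A₀) [P.IsPrime] :
    ∃ f : A₀, f ∉ P ∧ ∀ (M : Type u) [AddCommGroup M] [Module A M] [Module A₀ M] [IsScalarTower A₀ A M],
      (∀ p ∈ P, ∀ m : M, p • m = 0) → ∀ (J : Set A), DenseMod J M →
        ∀ z : M ⊗[A] C, (∀ a ∈ J, ∃ k : ℕ, a ^ k • z = 0) →
          ∃ q : ℕ, (algebraMap A₀ A f) ^ q • z = 0 := by
  let R := A₀ ⧸ P
  obtain ⟨fb, hfb, hfree⟩ := FlatLib.gfree_of_finite (R := R) (R ⊗[A₀] C₀) (R ⊗[A₀] C₀)
  obtain ⟨f, rfl⟩ := Ideal.Quotient.mk_surjective fb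
  have hf : f ∉ P := fun h => hfb (Ideal.Quotient.eq_zero_iff_mem.2 h)
  refine ⟨f, hf, fun M _ _ _ _ hP J hD z hz => ?_⟩
  let L' := Localization.Away f
  let I : Ideal L' := P.map (algebraMap A₀ L')
  let L := L' ⧸ I
  letI algRL : Algebra R L := (Ideal.Quotient.lift P (algebraMap A₀ L) fun p hp => by
    rw [IsScalarTower.algebraMap_apply A₀ L' L, Ideal.Quotient.algebraMap_eq]
    exact Ideal.Quotient.eq_zero_iff_mem.2 (Ideal.mem_map_of_mem _ hp)).toAlgebra
  haveI : IsScalarTower A₀ R L := IsScalarTower.of_algebraMap_eq fun x => rfl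
  have hu : IsUnit (algebraMap R L (Ideal.Quotient.mk P f)) := by
    show IsUnit (algebraMap A₀ L f)
    rw [IsScalarTower.algebraMap_apply A₀ L' L]
    exact (IsLocalization.Away.algebraMap_isUnit f).map _
  have := FlatLib.free_tensor_of_isUnit L hu hfree
  have hfree' : Module.Free L (L ⊗[A₀] C₀) :=
    Module.Free.of_equiv (AlgebraTensorModule.cancelBaseChange A₀ R L L C₀)
  let b := Module.Free.chooseBasis L (L ⊗[A₀] C₀)
  let ι := Module.Free.ChooseBasisIndex L (L ⊗[A₀] C₀)
  let br : L ⊗[A₀] C₀ ≃ₗ[A₀] ι →₀ L := b.repr.restrictScalars A₀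
  let u : M →ₗ[A] M ⊗[A₀] L := (AlgebraTensorModule.mk A₀ A M L).flip 1
  have hu' : ∀ m, u m = m ⊗ₜ[A₀] (1 : L) := fun m => rfl
  -- every element of `M ⊗ L` is a fraction, and `u` has `f`-torsion kernel
  let pr : L' →ₗ[A₀] L := (Ideal.Quotient.mkₐ A₀ I).toLinearMap
  have hpr : Function.Surjective pr := Ideal.Quotient.mk_surjective
  have hex : Function.Exact (I.restrictScalars A₀).subtype pr := by
    intro x
    exact ⟨fun h => ⟨⟨x, Ideal.Quotient.eq_zero_iff_mem.1 h⟩, rfl⟩,
      fun ⟨y, hy⟩ => hy ▸ Ideal.Quotient.eq_zero_iff_mem.2 y.2⟩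
  have hzero : ∀ x ∈ I, ∀ m : M, m ⊗ₜ[A₀] x = 0 := by
    intro x hx
    induction hx using Submodule.span_induction with
    | mem x hx =>
      obtain ⟨p, hp, rfl⟩ := hx
      intro m
      rw [Algebra.algebraMap_eq_smul_one, ← smul_tmul, hP p hp, zero_tmul]
    | zero => exact fun m => tmul_zero _ _
    | add x y _ _ hx hy => exact fun m => by rw [tmul_add, hx, hy, add_zero]
    | smul r x _ hx =>
      intro m
      obtain ⟨⟨r₀, s⟩, rfl⟩ := IsLocalization.mk'_surjective (Submonoid.powers f) r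
      have h2 := congrArg (AlgebraTensorModule.lTensor A₀ M (LinearMap.mulLeft A₀ (IsLocalization.mk' L' r₀ s))) (hx m)
      simpa using! h2
  have hinj : Function.Injective (pr.lTensor M) := by
    rw [← LinearMap.ker_eq_bot, (_root_.lTensor_exact M hex hpr).linearMap_ker_eq, LinearMap.range_eq_bot]
    ext m x
    simpa using! hzero x.1 x.2 m
  have hloc : IsLocalizedModule (Submonoid.powers f) (TensorProduct.mk A₀ L' M 1) := inferInstance
  have hker : ∀ m : M, u m = 0 → ∃ q : ℕ, f ^ q • m = 0 := by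
    intro m hm
    have h1 : m ⊗ₜ[A₀] (1 : L') = 0 := hinj (by rw [map_zero]; simpa [pr] using! hm)
    have h2 : TensorProduct.mk A₀ L' M 1 m = 0 := by
      rw [TensorProduct.mk_apply, ← TensorProduct.comm_tmul, h1, map_zero]
    obtain ⟨⟨_, q, rfl⟩, hq⟩ := (IsLocalizedModule.eq_zero_iff (Submonoid.powers f)
      (TensorProduct.mk A₀ L' M 1)).1 h2
    exact ⟨q, hq⟩
  have hfrac : ∀ w : M ⊗[A₀] L, ∃ (q : ℕ) (m : M), f ^ q • w = u m := by
    intro w
    obtain ⟨w', rfl⟩ := LinearMap.lTensor_surjective M hpr w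
    obtain ⟨⟨m, ⟨_, q, rfl⟩⟩, hq⟩ := IsLocalizedModule.surj (Submonoid.powers f)
      (TensorProduct.mk A₀ L' M 1) (TensorProduct.comm A₀ M L' w')
    refine ⟨q, m, ?_⟩
    have h1 : f ^ q • w' = m ⊗ₜ[A₀] (1 : L') := by
      apply (TensorProduct.comm A₀ M L').injective
      rw [map_smul, TensorProduct.comm_tmul]
      exact hq
    rw [← map_smul, h1]
    simp [pr, hu']
  -- coordinates
  let Φ : M ⊗[A] C →ₗ[A] ι →₀ M ⊗[A₀] L :=
    (TensorProduct.finsuppRight A₀ A M L ι).toLinearMap ∘ₗ
      (AlgebraTensorModule.congr (LinearEquiv.refl A M) br).toLinearMap ∘ₗ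
        (AlgebraTensorModule.assoc A₀ A₀ A M L C₀).toLinearMap ∘ₗ
          (AlgebraTensorModule.cancelBaseChange A₀ A A (M ⊗[A₀] L) C₀).toLinearMap ∘ₗ
            (AlgebraTensorModule.congr (LinearEquiv.refl A (M ⊗[A₀] L)) e.symm).toLinearMap ∘ₗ
              u.rTensor C
  have hΦ : Φ z = 0 := by
    ext j
    obtain ⟨q, m, hm⟩ := hfrac (Φ z j)
    have hw : ∀ a ∈ J, ∃ k : ℕ, a ^ k • u m = 0 := fun a ha => by
      obtain ⟨k, hk⟩ := hz a ha
      refine ⟨k, ?_⟩
      have h1 : a ^ k • Φ z j = 0 := by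
        show (a ^ k • Φ z) j = 0
        rw [← map_smul, hk, map_zero]
        rfl
      rw [← hm, smul_comm, h1, smul_zero]
    have hm0 : ∃ l : ℕ, (algebraMap A₀ A f) ^ l • m = 0 := by
      refine hD _ _ fun a ha => ?_
      obtain ⟨k, hk⟩ := hw a ha
      rw [← map_smul] at hk
      obtain ⟨l, hl⟩ := hker _ hk
      refine ⟨k + l, ?_⟩
      rw [← algebraMap_smul A, map_pow] at hl
      rw [show (a * algebraMap A₀ A f) ^ (k + l) =
          (a ^ l * algebraMap A₀ A f ^ k) * (algebraMap A₀ A f ^ l * a ^ k) by ring, mul_smul, mul_smul _ (a ^ k),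
        hl, smul_zero]
    obtain ⟨l, hl⟩ := hm0
    rw [← map_pow, algebraMap_smul] at hl
    have h0 : f ^ (l + q) • Φ z j = 0 := by
      rw [pow_add, mul_smul, hm, ← algebraMap_smul A (f ^ l) (u m), ← map_smul, algebraMap_smul, hl, map_zero]
    have hunit : IsUnit (algebraMap A₀ L (f ^ (l + q))) := by
      rw [map_pow]
      exact (hu : IsUnit (algebraMap A₀ L f)).pow _
    obtain ⟨v, hv⟩ := hunit
    have h1 := congrArg ((LinearMap.mulLeft A₀ (↑v⁻¹ : L)).lTensor M) h0
    rw [← LinearMap.lTensor_id_apply M L (f ^ (l + q) • Φ z j)] at h1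
    have h2 : ∀ w : M ⊗[A₀] L, (LinearMap.mulLeft A₀ (↑v⁻¹ : L)).lTensor M (f ^ (l + q) • w) = w := by
      intro w
      induction w using TensorProduct.induction_on with
      | zero => simp
      | add x y hx hy => rw [smul_add, map_add, hx, hy]
      | tmul x y =>
        have hy : f ^ (l + q) • y = (v : L) * y := by
          rw [hv]; exact Algebra.smul_def (R := A₀) (A := L) _ _
        rw [← tmul_smul, LinearMap.lTensor_tmul, LinearMap.mulLeft_apply, hy, ← mul_assoc, Units.inv_mul, one_mul]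
    rw [Finsupp.zero_apply, ← h2 (Φ z j), h0, map_zero]
  have hu0 : u.rTensor C z = 0 := by
    simpa [Φ] using! hΦ
  obtain ⟨y, rfl⟩ := (Module.Flat.rTensor_exact C (LinearMap.exact_subtype_ker_map u)) z |>.1 hu0
  clear hz hΦ hu0
  induction y using TensorProduct.induction_on with
  | zero => exact ⟨0, by simp⟩
  | tmul m c =>
    obtain ⟨q, hq⟩ := hker m.1 m.2
    refine ⟨q, ?_⟩
    rw [LinearMap.rTensor_tmul, Submodule.coe_subtype, smul_tmul', ← map_pow, algebraMap_smul, hq, zero_tmul]
  | add x y hx hy =>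
    obtain ⟨a, ha⟩ := hx
    obtain ⟨b', hb⟩ := hy
    refine ⟨a + b', ?_⟩
    rw [map_add, smul_add, pow_add, mul_smul, mul_smul, hb, smul_zero, add_zero, smul_comm, ha, smul_zero]

/-- The dévissage. -/
theorem eq_zero_of_dense [IsNoetherianRing A₀] (e : A ⊗[A₀] C₀ ≃ₗ[A] C) (J : Set A) :
    ∀ (P : Ideal A₀) (M : Type u) [AddCommGroup M] [Module A M] [Module A₀ M] [IsScalarTower A₀ A M],
      (∀ p ∈ P, ∀ m : M, p • m = 0) → DenseMod J M →
        ∀ z : M ⊗[A] C, (∀ a ∈ J, ∃ k : ℕ, a ^ k • z = 0) → z = 0 := by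
  intro P
  induction P using WellFoundedGT.induction with
  | _ P IH =>
  intro M _ _ _ _ hP hD z hz
  -- reduction along multiplication by an element of the coefficient ring
  have step : ∀ c : A₀, c ∉ P → (algebraMap A₀ A c • (LinearMap.id : M →ₗ[A] M)).rTensor C z = 0 → z = 0 := by
    intro c hc hcz
    let φ : M →ₗ[A] M := algebraMap A₀ A c • LinearMap.id
    obtain ⟨w, hw⟩ := (Module.Flat.rTensor_exact C (LinearMap.exact_subtype_ker_map φ) z).1 hcz
    have hw0 : w = 0 := by
      refine IH (P ⊔ Ideal.span {c}) (left_lt_sup.2 fun h => hc (h (Ideal.mem_span_singleton_self c)))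
        (LinearMap.ker φ) ?_ (hD.of_injective (Submodule.subtype _) Subtype.val_injective) w fun a ha => ?_
      · intro p hp m
        obtain ⟨x, hx, y, hy, rfl⟩ := Submodule.mem_sup.1 hp
        obtain ⟨r, rfl⟩ := Ideal.mem_span_singleton'.1 hy
        have h1 : c • (m : M) = 0 := by
          have := m.2
          simpa [φ, algebraMap_smul] using! this
        apply Subtype.ext
        rw [Submodule.coe_smul_of_tower, add_smul, mul_smul, h1, hP x hx, smul_zero, add_zero]
        rfl
      · obtain ⟨k, hk⟩ := hz a ha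
        refine ⟨k, Module.Flat.rTensor_preserves_injective_linearMap (LinearMap.ker φ).subtype
          Subtype.val_injective ?_⟩
        rw [map_smul, hw, hk, map_zero]
    rw [← hw, hw0, map_zero]
  by_cases htop : P = ⊤
  · have : Subsingleton M := subsingleton_of_forall_eq 0 fun m => by
      rw [← one_smul A₀ m]; exact hP 1 (htop ▸ Submodule.mem_top) m
    exact Subsingleton.elim _ _
  by_cases hprime : P.IsPrime
  · obtain ⟨f, hf, hkey⟩ := exists_key e P
    obtain ⟨q, hq⟩ := hkey M hP J hD z hz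
    refine step (f ^ q) (fun h => hf (hprime.mem_of_pow_mem q h)) ?_
    rw [LinearMap.rTensor_smul, LinearMap.smul_apply, LinearMap.rTensor_id_apply, map_pow, hq]
  · obtain ⟨a, b, hab, ha, hb⟩ : ∃ a b, a * b ∈ P ∧ a ∉ P ∧ b ∉ P := by
      by_contra hcon
      push Not at hcon
      exact hprime ⟨htop, fun {x y} hxy => or_iff_not_imp_left.2 fun hx => hcon x y hxy hx⟩
    let φ : M →ₗ[A] M := algebraMap A₀ A a • LinearMap.id
    refine step a ha ?_
    have h0 : φ.rangeRestrict.rTensor C z = 0 := by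
      refine IH (P ⊔ Ideal.span {b}) (left_lt_sup.2 fun h => hb (h (Ideal.mem_span_singleton_self b)))
        (LinearMap.range φ) ?_ (hD.of_injective (Submodule.subtype _) Subtype.val_injective) _ fun x hx => ?_
      · rintro p hp ⟨_, m, rfl⟩
        obtain ⟨x, hx, y, hy, rfl⟩ := Submodule.mem_sup.1 hp
        obtain ⟨r, rfl⟩ := Ideal.mem_span_singleton'.1 hy
        apply Subtype.ext
        simp only [Submodule.coe_smul_of_tower, φ, LinearMap.smul_apply, LinearMap.id_apply, algebraMap_smul,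
          ZeroMemClass.coe_zero]
        rw [smul_smul]
        exact hP _ (by rw [add_mul, mul_assoc, mul_comm b a]; exact add_mem (P.mul_mem_right _ hx) (P.mul_mem_left _ hab)) m
      · obtain ⟨k, hk⟩ := hz x hx
        exact ⟨k, by rw [← map_smul, hk, map_zero]⟩
    show φ.rTensor C z = 0
    rw [show φ = (LinearMap.range φ).subtype ∘ₗ φ.rangeRestrict from rfl, LinearMap.rTensor_comp, LinearMap.comp_apply, h0,
      map_zero]

end Key

/-- For a flat finitely presented algebra, an element killed on a schematically dense open is zero. -/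
theorem eq_zero_of_flat_finitePresentation (C : Type u) [CommRing C] [Algebra A C] [Module.Flat A C]
    [Algebra.FinitePresentation A C] {J : Set A} (hJ : DenseMod J A) (z : C)
    (hz : ∀ a ∈ J, ∃ k : ℕ, algebraMap A C a ^ k * z = 0) : z = 0 := by
  obtain ⟨P⟩ : Nonempty (Algebra.Presentation A C (Fin (Algebra.Presentation.ofFinitePresentationVars A C))
      (Fin (Algebra.Presentation.ofFinitePresentationRels A C))) :=
    ⟨Algebra.Presentation.ofFinitePresentation A C⟩
  haveI : IsNoetherianRing P.Core := Algebra.FiniteType.isNoetherianRing ℤ _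
  let e : A ⊗[P.Core] P.ModelOfHasCoeffs P.Core ≃ₗ[A] C := (P.tensorModelOfHasCoeffsEquiv P.Core).toLinearEquiv
  have h := eq_zero_of_dense e J (⊥ : Ideal P.Core) A (fun p hp m => by
    rw [Ideal.mem_bot] at hp; rw [hp, zero_smul]) hJ ((TensorProduct.lid A C).symm z) fun a ha => by
    obtain ⟨k, hk⟩ := hz a ha
    refine ⟨k, ?_⟩
    rw [← map_smul, Algebra.smul_def, map_pow, hk, map_zero]
  rw [← (TensorProduct.lid A C).apply_symm_apply z, h, map_zero]

end AlgSpRegLib
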