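import Groth.Agent.AlgSpRegLib.DenseRing
import Groth.Prelude.Def_CInt
/-!
# Schematically dense opens under flat morphisms locally of finite presentation
-/

set_option autoImplicit false
set_option linter.style.haveILetI false

universe u

open CategoryTheory AlgebraicGeometry TopologicalSpace Opposite

namespace AlgSpRegLib

variable {X Y : Scheme.{u}}

theorem map_eq_zero_iff_germ {V W : X.Opens} (h : W ≤ V) (s : Γ(X, V)) :
    (X.presheaf.map (homOfLE h).op).hom s = 0 ↔ ∀ x (hx : x ∈ W), X.presheaf.germ V x (h hx) s = 0 := by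
  constructor
  · intro h0 x hx
    rw [← TopCat.Presheaf.germ_res_apply X.presheaf (homOfLE h) x hx s]
    exact (congrArg (X.presheaf.germ W x hx) h0).trans (map_zero _)
  · intro hg
    refine TopCat.Presheaf.section_ext X.sheaf W _ _ fun x hx => ?_
    exact ((TopCat.Presheaf.germ_res_apply X.presheaf (homOfLE h) x hx s).trans (hg x hx)).trans (map_zero _).symm

theorem isSchematicallyDense_iff (U : X.Opens) :
    CInt.IsSchematicallyDense U ↔
      ∀ (V : X.Opens) (s : Γ(X, V)), (∀ x (hx : x ∈ V), x ∈ U → X.presheaf.germ V x hx s = 0) → s = 0 := by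
  refine ⟨fun h V s hs => h V ?_, fun h V => (injective_iff_map_eq_zero _).2 fun s hs => h V s fun x hx hxU =>
    (map_eq_zero_iff_germ (inf_le_left : V ⊓ U ≤ V) s).1 hs x ⟨hx, hxU⟩⟩
  rw [map_zero]
  exact (map_eq_zero_iff_germ inf_le_left s).2 fun x hx => hs x hx.1 hx.2

theorem pow_mul_eq_zero_iff {V : X.Opens} (hV : IsAffineOpen V) (g : Γ(X, V)) (s : Γ(X, V)) :
    (∃ k : ℕ, g ^ k * s = 0) ↔
      ∀ x (hx : x ∈ X.basicOpen g), X.presheaf.germ V x (X.basicOpen_le g hx) s = 0 := by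
  letI : Algebra Γ(X, V) Γ(X, X.basicOpen g) :=
    (X.presheaf.map (homOfLE (X.basicOpen_le g)).op).hom.toAlgebra
  haveI : IsLocalization.Away g Γ(X, X.basicOpen g) := hV.isLocalization_basicOpen g
  rw [← map_eq_zero_iff_germ (X.basicOpen_le g) s]
  show _ ↔ algebraMap Γ(X, V) Γ(X, X.basicOpen g) s = 0
  rw [IsLocalization.map_eq_zero_iff (Submonoid.powers g)]
  exact ⟨fun ⟨k, hk⟩ => ⟨⟨_, k, rfl⟩, hk⟩, fun ⟨⟨_, k, rfl⟩, hk⟩ => ⟨k, hk⟩⟩

theorem denseMod_of_dense {U : X.Opens} (hU : CInt.IsSchematicallyDense U) {V : X.Opens} (hV : IsAffineOpen V) :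
    DenseMod {a : Γ(X, V) | X.basicOpen a ≤ U} Γ(X, V) := by
  intro g m hm
  simp only [smul_eq_mul] at hm ⊢
  rw [pow_mul_eq_zero_iff hV]
  intro x hx
  have h0 : (X.presheaf.map (homOfLE (X.basicOpen_le g)).op).hom m = 0 := by
    refine (isSchematicallyDense_iff U).1 hU _ _ fun y hy hyU => ?_
    obtain ⟨a, ha, hya⟩ := hV.exists_basicOpen_le (⟨y, hyU⟩ : U) (X.basicOpen_le g hy)
    obtain ⟨k, hk⟩ := hm a ha
    have h1 := (pow_mul_eq_zero_iff hV (a * g) m).1 ⟨k, hk⟩ y (by rw [Scheme.basicOpen_mul]; exact ⟨hya, hy⟩)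
    exact (TopCat.Presheaf.germ_res_apply X.presheaf (homOfLE (X.basicOpen_le g)) y hy m).trans h1
  exact (map_eq_zero_iff_germ _ m).1 h0 x hx

/-- Schematic density is preserved by flat morphisms locally of finite presentation. -/
theorem isSchematicallyDense_preimage (f : X ⟶ Y) [Flat f] [LocallyOfFinitePresentation f] (U : Y.Opens)
    (hU : CInt.IsSchematicallyDense U) : CInt.IsSchematicallyDense (f ⁻¹ᵁ U) := by
  rw [isSchematicallyDense_iff]
  intro V' s hs
  refine TopCat.Presheaf.section_ext X.sheaf V' _ _ fun x hx => ?_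
  obtain ⟨V, hV, hxV, -⟩ := exists_isAffineOpen_mem_and_subset (show f x ∈ (⊤ : Y.Opens) from trivial)
  obtain ⟨W, hW, hxW, hle⟩ := exists_isAffineOpen_mem_and_subset (show x ∈ V' ⊓ f ⁻¹ᵁ V from ⟨hx, hxV⟩)
  have hWV : W ≤ V' := hle.trans inf_le_left
  have e : W ≤ f ⁻¹ᵁ V := hle.trans inf_le_right
  suffices h : (X.presheaf.map (homOfLE hWV).op).hom s = 0 from
    ((map_eq_zero_iff_germ hWV s).1 h x hxW).trans (map_zero _).symm
  letI : Algebra Γ(Y, V) Γ(X, W) := (f.appLE V W e).hom.toAlgebra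
  haveI : Module.Flat Γ(Y, V) Γ(X, W) := f.flat_appLE hV hW e
  haveI : Algebra.FinitePresentation Γ(Y, V) Γ(X, W) :=
    HasRingHomProperty.appLE @LocallyOfFinitePresentation f inferInstance ⟨V, hV⟩ ⟨W, hW⟩ e
  refine eq_zero_of_flat_finitePresentation Γ(X, W) (denseMod_of_dense hU hV) _ fun a ha => ?_
  rw [pow_mul_eq_zero_iff hW]
  intro y hy
  rw [TopCat.Presheaf.germ_res_apply X.presheaf (homOfLE hWV) y (X.basicOpen_le _ hy) s]
  refine hs y _ (show f y ∈ U from ha ?_)
  have h1 : y ∈ X.basicOpen ((f.appLE V W e).hom a) := hy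
  rw [Scheme.basicOpen_appLE] at h1
  exact h1.2

/-- Schematic density descends along flat surjective morphisms. -/
theorem isSchematicallyDense_of_preimage (f : X ⟶ Y) [Flat f] [Surjective f] (U : Y.Opens)
    (hU : CInt.IsSchematicallyDense (f ⁻¹ᵁ U)) : CInt.IsSchematicallyDense U := by
  rw [isSchematicallyDense_iff] at hU ⊢
  intro V s hs
  have h0 : f.app V s = 0 := by
    refine hU _ _ fun x hx hxU => ?_
    rw [← Scheme.Hom.germ_stalkMap_apply f V x hx s, hs (f x) hx hxU, map_zero]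
  refine TopCat.Presheaf.section_ext Y.sheaf V _ _ fun y hy => ?_
  obtain ⟨x, rfl⟩ := f.surjective y
  have hinj : Function.Injective (f.stalkMap x).hom := by
    algebraize [(f.stalkMap x).hom]
    have : Module.Flat (Y.presheaf.stalk (f x)) (X.presheaf.stalk x) := Flat.stalkMap f x
    haveI : IsLocalHom (algebraMap (Y.presheaf.stalk (f x)) (X.presheaf.stalk x)) :=
      inferInstanceAs (IsLocalHom (f.stalkMap x).hom)
    haveI := Module.FaithfullyFlat.of_flat_of_isLocalHom (A := Y.presheaf.stalk (f x)) (B := X.presheaf.stalk x)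
    exact FaithfulSMul.algebraMap_injective (Y.presheaf.stalk (f x)) (X.presheaf.stalk x)
  refine hinj ?_
  show f.stalkMap x (Y.presheaf.germ V (f x) hy s) = f.stalkMap x (Y.presheaf.germ V (f x) hy 0)
  rw [Scheme.Hom.germ_stalkMap_apply f V x hy s, h0, map_zero, map_zero, map_zero]

end AlgSpRegLib
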