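import Groth.Agent.AlgSpRegLib.ChartOpen
import Groth.Agent.AlgSpRegLib.DenseScheme
import Groth.Agent.AlgSpLib.Qc
import Groth.Prelude.Def_AlgSpSub
import Mathlib.AlgebraicGeometry.Morphisms.SchemeTheoreticallyDominant
/-!
# Scheme theoretically dense open subspaces
-/

set_option autoImplicit false
set_option backward.isDefEq.respectTransparency false
set_option backward.isDefEq.respectTransparency.types false

universe u

open CategoryTheory CategoryTheory.Limits AlgebraicGeometry Opposite AlgSp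

namespace AlgSpRegLib

variable {S : Scheme.{u}}

theorem isSchematicallyDense_inf {X : Scheme.{u}} {U W : X.Opens} (hU : CInt.IsSchematicallyDense U)
    (hW : CInt.IsSchematicallyDense W) : CInt.IsSchematicallyDense (U ⊓ W) := by
  rw [isSchematicallyDense_iff] at *
  intro V s hs
  refine hU V s fun x hx hxU => ?_
  have h0 : (X.presheaf.map (homOfLE (inf_le_left : V ⊓ U ≤ V)).op).hom s = 0 := hW _ _ fun y hy hyW =>
    (TopCat.Presheaf.germ_res_apply X.presheaf (homOfLE inf_le_left) y hy s).trans (hs y hy.1 ⟨hy.2, hyW⟩)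
  exact (map_eq_zero_iff_germ inf_le_left s).1 h0 x ⟨hx, hxU⟩

theorem isSchemeTheoreticallyDominant_of_dense {X : Scheme.{u}} {W : X.Opens} (hW : CInt.IsSchematicallyDense W)
    [QuasiCompact W.ι] : IsSchemeTheoreticallyDominant W.ι := by
  rw [isSchemeTheoreticallyDominant_iff]
  refine Scheme.IdealSheafData.ext ?_
  funext V
  rw [Scheme.Hom.ker_apply]
  show RingHom.ker (W.ι.app V.1).hom = ⊥
  rw [← RingHom.injective_iff_ker_eq_bot, injective_iff_map_eq_zero]
  intro s hs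
  refine (isSchematicallyDense_iff W).1 hW _ _ fun x hx hxW => ?_
  refine (ConcreteCategory.bijective_of_isIso (W.ι.stalkMap ⟨x, hxW⟩)).1 ?_
  rw [map_zero]
  exact (W.ι.germ_stalkMap_apply V.1 ⟨x, hxW⟩ hx s).trans ((congrArg _ hs).trans (map_zero _))

theorem isSchematicallyDense_of_dominant {X : Scheme.{u}} {W : X.Opens} [QuasiCompact W.ι]
    [IsSchemeTheoreticallyDominant W.ι] : CInt.IsSchematicallyDense W := by
  rw [isSchematicallyDense_iff]
  intro V s hs
  refine W.ι.app_injective V ?_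
  rw [map_zero]
  refine TopCat.Presheaf.section_ext (W : Scheme.{u}).sheaf _ _ _ fun z hz => ?_
  refine Eq.trans ?_ (map_zero _).symm
  exact (W.ι.germ_stalkMap_apply V z hz s).symm.trans ((congrArg _ (hs z.1 hz z.2)).trans (map_zero _))

/-- A dense quasi-compact open stays dense after flat pullback. -/
theorem isSchematicallyDense_preimage_of_qc {X Y : Scheme.{u}} (f : X ⟶ Y) [Flat f] (U : Y.Opens)
    [QuasiCompact U.ι] (hU : CInt.IsSchematicallyDense U) : CInt.IsSchematicallyDense (f ⁻¹ᵁ U) := by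
  haveI := isSchemeTheoreticallyDominant_of_dense hU
  have sq := (isPullback_morphismRestrict f U).flip
  haveI : QuasiCompact (f ⁻¹ᵁ U).ι :=
    MorphismProperty.of_isPullback (P := @QuasiCompact) (isPullback_morphismRestrict f U) ‹_›
  haveI := IsSchemeTheoreticallyDominant.of_isPullback (isPullback_morphismRestrict f U)
  exact isSchematicallyDense_of_dominant

theorem mem_open_iff {F G : Sp S} {j : F ⟶ G} {V : Over S} {φ : (yon S).obj V ⟶ G} {W : V.left.Opens}
    {fst : (yon S).obj (Over.mk (W.ι ≫ V.hom)) ⟶ F}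
    (sq : IsPullback fst ((yon S).map (Over.homMk W.ι rfl : Over.mk (W.ι ≫ V.hom) ⟶ V)) j φ) (v : ↥V.left) :
    v ∈ W ↔ Points.ofPt φ v ∈ Set.range (Points.map j) := by
  rw [← mem_range_iff sq v]
  show _ ↔ v ∈ Set.range W.ι
  rw [Scheme.Opens.range_ι]
  rfl

theorem preimage_eq {F G : Sp S} {j : F ⟶ G} {V V' T : Over S} {φ : (yon S).obj V ⟶ G}
    {φ' : (yon S).obj V' ⟶ G} {W : V.left.Opens} {W' : V'.left.Opens}
    (hW : ∀ v, v ∈ W ↔ Points.ofPt φ v ∈ Set.range (Points.map j))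
    (hW' : ∀ v, v ∈ W' ↔ Points.ofPt φ' v ∈ Set.range (Points.map j))
    (t : T ⟶ V) (t' : T ⟶ V') (w : (yon S).map t ≫ φ = (yon S).map t' ≫ φ') :
    t.left ⁻¹ᵁ W = t'.left ⁻¹ᵁ W' := by
  ext x
  show t.left x ∈ W ↔ t'.left x ∈ W'
  rw [hW, hW', ← AlgSpLib.ofPt_yon_comp, ← AlgSpLib.ofPt_yon_comp, w]

/-- Schematic density holds on every etale chart. -/
theorem dense_of_isSchDense {F G : Sp S} {j : F ⟶ G} (hj : IsSchDense j) {V : Over S}
    {φ : (yon S).obj V ⟶ G} (hφ : RepWith @Etale φ) {W : V.left.Opens}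
    (hW : ∀ v, v ∈ W ↔ Points.ofPt φ v ∈ Set.range (Points.map j)) : CInt.IsSchematicallyDense W := by
  obtain ⟨-, V₀, φ₀, W₀, fst, hφ₀, hφ₀s, sq, hd⟩ := hj
  obtain ⟨T, t, t', sqT⟩ := AlgSpLib.exists_isPullback_yon φ₀ φ hφ₀.rep
  haveI : Etale t'.left := AlgSpLib.etale_left (AlgSpLib.repWith_of_isPullback sqT hφ₀)
  haveI : Surjective t'.left := AlgSpLib.surjective_left (AlgSpLib.repWith_of_isPullback sqT hφ₀s)
  haveI : Etale t.left := AlgSpLib.etale_left (AlgSpLib.repWith_of_isPullback sqT.flip hφ)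
  refine isSchematicallyDense_of_preimage t'.left W ?_
  rw [← preimage_eq (mem_open_iff sq) hW t t' sqT.w]
  exact isSchematicallyDense_preimage t.left W₀ hd

theorem isSchDense_of_chart {F G : Sp S} {j : F ⟶ G} (hj : RepWith @IsOpenImmersion j) {V : Over S}
    {φ : (yon S).obj V ⟶ G} (hφ : RepWith @Etale φ) (hφs : RepWith @Surjective φ) (W : V.left.Opens)
    (hW : ∀ v, v ∈ W ↔ Points.ofPt φ v ∈ Set.range (Points.map j)) (hd : CInt.IsSchematicallyDense W) :
    IsSchDense j := by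
  obtain ⟨fst, sq⟩ := exists_isPullback_open hj φ W hW
  exact ⟨hj, V, φ, W, fst, hφ, hφs, sq, hd⟩

theorem isSchDense_inter {F F' G P : Sp S} (hG : IsAlgSpace G) {j : F ⟶ G} {j' : F' ⟶ G} (hj : IsSchDense j)
    (hj' : IsSchDense j') {fst : P ⟶ F} {snd : P ⟶ F'} (sq : IsPullback fst snd j j') :
    IsSchDense (fst ≫ j) := by
  have hc : RepWith @IsOpenImmersion (fst ≫ j) :=
    AlgSpLib.repWith_comp (AlgSpLib.repWith_of_isPullback sq.flip hj'.1) hj.1
  obtain ⟨V, φ, hφ, hφs⟩ := hG.atlas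
  have sq1 := hj.1.rep.isPullback φ
  have sq2 := hj'.1.rep.isPullback φ
  haveI : IsOpenImmersion (hj.1.rep.snd φ).left := hj.1.2 φ _ _ sq1
  haveI : IsOpenImmersion (hj'.1.rep.snd φ).left := hj'.1.2 φ _ _ sq2
  let W := (hj.1.rep.snd φ).left.opensRange
  let W' := (hj'.1.rep.snd φ).left.opensRange
  refine isSchDense_of_chart hc hφ hφs (W ⊓ W') (fun v => ?_)
    (isSchematicallyDense_inf (dense_of_isSchDense hj hφ fun v => mem_range_iff sq1 v)
      (dense_of_isSchDense hj' hφ fun v => mem_range_iff sq2 v))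
  show (v ∈ Set.range (hj.1.rep.snd φ).left ∧ v ∈ Set.range (hj'.1.rep.snd φ).left) ↔ _
  rw [mem_range_iff sq1, mem_range_iff sq2]
  constructor
  · rintro ⟨⟨x, hx⟩, ⟨y, hy⟩⟩
    obtain ⟨p, hp, -⟩ := AlgSpLib.exists_point_isPullback sq x y (hx.trans hy.symm)
    exact ⟨p, by rw [Points.map_comp, hp, hx]⟩
  · rintro ⟨p, hp⟩
    refine ⟨⟨Points.map fst p, ?_⟩, ⟨Points.map snd p, ?_⟩⟩
    · rw [← hp, Points.map_comp]
    · rw [← hp, sq.w, Points.map_comp]

theorem isSchDense_preimage_of_flat {X Y V V' : Sp S} (hX : IsAlgSpace X) (hY : IsAlgSpace Y) (hV : IsAlgSpace V)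
    {f : X ⟶ Y} (hf : LocP @Flat f) {j : V ⟶ Y} (hj : IsSchDense j) (hjq : IsQuasiCompactMor j)
    {fst : V' ⟶ V} {jX : V' ⟶ X} (sq : IsPullback fst jX j f) : IsSchDense jX := by
  obtain ⟨hoi, V₀, φ₀, W₀, f₀, hφ₀, hφ₀s, sq₀, hd⟩ := hj
  have hqc : RepWith @QuasiCompact j := (AlgSpLib.repWith_quasiCompact_iff hV hY hoi.rep).2 hjq
  haveI : QuasiCompact W₀.ι := hqc.2 φ₀ _ _ sq₀
  obtain ⟨U₀, ψ, hψ, hψs⟩ := hX.atlas
  obtain ⟨T, t, t', sqT⟩ := AlgSpLib.exists_isPullback_yon φ₀ (ψ ≫ f) hφ₀.rep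
  haveI : Etale t'.left := AlgSpLib.etale_left (AlgSpLib.repWith_of_isPullback sqT hφ₀)
  haveI : Surjective t'.left := AlgSpLib.surjective_left (AlgSpLib.repWith_of_isPullback sqT hφ₀s)
  have hχ : RepWith @Etale ((yon S).map t' ≫ ψ) :=
    AlgSpLib.repWith_comp ((repWith_yon_map_iff @Etale t').2 ‹_›) hψ
  have hχs : RepWith @Surjective ((yon S).map t' ≫ ψ) :=
    AlgSpLib.repWith_comp ((repWith_yon_map_iff @Surjective t').2 ‹_›) hψs
  haveI : Flat t.left := hf ((yon S).map t' ≫ ψ) φ₀ t hχ hφ₀ (by rw [Category.assoc]; exact sqT.w.symm)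
  refine isSchDense_of_chart (AlgSpLib.repWith_of_isPullback sq hoi) hχ hχs (t.left ⁻¹ᵁ W₀) (fun x => ?_)
    (isSchematicallyDense_preimage_of_qc t.left W₀ hd)
  show t.left x ∈ W₀ ↔ _
  rw [mem_open_iff sq₀, ← AlgSpLib.ofPt_yon_comp, sqT.w, ← Category.assoc, ← Points.map_ofPt _ f]
  constructor
  · rintro ⟨y, hy⟩
    obtain ⟨p, -, hp⟩ := AlgSpLib.exists_point_isPullback sq y _ hy
    exact ⟨p, hp⟩
  · rintro ⟨p, hp⟩
    refine ⟨Points.map fst p, ?_⟩
    rw [← hp, ← Points.map_comp, sq.w, Points.map_comp]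

end AlgSpRegLib
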