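import Groth.Agent.AlgSpRegLib.CartierSpace
import Groth.Agent.AlgSpRegLib.DenseSpace
import Groth.Agent.AlgSpLib.MorPack
import Groth.Agent.AlgSpLib.AffineDescent
import Groth.Agent.RefHullLib.Generic
import Groth.Agent.S1571
import Groth.Agent.S8853
import Groth.Agent.S1685
import Groth.Prelude.Def_W4stk3spdivLocPr
import Groth.Prelude.Def_Pi1
/-!
# Divisors on algebraic spaces
-/

set_option autoImplicit false
set_option backward.isDefEq.respectTransparency false
set_option backward.isDefEq.respectTransparency.types false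

universe u

open CategoryTheory CategoryTheory.Limits AlgebraicGeometry Opposite AlgSp

namespace AlgSpRegLib

variable {S : Scheme.{u}}

theorem mem_support_iff {F G : Sp S} {i : F ⟶ G} {V : Over S} {φ : (yon S).obj V ⟶ G} {I : V.left.IdealSheafData}
    {fst : (yon S).obj (Over.mk (I.subschemeι ≫ V.hom)) ⟶ F}
    (sq : IsPullback fst ((yon S).map (Over.homMk I.subschemeι rfl : Over.mk (I.subschemeι ≫ V.hom) ⟶ V)) i φ)
    (v : ↥V.left) : v ∈ I.support ↔ Points.ofPt φ v ∈ Set.range (Points.map i) := by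
  rw [← mem_range_iff sq v]
  show _ ↔ v ∈ Set.range I.subschemeι
  rw [Scheme.IdealSheafData.range_subschemeι]
  rfl

theorem mem_compl_iff {F G U : Sp S} {i : F ⟶ G} {j : U ⟶ G}
    (hU : Set.range (Points.map j) = (Set.range (Points.map i))ᶜ) {V : Over S} {φ : (yon S).obj V ⟶ G}
    {I : V.left.IdealSheafData} {fst : (yon S).obj (Over.mk (I.subschemeι ≫ V.hom)) ⟶ F}
    (sq : IsPullback fst ((yon S).map (Over.homMk I.subschemeι rfl : Over.mk (I.subschemeι ≫ V.hom) ⟶ V)) i φ)
    (v : ↥V.left) : v ∈ I.support.compl ↔ Points.ofPt φ v ∈ Set.range (Points.map j) := by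
  rw [hU, Set.mem_compl_iff, ← mem_support_iff sq]
  rfl

theorem isAffineMor_compl {F G U : Sp S} {i : F ⟶ G} {j : U ⟶ G} (hj : RepWith @IsOpenImmersion j)
    (hU : Set.range (Points.map j) = (Set.range (Points.map i))ᶜ) {V : Over S} {φ : (yon S).obj V ⟶ G}
    (hφ : RepWith @Etale φ) (hφs : RepWith @Surjective φ) {I : V.left.IdealSheafData}
    {fst : (yon S).obj (Over.mk (I.subschemeι ≫ V.hom)) ⟶ F}
    (sq : IsPullback fst ((yon S).map (Over.homMk I.subschemeι rfl : Over.mk (I.subschemeι ≫ V.hom) ⟶ V)) i φ)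
    (hI : Curv2.IsLocPrincipal I) : IsAffineMor j := by
  obtain ⟨fst', sqW⟩ := exists_isPullback_open hj φ I.support.compl (mem_compl_iff hU sq)
  exact AlgSpLib.isAffineMor_iff.2 (repWith_of_chart hj.rep hφ hφs sqW (Groth.Agent.S8853.result I hI))

theorem isLocPrincipal_of_effCartier {X : Scheme.{u}} {I : X.IdealSheafData} (hI : BlowUp.IsEffCartierIdeal I) :
    Curv2.IsLocPrincipal I := fun x _ => by
  obtain ⟨U, hx, f, -, hf⟩ := hI x
  exact ⟨U, hx, f, hf⟩

theorem isAffineMor_and_isSchDense_compl {F G U : Sp S} {i : F ⟶ G} {j : U ⟶ G} (hD : IsEffCartierSub i)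
    (hj : RepWith @IsOpenImmersion j) (hU : Set.range (Points.map j) = (Set.range (Points.map i))ᶜ) :
    IsAffineMor j ∧ IsSchDense j := by
  obtain ⟨-, V, φ, I, fst, hφ, hφs, sq, hI⟩ := hD
  refine ⟨isAffineMor_compl hj hU hφ hφs sq (isLocPrincipal_of_effCartier hI), ?_⟩
  obtain ⟨h1, h2⟩ := Groth.Agent.S1571.result V.left I hI
  haveI := h1
  haveI := h2
  haveI : QuasiCompact (Scheme.Opens.ι (X := V.left) I.support.compl) := inferInstance
  exact isSchDense_of_chart hj hφ hφs I.support.compl (mem_compl_iff hU sq) isSchematicallyDense_of_dominant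

/-- An effective Cartier divisor on a chart. -/
theorem exists_effCartier_chart {F G : Sp S} (hG : IsAlgSpace G) {i : F ⟶ G} (hD : IsEffCartierSub i) {U : Over S}
    {p : (yon S).obj U ⟶ G} (hp : RepWith @Etale p) (hps : RepWith @Surjective p) :
    ∃ (I : U.left.IdealSheafData) (q : (yon S).obj (Over.mk (I.subschemeι ≫ U.hom)) ⟶ F),
      BlowUp.IsEffCartierIdeal I ∧ RepWith @Etale q ∧ RepWith @Surjective q := by
  obtain ⟨I, q, sq⟩ := exists_ideal hD.1 p
  exact ⟨I, q, (isEffCartierSub_iff hG hD.1).1 hD U p hp I q sq, AlgSpLib.repWith_of_isPullback sq.flip hp,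
    AlgSpLib.repWith_of_isPullback sq.flip hps⟩

/-- A normal Noetherian local domain has `(S₂)`. -/
theorem min_two_le_depth_of_normal (R : Type u) [CommRing R] [IsLocalRing R] [IsNoetherianRing R] [IsDomain R]
    [IsIntegrallyClosed R] :
    min ((2 : ℕ) : WithBot ℕ∞) (ringKrullDim R) ≤ ((LocCoh.depth R R : ℕ∞) : WithBot ℕ∞) := by
  let m := IsLocalRing.maximalIdeal R
  have h1 := ReflexLib.hasSk_two_self (A := R) m
  rw [SMTLib.supportDim_localized_self, IsLocalRing.maximalIdeal_height_eq_ringKrullDim] at h1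
  haveI : IsNoetherianRing (Localization.AtPrime m) := IsLocalization.isNoetherianRing m.primeCompl _ ‹_›
  have hu : ∀ s ∈ m.primeCompl, IsUnit s := fun s hs => IsLocalRing.notMem_maximalIdeal.1 hs
  haveI : IsLocalization m.primeCompl R := IsLocalization.self (fun s hs => hu s hs)
  let e : Localization.AtPrime m ≃+* R :=
    (IsLocalization.algEquiv m.primeCompl (Localization.AtPrime m) R).toRingEquiv
  rw [CommAlgDim.depth_congr ((IsLocalizedModule.iso m.primeCompl (Algebra.linearMap R (Localization.AtPrime m))).extendScalarsOfIsLocalization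
    m.primeCompl (Localization.AtPrime m))] at h1
  obtain ⟨d, hd⟩ : ∃ d : ℕ, min ((2 : ℕ) : WithBot ℕ∞) (ringKrullDim R) = ((d : ℕ∞) : WithBot ℕ∞) := by
    refine ⟨(min ((2 : ℕ) : ℕ∞) m.height).toNat, ?_⟩
    rw [← IsLocalRing.maximalIdeal_height_eq_ringKrullDim, ENat.coe_toNat, WithBot.coe_min]
    · rfl
    · exact ne_top_of_le_ne_top (ENat.coe_ne_top 2) (min_le_left _ _)
  rw [hd] at h1 ⊢
  exact_mod_cast CMFlatLib.le_depth_congr (d := d) e (by exact_mod_cast h1)

end AlgSpRegLib
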