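import Groth.Agent.AlgSpRegLib.Divisor
import Groth.Agent.EffCartLib.Basic
/-!
# The local criterion for effective Cartier divisors
-/

set_option autoImplicit false
set_option backward.isDefEq.respectTransparency false
set_option backward.isDefEq.respectTransparency.types false

universe u

open CategoryTheory CategoryTheory.Limits AlgebraicGeometry Opposite AlgSp

namespace AlgSpRegLib

variable {S : Scheme.{u}}

theorem comap_ideal_eq {F G : Sp S} {i : F ⟶ G} {V V' T : Over S} {φ : (yon S).obj V ⟶ G} {φ' : (yon S).obj V' ⟶ G}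
    {I : V.left.IdealSheafData} {J : V'.left.IdealSheafData}
    {fst : (yon S).obj (Over.mk (I.subschemeι ≫ V.hom)) ⟶ F}
    {fst' : (yon S).obj (Over.mk (J.subschemeι ≫ V'.hom)) ⟶ F}
    (sq : IsPullback fst ((yon S).map (Over.homMk I.subschemeι rfl : Over.mk (I.subschemeι ≫ V.hom) ⟶ V)) i φ)
    (sq' : IsPullback fst' ((yon S).map (Over.homMk J.subschemeι rfl : Over.mk (J.subschemeι ≫ V'.hom) ⟶ V')) i φ')
    (t : T ⟶ V) (t' : T ⟶ V') (w : (yon S).map t ≫ φ = (yon S).map t' ≫ φ') :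
    I.comap t.left = J.comap t'.left := by
  haveI : IsClosedImmersion (Over.homMk I.subschemeι rfl : Over.mk (I.subschemeι ≫ V.hom) ⟶ V).left :=
    (inferInstance : IsClosedImmersion I.subschemeι)
  haveI : IsClosedImmersion (Over.homMk J.subschemeι rfl : Over.mk (J.subschemeι ≫ V'.hom) ⟶ V').left :=
    (inferInstance : IsClosedImmersion J.subschemeι)
  simpa using! comap_ker_eq sq sq' t t' w

theorem exists_affine_chart_principal {F G : Sp S} {i : F ⟶ G} (hD : IsEffCartierSub i) (x : Points F) :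
    ∃ (U : Over S) (_ : IsAffine U.left) (a : (yon S).obj U ⟶ G) (u : ↥U.left) (f : Γ(U.left, ⊤))
      (I : U.left.IdealSheafData) (fst : (yon S).obj (Over.mk (I.subschemeι ≫ U.hom)) ⟶ F),
      RepWith @Etale a ∧ Points.ofPt a u = Points.map i x ∧ f ∈ nonZeroDivisors Γ(U.left, ⊤) ∧
        I.ideal ⟨⊤, isAffineOpen_top U.left⟩ = Ideal.span {f} ∧
        IsPullback fst ((yon S).map (Over.homMk I.subschemeι rfl : Over.mk (I.subschemeι ≫ U.hom) ⟶ U)) i a := by
  obtain ⟨hi, V, φ, I, fst, hφ, hφs, sq, hI⟩ := hD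
  obtain ⟨w, rfl⟩ := AlgSpLib.surjective_ofPt (AlgSpLib.repWith_of_isPullback sq.flip hφs) x
  obtain ⟨W, hwW, f, hf, hfI⟩ := hI (I.subschemeι w)
  let U : Over S := Over.mk (W.1.ι ≫ V.hom)
  let t : U ⟶ V := Over.homMk W.1.ι rfl
  haveI : Etale t.left := (inferInstance : Etale W.1.ι)
  haveI : IsAffine U.left := W.2
  obtain ⟨J, fst', sqJ⟩ := exists_ideal hi ((yon S).map t ≫ φ)
  have hJ : J = I.comap W.1.ι := by
    have h := comap_ideal_eq sqJ sq (𝟙 U) t (by rw [CategoryTheory.Functor.map_id, Category.id_comp])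
    simpa using! h
  have e : (⊤ : U.left.Opens) ≤ W.1.ι ⁻¹ᵁ W.1 := fun z _ => z.2
  refine ⟨U, W.2, (yon S).map t ≫ φ, ⟨_, hwW⟩, (W.1.ι.appLE W.1 ⊤ e).hom f, J, fst',
    AlgSpLib.repWith_comp ((repWith_yon_map_iff @Etale t).2 ‹_›) hφ, ?_, ?_, ?_, sqJ⟩
  · rw [AlgSpLib.ofPt_yon_comp, Points.map_ofPt, sq.w, AlgSpLib.ofPt_yon_comp]
    rfl
  · exact BlowUpLib.nzd_of_flat _ (HasRingHomProperty.appLE @Flat W.1.ι inferInstance W
      ⟨⊤, isAffineOpen_top U.left⟩ e) hf
  · rw [hJ]
    exact (Groth.Agent.S4666.ideal_comap_eq I W.1.ι W ⟨⊤, isAffineOpen_top U.left⟩ e).trans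
      (by rw [hfI, Ideal.map_span, Set.image_singleton]; rfl)

theorem isEffCartierSub_of_local {F G : Sp S} (hG : IsAlgSpace G) {i : F ⟶ G} (hi : RepWith @IsClosedImmersion i)
    (h : ∀ x : Points F, ∃ (U : Over S) (a : (yon S).obj U ⟶ G) (u : ↥U.left) (I : U.left.IdealSheafData)
      (fst : (yon S).obj (Over.mk (I.subschemeι ≫ U.hom)) ⟶ F),
      RepWith @Etale a ∧ Points.ofPt a u = Points.map i x ∧ BlowUp.IsEffCartierIdeal I ∧
        IsPullback fst ((yon S).map (Over.homMk I.subschemeι rfl : Over.mk (I.subschemeι ≫ U.hom) ⟶ U)) i a) :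
    IsEffCartierSub i := by
  rw [isEffCartierSub_iff hG hi]
  intro U' φ' hφ' J fst' sq'
  refine BlowUpLib.isEffCartier_of_cover fun v => ?_
  by_cases hv : v ∈ J.support
  · obtain ⟨x, hx⟩ := (mem_support_iff sq' v).1 hv
    obtain ⟨U, a, u, I, fst, ha, hu, hI, sq⟩ := h x
    obtain ⟨T, t, t', sqT⟩ := AlgSpLib.exists_isPullback_yon a φ' ha.rep
    haveI : Etale t.left := AlgSpLib.etale_left (AlgSpLib.repWith_of_isPullback sqT.flip hφ')
    haveI : Etale t'.left := AlgSpLib.etale_left (AlgSpLib.repWith_of_isPullback sqT ha)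
    let W : U'.left.Opens := ⟨Set.range t'.left, t'.left.isOpenMap.isOpen_range⟩
    let T' : T.left ⟶ (W : Scheme.{u}) := IsOpenImmersion.lift W.ι t'.left (by
      rw [Scheme.Opens.range_ι]; rfl)
    have hT' : T' ≫ W.ι = t'.left := IsOpenImmersion.lift_fac _ _ _
    haveI : Etale (T' ≫ W.ι) := by rw [hT']; infer_instance
    haveI : Etale T' := Etale.of_comp T' W.ι
    haveI : Surjective T' := ⟨fun z => by
      obtain ⟨p, hp⟩ := z.2
      exact ⟨p, Subtype.ext ((congrArg (fun g : T.left ⟶ U'.left => g p) hT').trans hp)⟩⟩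
    obtain ⟨p, -, hp⟩ := AlgSpLib.exists_point_isPullback sqT (Points.ofScheme U u) (Points.ofScheme U' v)
      (by rw [← Points.ofPt_eq_map_ofScheme, ← Points.ofPt_eq_map_ofScheme, hu, hx])
    obtain ⟨p, rfl⟩ := (Points.schemeHomeo T).surjective p
    have hpv : t'.left p = v := by
      apply (Points.schemeHomeo U').injective
      show Points.ofScheme U' (t'.left p) = Points.ofScheme U' v
      rw [← hp]
      show _ = Points.map ((yon S).map t') (Points.ofScheme T p)
      rw [← Points.ofPt_eq_map_ofScheme, ← Category.comp_id ((yon S).map t'), AlgSpLib.ofPt_yon_comp]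
    refine ⟨W, W.ι, inferInstance, by rw [Scheme.Opens.range_ι]; exact ⟨p, hpv⟩, ?_⟩
    refine isEffCartier_of_comap T' (Scheme.Hom.isOpenMap _) _ ?_
    rw [← Scheme.IdealSheafData.comap_comp, hT', ← comap_ideal_eq sq sq' t t' sqT.w]
    exact BlowUpLib.isEffCartier_comap_of_flat _ hI
  · refine ⟨_, Scheme.Opens.ι (X := U'.left) J.support.compl, inferInstance,
      by rw [Scheme.Opens.range_ι]; exact hv, ?_⟩
    convert EffCartLib.isEffCartier_top (X := (J.support.compl : U'.left.Opens)) using 1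
    refine (Scheme.IdealSheafData.support_eq_bot_iff _).1 ?_
    refine TopologicalSpace.Closeds.ext (Set.eq_empty_iff_forall_notMem.2 fun z hz => ?_)
    rw [Scheme.IdealSheafData.support_comap] at hz
    exact z.2 hz

end AlgSpRegLib
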