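import Groth.Agent.AlgSpRegLib.DenseSpace
import Groth.Agent.AlgSpLib.MonoRep
import Groth.Agent.AlgSpLib.Iso
import Groth.Agent.AlgSpLib.EtSmAffine
import Groth.Agent.SchDenseLib.Ext
import Groth.Agent.S0449
/-!
# Flat morphisms which are isomorphisms over a dense open
-/

set_option autoImplicit false
set_option backward.isDefEq.respectTransparency false
set_option backward.isDefEq.respectTransparency.types false

universe u

open CategoryTheory CategoryTheory.Limits AlgebraicGeometry Opposite AlgSp

namespace AlgSpRegLib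

variable {S : Scheme.{u}}

/-- A representable closed immersion through which a scheme theoretically dense open factors is an isomorphism. -/
theorem isIso_of_isSchDense_factor {E G Q : Sp S} (hG : IsAlgSpace G) {δ : E ⟶ G} (hδ : RepWith @IsClosedImmersion δ)
    {b : Q ⟶ G} (hb : IsSchDense b) (k : Q ⟶ E) (hk : k ≫ δ = b) : IsIso δ := by
  obtain ⟨-, V, φ, W, fW, hφ, hφs, sq, hd⟩ := hb
  have sqδ := hδ.rep.isPullback φ
  let s := hδ.rep.snd φ
  haveI : IsClosedImmersion s.left := hδ.2 φ _ _ sqδ
  let m := sqδ.lift (fW ≫ k) ((yon S).map (Over.homMk W.ι rfl : Over.mk (W.ι ≫ V.hom) ⟶ V))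
    (by rw [Category.assoc, hk, sq.w])
  obtain ⟨m', hm'⟩ := (yon S).map_surjective m
  have hm : m' ≫ s = (Over.homMk W.ι rfl : Over.mk (W.ι ≫ V.hom) ⟶ V) := (yon S).map_injective (by
    rw [Functor.map_comp, hm']; exact sqδ.lift_snd _ _ _)
  have hm2 : m'.left ≫ s.left = W.ι := congrArg (fun g => g.left) hm
  haveI : IsIso s.left := SchDenseLib.isIso_of_factor W hd s.left m'.left hm2
  haveI : IsIso s :=
    have : IsIso ((Over.forget S).map s) := ‹IsIso s.left›
    isIso_of_reflects_iso s (Over.forget S)
  haveI : Mono δ := AlgSpLib.mono_of_repWith (fun g (_ : IsClosedImmersion g) => inferInstance) hδ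
  haveI : Sheaf.IsLocallySurjective φ := AlgSpLib.isLocallySurjective_of_repWith
    (AlgSpLib.repWith_mono (fun _ _ g (_ : Etale g) => (inferInstance : Flat g)) hφ)
    (AlgSpLib.repWith_mono (fun _ _ g (_ : Etale g) => (inferInstance : LocallyOfFinitePresentation g)) hφ) hφs
  have hfac : (inv ((yon S).map s) ≫ hδ.rep.fst φ) ≫ δ = φ := by
    rw [Category.assoc, sqδ.w]; simp [s]
  haveI : Sheaf.IsLocallySurjective δ :=
    Presheaf.isLocallySurjective_of_isLocallySurjective_fac _ (congrArg (fun g => g.hom) hfac)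
  exact AlgSpLib.isIso_of_mono_isLocallySurjective δ

theorem openImmersion_of_flat_iso_over_dense {X Y V P : Sp S} (hX : IsAlgSpace X) (hY : IsAlgSpace Y)
    (hV : IsAlgSpace V) {f : X ⟶ Y} {j : V ⟶ Y} (h1 : IsSeparatedMor f) (h2 : LocP @LocallyOfFiniteType f)
    (h3 : LocP @Flat f) (hq : IsQuasiCompactMor j) (hj : IsSchDense j) {fst : P ⟶ X} {snd : P ⟶ V}
    (sq : IsPullback fst snd f j) [IsIso snd] : RepWith @IsOpenImmersion f := by
  haveI : AlgSpLib.EtLocProp (@Flat : MorphismProperty Scheme.{u}) := AlgSpLib.etLocProp_of_list (by simp)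
  -- `f` is a monomorphism
  let q : pullback f f ⟶ Y := pullback.fst f f ≫ f
  have hP2 := AlgSpLib.isAlgSpace_pullback hX hX hY f f
  have hqflat : LocP @Flat q := AlgSpLib.locP_comp hP2 hX hY
    (AlgSpLib.locP_of_isPullback hX hY hX (IsPullback.of_hasPullback f f).flip h3) h3
  have sqQ := (IsPullback.of_hasPullback j q)
  have hb : IsSchDense (pullback.snd j q) := isSchDense_preimage_of_flat hP2 hY hV hqflat hj hq sqQ
  let b := pullback.snd j q
  have e1 : (b ≫ pullback.fst f f) ≫ f = pullback.fst j q ≫ j := by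
    rw [Category.assoc]; exact sqQ.w.symm
  have e2 : (b ≫ pullback.snd f f) ≫ f = pullback.fst j q ≫ j := by
    rw [Category.assoc, ← pullback.condition]; exact sqQ.w.symm
  have e3 : b ≫ pullback.fst f f = b ≫ pullback.snd f f := by
    have h : sq.lift _ _ e1 = sq.lift _ _ e2 := by
      rw [← cancel_mono snd, sq.lift_snd, sq.lift_snd]
    rw [← sq.lift_fst _ _ e1, h, sq.lift_fst]
  haveI : IsIso (pullback.diagonal f) := isIso_of_isSchDense_factor hP2 h1 hb (b ≫ pullback.fst f f) (by
    apply pullback.hom_ext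
    · simp [b]
    · simpa [b] using e3)
  haveI : Mono f := (pullback.isIso_diagonal_iff f).1 inferInstance
  have hrep : Representable f := AlgSpLib.representable_of_mono_lft hX hY h2
  -- the property of every represented pullback
  have hqc : RepWith @QuasiCompact j := (AlgSpLib.repWith_quasiCompact_iff hV hY hj.1.rep).2 hq
  obtain ⟨-, V₀, φ, W, fW, hφ, hφs, sqW, hd⟩ := hj
  have sqf := hrep.isPullback φ
  let s := hrep.snd φ
  haveI : Mono ((yon S).map s) := by rw [← sqf.isoPullback_hom_snd]; infer_instance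
  haveI : Mono s := (yon S).mono_of_mono_map ‹_›
  haveI : Mono s.left := (inferInstance : Mono ((Over.forget S).map s))
  haveI : LocallyOfFiniteType s.left := h2 (hrep.fst φ) φ s (AlgSpLib.repWith_of_isPullback sqf.flip hφ) hφ sqf.w
  haveI : Flat s.left := h3 (hrep.fst φ) φ s (AlgSpLib.repWith_of_isPullback sqf.flip hφ) hφ sqf.w
  haveI : QuasiCompact W.ι := hqc.2 φ _ _ sqW
  haveI := isSchemeTheoreticallyDominant_of_dense hd
  -- over `W` the morphism `s` is an isomorphism
  let t : Over.mk (W.ι ≫ V₀.hom) ⟶ V₀ := Over.homMk W.ι rfl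
  have sqA := IsPullback.of_hasPullback s t
  have big := (sqA.map (yon S)).paste_horiz sqf
  rw [← sqW.w] at big
  let l := sq.lift ((yon S).map (pullback.fst s t) ≫ hrep.fst φ) ((yon S).map (pullback.snd s t) ≫ fW)
    (by rw [Category.assoc]; exact big.w)
  have sql : IsPullback l ((yon S).map (pullback.snd s t)) snd fW :=
    IsPullback.of_right (by rw [sq.lift_fst]; exact big) (sq.lift_snd _ _ _) sq
  haveI : IsIso ((yon S).map (pullback.snd s t)) := sql.isIso_snd_of_isIso
  haveI : IsIso (pullback.snd s t) := isIso_of_reflects_iso _ (yon S)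
  haveI : IsIso (pullback.snd s t).left := (inferInstance : IsIso ((Over.forget S).map (pullback.snd s t)))
  haveI : IsIso (s.left ∣_ W) := by
    have h := (isPullback_morphismRestrict s.left W).flip
    have h' : IsPullback (pullback.fst s t).left (pullback.snd s t).left s.left W.ι := sqA.map (Over.forget S)
    rw [← h.isoIsPullback_hom_snd _ _ h']
    infer_instance
  haveI : IsSeparated s.left := inferInstance
  exact repWith_of_chart hrep hφ hφs sqf (Groth.Agent.S0449.result s.left W)

end AlgSpRegLib
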