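import Groth.Agent.AlgSpLib.Iso
import Groth.Agent.AlgSpLib.LocP

/-!
# Surjective flat morphisms locally of finite presentation are fppf epimorphisms
-/

set_option autoImplicit false
set_option backward.isDefEq.respectTransparency false
set_option backward.isDefEq.respectTransparency.types false

universe u

open CategoryTheory CategoryTheory.Limits AlgebraicGeometry Opposite AlgSp AlgSpLib

namespace AlgSpRegLib

variable {S : Scheme.{u}}

theorem isLocallySurjective_of_fppf {F G : Sp S} (hF : IsAlgSpace F) (hG : IsAlgSpace G) {f : F ⟶ G}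
    (hfl : LocP @Flat f) (hfp : LocP @LocallyOfFinitePresentation f) (hs : IsSurjectiveMor f) :
    Sheaf.IsLocallySurjective f := by
  haveI : EtLocProp (@Flat : MorphismProperty Scheme.{u}) := etLocProp_of_list (by simp)
  haveI : EtLocProp (@LocallyOfFinitePresentation : MorphismProperty Scheme.{u}) := etLocProp_of_list (by simp)
  refine ⟨fun {T} s => ?_⟩
  let b : (yon S).obj T ⟶ G := (AlgSp.J S).uliftYonedaEquiv.symm s
  have sq := IsPullback.of_hasPullback f b
  have hT := IsAlgSpace.yon_obj (S := S) T
  obtain ⟨U, a, ha, has⟩ := (isAlgSpace_pullback hF hT hG f b).atlas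
  obtain ⟨φ, hφ⟩ := (yon S).map_surjective (a ≫ pullback.snd f b)
  have e : a ≫ pullback.snd f b = (yon S).map φ ≫ 𝟙 _ := by rw [Category.comp_id, hφ]
  have : Flat φ.left := locP_of_isPullback hF hG hT sq hfl a (𝟙 _) φ ha (repWith_id _ _) e
  have : LocallyOfFinitePresentation φ.left := locP_of_isPullback hF hG hT sq hfp a (𝟙 _) φ ha (repWith_id _ _) e
  have hsur : Function.Surjective (Points.map ((yon S).map φ)) := by
    rw [hφ, show Points.map (a ≫ pullback.snd f b) = Points.map (pullback.snd f b) ∘ Points.map a from
      funext (Points.map_comp a (pullback.snd f b))]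
    exact (map_surjective_of_isPullback sq hs).comp (map_surjective_of_repWith has)
  rw [Points.map_yon_map_eq] at hsur
  have : Surjective φ.left :=
    ⟨(Function.Surjective.of_comp_left hsur (Points.schemeHomeo T).injective).of_comp⟩
  refine GrothendieckTopology.superset_covering _ ?_ (generate_singleton_mem_J φ)
  refine (Sieve.generate_le_iff _ _).2 ?_
  rintro _ _ ⟨⟩
  refine ⟨(AlgSp.J S).uliftYonedaEquiv (a ≫ pullback.fst f b), ?_⟩
  have := congrArg (AlgSp.J S).uliftYonedaEquiv
    (show (a ≫ pullback.fst f b) ≫ f = (yon S).map φ ≫ b by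
      rw [Category.assoc, pullback.condition, ← Category.assoc, ← hφ])
  rw [GrothendieckTopology.uliftYonedaEquiv_comp, ← GrothendieckTopology.uliftYonedaEquiv_naturality] at this
  simpa [b] using! this

end AlgSpRegLib
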