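import Groth.Agent.AlgSpRegLib.ImageScheme
import Groth.Prelude.Def_Neron
import Mathlib.AlgebraicGeometry.Morphisms.SchemeTheoreticallyDominant
import Mathlib.RingTheory.Flat.TorsionFree

/-!
# Closures of generic fibres over a Dedekind domain
-/

set_option autoImplicit false
set_option backward.isDefEq.respectTransparency false
set_option backward.isDefEq.respectTransparency.types false

universe u

open CategoryTheory CategoryTheory.Limits AlgebraicGeometry Opposite

namespace AlgSpRegLib

variable {R : Type u} [CommRing R] [IsDomain R]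

instance dominant_genPt : IsSchemeTheoreticallyDominant (Neron.genPt R) := by
  haveI : IsDominant (Neron.genPt R) := by
    rw [isDominant_iff]
    exact (PrimeSpectrum.denseRange_comap_iff_ker_le_nilRadical _).2 (le_of_eq_of_le
      ((RingHom.injective_iff_ker_eq_bot _).1 (IsFractionRing.injective R (FractionRing R))) bot_le)
  exact .of_isDominant _

/-- An affine scheme dominated by a scheme over the fraction field is flat over a Dedekind domain. -/
theorem flat_of_dominant_genPt_affine [IsDedekindDomain R] {X W : Scheme.{u}} [IsAffine W] (h : X ⟶ W)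
    [IsSchemeTheoreticallyDominant h] [QuasiCompact h] (f : W ⟶ Spec (CommRingCat.of R))
    (e : X ⟶ Spec (CommRingCat.of (FractionRing R))) (w : h ≫ f = e ≫ Neron.genPt R) : Flat f := by
  rw [HasRingHomProperty.iff_of_isAffine (P := @Flat)]
  let ι := (Scheme.ΓSpecIso (CommRingCat.of R)).inv
  suffices H : (ι ≫ f.appTop).hom.Flat by
    rw [CommRingCat.hom_comp] at H
    exact (RingHom.Flat.respectsIso.cancel_left_isIso ι f.appTop).1 H
  algebraize [(ι ≫ f.appTop).hom]
  change Module.Flat R Γ(W, ⊤)
  rw [IsDedekindDomain.flat_iff_torsion_eq_bot, Submodule.eq_bot_iff]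
  rintro x ⟨⟨r, hr⟩, hx⟩
  have hr0 : r ≠ 0 := nonZeroDivisors.ne_zero hr
  change (ι ≫ f.appTop).hom r * x = 0 at hx
  have e1 : ι ≫ f.appTop ≫ h.appTop =
      CommRingCat.ofHom (algebraMap R (FractionRing R)) ≫ (Scheme.ΓSpecIso (CommRingCat.of (FractionRing R))).inv ≫
        e.appTop := by
    rw [← Scheme.Hom.comp_appTop, w, Scheme.Hom.comp_appTop]
    simp only [ι, ← Category.assoc, ← Scheme.ΓSpecIso_inv_naturality]
  have hu : IsUnit ((ι ≫ f.appTop ≫ h.appTop).hom r) := by
    rw [e1, CommRingCat.hom_comp, RingHom.comp_apply]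
    refine IsUnit.map _ (IsUnit.mk0 _ ?_)
    exact (map_ne_zero_iff _ (IsFractionRing.injective R (FractionRing R))).2 hr0
  have h0 : h.appTop ((ι ≫ f.appTop).hom r * x) = 0 := by rw [hx, map_zero]
  rw [map_mul] at h0
  have h1 : h.appTop x = 0 := hu.mul_right_eq_zero.1 h0
  exact h.app_injective ⊤ (h1.trans (map_zero _).symm)

/-- A scheme dominated by a scheme over the fraction field is flat over a Dedekind domain. -/
theorem flat_of_dominant_genPt [IsDedekindDomain R] {X W : Scheme.{u}} (h : X ⟶ W)
    [IsSchemeTheoreticallyDominant h] [QuasiCompact h] (f : W ⟶ Spec (CommRingCat.of R))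
    (e : X ⟶ Spec (CommRingCat.of (FractionRing R))) (w : h ≫ f = e ≫ Neron.genPt R) : Flat f := by
  rw [IsZariskiLocalAtSource.iff_of_openCover (P := @Flat) W.affineCover]
  intro j
  exact flat_of_dominant_genPt_affine (pullback.snd h (W.affineCover.f j)) _ (pullback.fst h (W.affineCover.f j) ≫ e)
    (by rw [← pullback.condition_assoc, w, Category.assoc])

variable {V VK : Scheme.{u}} {f : V ⟶ Spec (CommRingCat.of R)} {pK : VK ⟶ V}
  {qK : VK ⟶ Spec (CommRingCat.of (FractionRing R))}

theorem qc_of_isPullback (sq : IsPullback pK qK f (Neron.genPt R)) : QuasiCompact pK :=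
  MorphismProperty.of_isPullback sq.flip (inferInstance : QuasiCompact (Neron.genPt R))

theorem mono_of_isPullback_genPt (sq : IsPullback pK qK f (Neron.genPt R)) : Mono pK := by
  haveI : IsLocalization (nonZeroDivisors R) (FractionRing R) := inferInstance
  haveI : IsPreimmersion (Neron.genPt R) := IsPreimmersion.of_isLocalization (nonZeroDivisors R)
  haveI : Mono (Neron.genPt R) := inferInstance
  haveI := sq
  exact MorphismProperty.of_isPullback (P := MorphismProperty.monomorphisms Scheme.{u}) sq.flip
    (MorphismProperty.monomorphisms.infer_property _)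

/-- The closure of a closed subscheme of the generic fibre is flat. -/
theorem flat_closure [IsDedekindDomain R] (sq : IsPullback pK qK f (Neron.genPt R)) (J : VK.IdealSheafData) :
    Flat ((J.subschemeι ≫ pK).ker.subschemeι ≫ f) := by
  haveI := qc_of_isPullback sq
  let g := J.subschemeι ≫ pK
  haveI : IsSchemeTheoreticallyDominant g.toImage := dominant_toImage g
  refine flat_of_dominant_genPt g.toImage _ (J.subschemeι ≫ qK) ?_
  change g.toImage ≫ g.imageι ≫ f = _
  rw [Scheme.Hom.toImage_imageι_assoc]
  simp only [g, Category.assoc, sq.w]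

/-- The generic fibre of the closure of a closed subscheme of the generic fibre. -/
theorem comap_closure (sq : IsPullback pK qK f (Neron.genPt R)) (J : VK.IdealSheafData) [IsDedekindDomain R] :
    (J.subschemeι ≫ pK).ker.comap pK = J := by
  haveI := qc_of_isPullback sq
  haveI := mono_of_isPullback_genPt sq
  haveI : Flat (Neron.genPt R) := by
    rw [HasRingHomProperty.Spec_iff (P := @Flat), CommRingCat.hom_ofHom, RingHom.flat_algebraMap_iff]
    exact IsLocalization.flat (FractionRing R) (nonZeroDivisors R)
  haveI : Flat pK := MorphismProperty.of_isPullback sq.flip ‹Flat (Neron.genPt R)›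
  have h : IsPullback (𝟙 _) J.subschemeι (J.subschemeι ≫ pK) pK := IsPullback.of_horiz_isIso_mono ⟨by simp⟩
  rw [← ker_eq_comap_of_isPullback h, Scheme.IdealSheafData.ker_subschemeι]

/-- A flat closed subscheme is the closure of its generic fibre. -/
theorem eq_closure_of_flat (sq : IsPullback pK qK f (Neron.genPt R)) (I : V.IdealSheafData)
    [Flat (I.subschemeι ≫ f)] : I = ((I.comap pK).subschemeι ≫ pK).ker := by
  haveI := qc_of_isPullback sq
  have sq2 := IsPullback.of_hasPullback I.subschemeι pK
  haveI : IsSchemeTheoreticallyDominant (pullback.fst I.subschemeι pK) :=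
    IsSchemeTheoreticallyDominant.of_isPullback (sq2.paste_vert sq).flip
  have h : (pullback.fst I.subschemeι pK ≫ I.subschemeι).ker = I := by
    rw [ker_comp_dominant, Scheme.IdealSheafData.ker_subschemeι]
  rw [pullback.condition] at h
  conv_lhs => rw [← h]
  rw [Scheme.Hom.ker_comp, Scheme.Hom.ker_comp, Scheme.IdealSheafData.ker_subschemeι,
    ← pullbackSymmetry_hom_comp_fst, ker_comp_dominant, Scheme.IdealSheafData.ker_fst_of_isClosedImmersion,
    Scheme.IdealSheafData.ker_subschemeι]

end AlgSpRegLib
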