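import Groth.Agent.AlgSpLib.Reduced
import Groth.Agent.AlgSpLib.Points
import Groth.Agent.AlgSpLib.LocP
import Groth.Prelude.Def_AlgSpOX
import Groth.Prelude.Def_AlgSpDec
import Mathlib.RingTheory.Flat.FaithfullyFlat.Algebra

/-!
# Global functions on algebraic spaces
-/

set_option autoImplicit false
set_option backward.isDefEq.respectTransparency false

universe u

open CategoryTheory CategoryTheory.Limits AlgebraicGeometry Opposite AlgSp AlgSpLib Topology

noncomputable section

namespace AlgSpRegLib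

variable {S : Scheme.{u}} {X : Sp S}

/-- The function on a chart underlying a global function. -/
def gsec (E : EtOver X) : ↥(gsectEt (OEt X)) →+* Γ(E.obj.left.left, ⊤) :=
  (ULift.ringEquiv.toRingHom).comp (limit.π (OEt X).obj (op E)).hom

theorem gsec_map {E E' : EtOver X} (g : E ⟶ E') (x : ↥(gsectEt (OEt X))) :
    g.hom.left.left.appTop.hom (gsec E' x) = gsec E x := by
  have h := ConcreteCategory.congr_hom (limit.w (OEt X).obj g.op) x
  rw [ConcreteCategory.comp_apply, OEt_map g] at h
  exact congrArg ULift.down h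

theorem gsec_ext {x y : ↥(gsectEt (OEt X))} (h : ∀ E, gsec E x = gsec E y) : x = y :=
  Limits.Concrete.limit_ext (OEt X).obj x y fun j => ULift.ext _ _ (h j.unop)

theorem exists_gsec (s : ∀ E : EtOver X, Γ(E.obj.left.left, ⊤))
    (hs : ∀ {E E' : EtOver X} (g : E ⟶ E'), g.hom.left.left.appTop.hom (s E') = s E) :
    ∃ x : ↥(gsectEt (OEt X)), ∀ E, gsec E x = s E := by
  let e := Types.isLimitEquivSections (isLimitOfPreserves (forget CommRingCat.{u + 1}) (limit.isLimit (OEt X).obj))
  let t : ((OEt X).obj ⋙ forget CommRingCat.{u + 1}).sections :=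
    ⟨fun j => ULift.up (s j.unop), fun {j j'} g => congrArg ULift.up (hs g.unop)⟩
  refine ⟨e.symm t, fun E => ?_⟩
  have := Types.isLimitEquivSections_symm_apply
    (isLimitOfPreserves (forget CommRingCat.{u + 1}) (limit.isLimit (OEt X).obj)) t (op E)
  exact congrArg ULift.down this

/-- The points where a global function does not vanish. -/
def gsupp (f : ↥(gsectEt (OEt X))) : Set (Points X) :=
  ⋃ E : EtOver X, Points.ofPt E.obj.hom '' (E.obj.left.left.basicOpen (gsec E f) : Set E.obj.left.left)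

theorem isOpen_gsupp (f : ↥(gsectEt (OEt X))) : IsOpen (gsupp f) :=
  isOpen_iUnion fun E => isOpenMap_ofPt E.property _ (Scheme.basicOpen _ _).2

/-- Two charts at one point dominate by a common chart. -/
theorem exists_common_chart (E E' : EtOver X) (e : E.obj.left.left) (e' : E'.obj.left.left)
    (h : Points.ofPt E.obj.hom e = Points.ofPt E'.obj.hom e') :
    ∃ (E'' : EtOver X) (g : E'' ⟶ E) (g' : E'' ⟶ E') (w : E''.obj.left.left),
      g.hom.left.left w = e ∧ g'.hom.left.left w = e' := by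
  obtain ⟨P, q, r, sq⟩ := exists_isPullback_yon E.obj.hom E'.obj.hom E.property.rep
  obtain ⟨w, hw, hw'⟩ := (ofPt_eq_ofPt_iff sq e e').1 h
  exact ⟨EtOver.mk ((yon S).map q ≫ E.obj.hom) (AlgSpLib.repWith_comp (repWith_of_isPullback sq.flip E'.property) E.property),
    EtOver.homMk q rfl, EtOver.homMk r sq.w.symm, w, hw, hw'⟩

theorem mem_gsupp_iff (f : ↥(gsectEt (OEt X))) (E : EtOver X) (e : E.obj.left.left) :
    Points.ofPt E.obj.hom e ∈ gsupp f ↔ e ∈ E.obj.left.left.basicOpen (gsec E f) := by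
  refine ⟨fun h => ?_, fun h => Set.mem_iUnion.2 ⟨E, e, h, rfl⟩⟩
  obtain ⟨E', e', he', hee⟩ := Set.mem_iUnion.1 h
  obtain ⟨E'', g, g', w, rfl, rfl⟩ := exists_common_chart E E' e e' hee.symm
  have h1 : w ∈ g'.hom.left.left ⁻¹ᵁ E'.obj.left.left.basicOpen (gsec E' f) := he'
  rw [Scheme.preimage_basicOpen_top, gsec_map, ← gsec_map g, ← Scheme.preimage_basicOpen_top] at h1
  exact h1

theorem gsupp_inter_subset (f g : ↥(gsectEt (OEt X))) : gsupp f ∩ gsupp g ⊆ gsupp (f * g) := by
  rintro _ ⟨hy, hy'⟩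
  obtain ⟨E, e, he, rfl⟩ := Set.mem_iUnion.1 hy
  rw [mem_gsupp_iff, map_mul, Scheme.basicOpen_mul]
  exact ⟨he, (mem_gsupp_iff g E e).1 hy'⟩

theorem gsupp_zero : gsupp (0 : ↥(gsectEt (OEt X))) = ∅ := by
  simp [gsupp, Scheme.basicOpen_zero]

theorem gsupp_nonempty (hX : IsReducedSp X) {f : ↥(gsectEt (OEt X))} (hf : f ≠ 0) : (gsupp f).Nonempty := by
  by_contra hne
  refine hf (gsec_ext fun E => ?_)
  haveI := isReduced_of_chart hX E.property
  rw [map_zero, ← basicOpen_eq_bot_iff]
  refine eq_bot_iff.2 fun e he => (hne ⟨_, (mem_gsupp_iff f E e).2 he⟩).elim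

theorem noZeroDivisors_gsect (hX : IsReducedSp X) [IrreducibleSpace (Points X)] :
    NoZeroDivisors ↥(gsectEt (OEt X)) := by
  refine ⟨fun {f g} h => ?_⟩
  by_contra hfg
  obtain ⟨hf, hg⟩ := not_or.1 hfg
  obtain ⟨y, hy⟩ := nonempty_preirreducible_inter (isOpen_gsupp f) (isOpen_gsupp g) (gsupp_nonempty hX hf)
    (gsupp_nonempty hX hg)
  have := gsupp_inter_subset f g hy
  rw [h, gsupp_zero] at this
  exact this

theorem nontrivial_gsect (hX : IsAlgSpace X) [Nonempty (Points X)] : Nontrivial ↥(gsectEt (OEt X)) := by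
  obtain ⟨U, a, ha, has⟩ := hX.atlas
  obtain ⟨e, -⟩ := surjective_ofPt has (Classical.arbitrary _)
  refine ⟨⟨0, 1, fun h => ?_⟩⟩
  haveI : Nonempty ↥(EtOver.mk a ha).obj.left.left := ⟨e⟩
  have := congrArg (gsec (EtOver.mk a ha)) h
  rw [map_zero, map_one] at this
  have h2 : (EtOver.mk a ha).obj.left.left.basicOpen (U := ⊤) 1 = ⊤ := Scheme.basicOpen_of_isUnit _ isUnit_one
  rw [← this, Scheme.basicOpen_zero] at h2
  exact (h2.symm.le (Set.mem_univ e) : e ∈ (⊥ : U.left.Opens)).elim

theorem dense_basicOpen_gsec (hX : IsReducedSp X) [IrreducibleSpace (Points X)] {b : ↥(gsectEt (OEt X))}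
    (hb : b ≠ 0) (E : EtOver X) : Dense (E.obj.left.left.basicOpen (gsec E b) : Set E.obj.left.left) := by
  have h := ((isOpen_gsupp b).dense (gsupp_nonempty hX hb)).preimage (isOpenMap_ofPt E.property)
  exact h.mono fun e he => (mem_gsupp_iff b E e).1 he

/-- Multiplication by a nonzero global function is injective on the functions of any open of a chart. -/
theorem eq_zero_of_mul_eq_zero (hX : IsReducedSp X) [IrreducibleSpace (Points X)] {b : ↥(gsectEt (OEt X))}
    (hb : b ≠ 0) (E : EtOver X) (W : E.obj.left.left.Opens) (c : Γ(E.obj.left.left, W))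
    (h : E.obj.left.left.presheaf.map (homOfLE le_top).op (gsec E b) * c = 0) : c = 0 := by
  haveI := isReduced_of_chart hX E.property
  rw [← basicOpen_eq_bot_iff]
  refine eq_bot_iff.2 fun e he => ?_
  obtain ⟨z, hz, hz'⟩ := (dense_basicOpen_gsec hX hb E).inter_open_nonempty _
    (E.obj.left.left.basicOpen c).2 ⟨e, he⟩
  have : z ∈ E.obj.left.left.basicOpen (E.obj.left.left.presheaf.map (homOfLE le_top).op (gsec E b) * c) := by
    rw [Scheme.basicOpen_mul, Scheme.basicOpen_res]
    exact ⟨⟨Scheme.basicOpen_le _ c hz, hz'⟩, hz⟩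
  rw [h, Scheme.basicOpen_zero] at this
  exact this

/-- A quotient of global functions which is regular at every point is a global function. -/
theorem exists_div (hX : IsReducedSp X) [IrreducibleSpace (Points X)] {a b : ↥(gsectEt (OEt X))} (hb : b ≠ 0)
    (h : ∀ (E : EtOver X) (e : E.obj.left.left), ∃ c, E.obj.left.left.presheaf.germ ⊤ e trivial (gsec E b) * c =
      E.obj.left.left.presheaf.germ ⊤ e trivial (gsec E a)) : ∃ c, b * c = a := by
  have hloc : ∀ E : EtOver X, ∃ s : Γ(E.obj.left.left, ⊤), gsec E b * s = gsec E a := by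
    intro E
    let T := E.obj.left.left
    let r : ∀ W : T.Opens, Γ(T, ⊤) →+* Γ(T, W) := fun W => (T.presheaf.map (homOfLE le_top).op).hom
    have hr : ∀ {V W : T.Opens} (i : V ⟶ W) (x : Γ(T, ⊤)), T.presheaf.map i.op (r W x) = r V x :=
      fun {V W} i x => by
        simp only [r, ← ConcreteCategory.comp_apply, ← Functor.map_comp, ← op_comp]; rfl
    have hpt : ∀ e : T, ∃ (W : T.Opens) (_ : e ∈ W) (c : Γ(T, W)), r W (gsec E b) * c = r W (gsec E a) := by
      intro e
      obtain ⟨c, hc⟩ := h E e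
      obtain ⟨V, heV, c, rfl⟩ := T.presheaf.germ_exist c
      rw [← T.presheaf.germ_res_apply (homOfLE le_top) e heV (gsec E b),
        ← T.presheaf.germ_res_apply (homOfLE le_top) e heV (gsec E a), ← map_mul] at hc
      obtain ⟨W, heW, i, i', hW⟩ := T.presheaf.germ_eq e heV heV _ _ hc
      refine ⟨W, heW, T.presheaf.map i.op c, ?_⟩
      rw [map_mul] at hW
      rw [← hr i (gsec E b), ← hr i' (gsec E a)]
      exact hW
    choose W heW c hc using hpt
    have hcompat : TopCat.Presheaf.IsCompatible T.presheaf W c := by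
      intro i j
      refine sub_eq_zero.1 (eq_zero_of_mul_eq_zero hX hb E (W i ⊓ W j) _ ?_)
      have h1 := congrArg (T.presheaf.map (TopologicalSpace.Opens.infLELeft (W i) (W j)).op) (hc i)
      have h2 := congrArg (T.presheaf.map (TopologicalSpace.Opens.infLERight (W i) (W j)).op) (hc j)
      rw [map_mul, hr, hr] at h1 h2
      change r (W i ⊓ W j) (gsec E b) * _ = 0
      rw [mul_sub]
      exact sub_eq_zero.2 (h1.trans h2.symm)
    obtain ⟨s, hs, -⟩ := T.sheaf.existsUnique_gluing' W ⊤ (fun i => homOfLE le_top)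
      (fun e _ => TopologicalSpace.Opens.mem_iSup.2 ⟨e, heW e⟩) c hcompat
    refine ⟨s, T.sheaf.eq_of_locally_eq' W ⊤ (fun i => homOfLE le_top)
      (fun e _ => TopologicalSpace.Opens.mem_iSup.2 ⟨e, heW e⟩) _ _ fun i => ?_⟩
    exact (map_mul _ _ _).trans ((congrArg _ (hs i)).trans (hc i))
  choose s hs using hloc
  obtain ⟨x, hx⟩ := exists_gsec s fun {E E'} g => by
    have h1 := congrArg g.hom.left.left.appTop.hom (hs E')
    rw [map_mul, gsec_map, gsec_map, ← hs E] at h1
    refine sub_eq_zero.1 (eq_zero_of_mul_eq_zero hX hb E ⊤ _ ?_)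
    rw [show (homOfLE le_top : (⊤ : E.obj.left.left.Opens) ⟶ ⊤).op = 𝟙 _ from rfl,
      CategoryTheory.Functor.map_id, ConcreteCategory.id_apply, mul_sub]
    exact sub_eq_zero.2 h1
  exact ⟨x, gsec_ext fun E => by rw [map_mul, hx, hs]⟩

/-- Divisibility in the local rings descends along etale morphisms of charts. -/
theorem exists_germ_div_of_chart (a b : ↥(gsectEt (OEt X))) {U : Over S} {p : (yon S).obj U ⟶ X}
    (hp : RepWith @Etale p) (hps : RepWith @Surjective p)
    (h : ∀ u : U.left, ∃ c, U.left.presheaf.germ ⊤ u trivial (gsec (EtOver.mk p hp) b) * c =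
      U.left.presheaf.germ ⊤ u trivial (gsec (EtOver.mk p hp) a))
    (E : EtOver X) (e : E.obj.left.left) :
    ∃ c, E.obj.left.left.presheaf.germ ⊤ e trivial (gsec E b) * c =
      E.obj.left.left.presheaf.germ ⊤ e trivial (gsec E a) := by
  obtain ⟨u, hu⟩ := surjective_ofPt hps (Points.ofPt E.obj.hom e)
  obtain ⟨E'', g, g', w, rfl, hw⟩ := exists_common_chart E (EtOver.mk p hp) e u hu.symm
  obtain ⟨c, hc⟩ := h u
  subst hw
  let φ := g.hom.left.left.stalkMap w
  have key : ∀ {E₁ : EtOver X} (k : E'' ⟶ E₁) (x : ↥(gsectEt (OEt X))),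
      k.hom.left.left.stalkMap w (E₁.obj.left.left.presheaf.germ ⊤ (k.hom.left.left w) trivial (gsec E₁ x)) =
        E''.obj.left.left.presheaf.germ ⊤ w trivial (gsec E'' x) := fun k x => by
    rw [Scheme.Hom.germ_stalkMap_apply, ← gsec_map k x]; rfl
  have hc' := congrArg (g'.hom.left.left.stalkMap w) hc
  rw [map_mul] at hc'
  erw [key g', key g', ← key g b, ← key g a] at hc'
  haveI := EtOver.etale_left g
  letI : Algebra _ _ := φ.hom.toAlgebra
  haveI : Module.Flat (E.obj.left.left.presheaf.stalk (g.hom.left.left w)) (E''.obj.left.left.presheaf.stalk w) :=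
    Flat.stalkMap g.hom.left.left w
  haveI : IsLocalHom (algebraMap (E.obj.left.left.presheaf.stalk (g.hom.left.left w))
      (E''.obj.left.left.presheaf.stalk w)) := inferInstanceAs (IsLocalHom φ.hom)
  haveI := Module.FaithfullyFlat.of_flat_of_isLocalHom (A := E.obj.left.left.presheaf.stalk (g.hom.left.left w))
    (B := E''.obj.left.left.presheaf.stalk w)
  let β := E.obj.left.left.presheaf.germ ⊤ (g.hom.left.left w) trivial (gsec E b)
  let α := E.obj.left.left.presheaf.germ ⊤ (g.hom.left.left w) trivial (gsec E a)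
  have h1 : α ∈ ((Ideal.span {β}).map (algebraMap _ (E''.obj.left.left.presheaf.stalk w))).comap
      (algebraMap (E.obj.left.left.presheaf.stalk (g.hom.left.left w)) _) := by
    rw [Ideal.mem_comap, Ideal.map_span, Set.image_singleton, Ideal.mem_span_singleton]
    exact ⟨_, hc'.symm⟩
  rw [Ideal.comap_map_eq_self_of_faithfullyFlat, Ideal.mem_span_singleton] at h1
  obtain ⟨d, hd⟩ := h1
  exact ⟨d, hd.symm⟩

theorem dvd_of_isIntegral_div {R O : Type*} [CommRing R] [IsDomain R] [CommRing O] [IsDomain O]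
    [IsIntegrallyClosed O] (φ : R →+* O) (hφ : Function.Injective φ) {a b : R} (hb0 : b ≠ 0)
    (hx : IsIntegral R (algebraMap R (FractionRing R) a / algebraMap R (FractionRing R) b)) :
    ∃ c, φ b * c = φ a := by
  have hinj : Function.Injective ((algebraMap O (FractionRing O)).comp φ) :=
    (IsFractionRing.injective O (FractionRing O)).comp hφ
  let ψ := IsFractionRing.lift (K := FractionRing R) hinj
  have hcomp : (algebraMap O (FractionRing O)).comp φ = ψ.comp (algebraMap _ _) := by
    exact RingHom.ext fun r => (IsFractionRing.lift_algebraMap (K := FractionRing R) hinj r).symm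
  obtain ⟨c, hc⟩ := (isIntegrallyClosed_iff (FractionRing O)).1 inferInstance
    (IsIntegral.map_of_comp_eq φ ψ hcomp hx)
  refine ⟨c, IsFractionRing.injective O (FractionRing O) ?_⟩
  rw [map_div₀] at hc
  have hb' : ψ (algebraMap _ _ b) ≠ 0 := by
    rw [IsFractionRing.lift_algebraMap]
    exact fun h => hb0 (hinj (h.trans (map_zero _).symm))
  have e : ∀ r, algebraMap O (FractionRing O) (φ r) = ψ (algebraMap R (FractionRing R) r) :=
    fun r => RingHom.congr_fun hcomp r
  rw [map_mul, e, e, hc, mul_div_cancel₀ _ hb']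

theorem isIntegrallyClosed_gsect (hXr : IsReducedSp X) [IrreducibleSpace (Points X)]
    [IsDomain ↥(gsectEt (OEt X))]
    (hn : EtaleLocally (fun U => ∀ u : ↥U, IsDomain ↥(U.presheaf.stalk u) ∧
      IsIntegrallyClosed ↥(U.presheaf.stalk u)) X) : IsIntegrallyClosed ↥(gsectEt (OEt X)) := by
  obtain ⟨U, p, hp, hps, hU⟩ := hn
  refine (isIntegrallyClosed_iff (FractionRing ↥(gsectEt (OEt X)))).2 fun {x} hx => ?_
  obtain ⟨a, b, hb, rfl⟩ := IsFractionRing.div_surjective (A := ↥(gsectEt (OEt X))) x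
  have hb0 := nonZeroDivisors.ne_zero hb
  obtain ⟨c, hc⟩ := exists_div hXr hb0 (exists_germ_div_of_chart a b hp hps fun u => by
    haveI := (hU u).1
    haveI := (hU u).2
    let O := U.left.presheaf.stalk u
    let φ : ↥(gsectEt (OEt X)) →+* O := (U.left.presheaf.germ ⊤ u trivial).hom.comp (gsec (EtOver.mk p hp))
    have hφ : Function.Injective φ := by
      refine (injective_iff_map_eq_zero φ).2 fun f hf => by_contra fun hf0 => ?_
      obtain ⟨W, huW, i, i', hW⟩ := U.left.presheaf.germ_eq u (U := ⊤) (V := ⊤) trivial trivial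
        (gsec (EtOver.mk p hp) f) 0 (hf.trans (map_zero _).symm)
      obtain ⟨z, hz, hz'⟩ := (dense_basicOpen_gsec hXr hf0 (EtOver.mk p hp)).inter_open_nonempty _ W.2 ⟨u, huW⟩
      have : z ∈ U.left.basicOpen (U.left.presheaf.map i.op (gsec (EtOver.mk p hp) f)) := by
        rw [Scheme.basicOpen_res]; exact ⟨hz, hz'⟩
      rw [hW, map_zero, Scheme.basicOpen_zero] at this
      exact this
    exact dvd_of_isIntegral_div φ hφ hb0 hx)
  exact ⟨c, by rw [eq_div_iff ((map_ne_zero_iff _ (IsFractionRing.injective _ _)).2 hb0), ← map_mul, mul_comm, hc]⟩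

end AlgSpRegLib
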