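import Groth.Agent.AlgSpLib.UnrLocusBC
import Groth.Agent.AlgSpLib.NearInv
import Groth.Agent.AlgSpLib.LocP
import Groth.Agent.AlgSpLib.RelDim
import Groth.Prelude.Def_AlgSpGpd

/-!
# Loci of group algebraic spaces
-/

set_option autoImplicit false
set_option backward.isDefEq.respectTransparency false
set_option backward.isDefEq.respectTransparency.types false

universe u

open CategoryTheory CategoryTheory.Limits AlgebraicGeometry Opposite AlgSp AlgSpLib
open MonoidalCategory CartesianMonoidalCategory MonObj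
open Topology

namespace AlgSpRegLib

variable {S : Scheme.{u}}

/-- A morphism has the property `P` on a neighbourhood of a point. -/
abbrev Near (P : MorphismProperty Scheme.{u}) {F G : Sp S} (f : F ⟶ G) (x : Points F) : Prop :=
  HasAtMor (fun U _ h u => ∃ W : U.Opens, u ∈ W ∧ P (W.ι ≫ h)) f x

/-- A local property of morphisms locally of finite type whose locus commutes with every base change. -/
structure LocusBC (P : MorphismProperty Scheme.{u}) (S : Scheme.{u}) : Prop where
  locP_iff : ∀ ⦃F G : Sp S⦄, IsAlgSpace F → IsAlgSpace G → ∀ f : F ⟶ G, LocP P f ↔ ∀ x, Near P f x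
  isOpen : ∀ ⦃F G : Sp S⦄, IsAlgSpace F → IsAlgSpace G → ∀ f : F ⟶ G, LocP @LocallyOfFiniteType f →
    IsOpen {x | Near P f x}
  bc : ∀ ⦃F G F' G' : Sp S⦄, IsAlgSpace F → IsAlgSpace G → IsAlgSpace G' → ∀ (f : F ⟶ G) (g : G' ⟶ G)
    (fst : F' ⟶ F) (snd : F' ⟶ G'), IsPullback fst snd f g → LocP @LocallyOfFiniteType f →
    ∀ w, Near P snd w ↔ Near P f (Points.map fst w)

theorem isOpen_near {P : MorphismProperty Scheme.{u}} [EtLocProp P] {F G : Sp S} (hF : IsAlgSpace F)
    (hG : IsAlgSpace G) (f : F ⟶ G) : IsOpen {x | Near P f x} := by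
  have hQ := @near_etInv P _
  obtain ⟨U, V, α, β, h, hα, hαs, hβ, -, e⟩ := exists_chart hF hG f
  rw [setOf_hasAtMor_eq_image (Q := fun U _ h u => ∃ W : U.Opens, u ∈ W ∧ P (W.ι ≫ h)) hQ hα hαs hβ e]
  exact isOpenMap_ofPt hα _ (isOpen_iff_forall_mem_open.2 fun z ⟨W, hz, hW⟩ =>
    ⟨W, fun w hw => ⟨W, hw, hW⟩, W.isOpen, hz⟩)

theorem locusBC_unramified : LocusBC (@LocallyOfFiniteType ⊓ @FormallyUnramified) S := by
  have hl : EtLocProp (@LocallyOfFiniteType ⊓ @FormallyUnramified : MorphismProperty Scheme.{u}) :=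
    etLocProp_of_list (Or.inr (Or.inr (Or.inr (Or.inr (Or.inr (Or.inr fun A B g => Iff.rfl))))))
  have hz : IsZariskiLocalAtSource (@LocallyOfFiniteType ⊓ @FormallyUnramified : MorphismProperty Scheme.{u}) :=
    isZariskiLocalAtSource_of_list (Or.inr (Or.inr (Or.inr (Or.inr (Or.inr (Or.inr fun A B g => Iff.rfl))))))
  refine ⟨fun F G hF hG f => locP_iff_forall_hasAtMor hF hG f, fun F G hF hG f _ => isOpen_near hF hG f,
    fun F G F' G' hF hG hG' f g fst snd sq hf w => ?_⟩
  have hQ := @near_etInv (@LocallyOfFiniteType ⊓ @FormallyUnramified : MorphismProperty Scheme.{u}) _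
  obtain ⟨U, V, U', V', α, β, h, α', β', h', π, v, u', hα, hβ, hα', hβ', e, e', hsq, hu', hu, -⟩ :=
    exists_chart_baseChange hF hG hG' sq w
  haveI : LocallyOfFiniteType h.left := hf α β h hα hβ e
  haveI : LocallyOfFiniteType h'.left := MorphismProperty.of_isPullback hsq ‹_›
  rw [← hu, ← hu']
  refine (hasAtMor_iff (Q := fun U _ h u => ∃ W : U.Opens, u ∈ W ∧
    (@LocallyOfFiniteType ⊓ @FormallyUnramified : MorphismProperty Scheme.{u}) (W.ι ≫ h)) hQ hα' hβ' e' u').trans
      (Iff.trans ?_ (hasAtMor_iff (Q := fun U _ h u => ∃ W : U.Opens, u ∈ W ∧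
    (@LocallyOfFiniteType ⊓ @FormallyUnramified : MorphismProperty Scheme.{u}) (W.ι ≫ h)) hQ hα hβ e _).symm)
  refine ⟨fun ⟨W, hW, hW'⟩ => ?_, fun ⟨W, hW, hW'⟩ => ?_⟩
  · obtain ⟨W₀, hW₀, hW₀'⟩ := (mem_locus_baseChange_iff hsq u').1 ⟨W, hW, hW'.2⟩
    exact ⟨W₀, hW₀, ⟨inferInstance, hW₀'⟩⟩
  · obtain ⟨W₀, hW₀, hW₀'⟩ := (mem_locus_baseChange_iff hsq u').2 ⟨W, hW, hW'.2⟩
    exact ⟨W₀, hW₀, ⟨inferInstance, hW₀'⟩⟩

theorem locusBC_lqf : LocusBC (@LocallyQuasiFinite ⊓ @LocallyOfFiniteType) S := by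
  have hl : EtLocProp (@LocallyQuasiFinite ⊓ @LocallyOfFiniteType : MorphismProperty Scheme.{u}) :=
    etLocProp_of_list (Or.inr (Or.inr (Or.inr (Or.inr (Or.inr (Or.inl fun A B g => Iff.rfl))))))
  have hz : IsZariskiLocalAtSource (@LocallyQuasiFinite ⊓ @LocallyOfFiniteType : MorphismProperty Scheme.{u}) :=
    isZariskiLocalAtSource_of_list (Or.inr (Or.inr (Or.inr (Or.inr (Or.inr (Or.inl fun A B g => Iff.rfl))))))
  refine ⟨fun F G hF hG f => locP_iff_forall_hasAtMor hF hG f, fun F G hF hG f _ => isOpen_near hF hG f,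
    fun F G F' G' hF hG hG' f g fst snd sq hf w => ?_⟩
  have hf' := locP_of_isPullback hF hG hG' sq hf
  have hF' : IsAlgSpace F' := IsAlgSpace.of_iso (isAlgSpace_pullback hF hG' hG f g) sq.isoPullback.symm
  exact ((hasAtMor_near_lqf_iff hF' hG' hf' (x := w)).trans
    (hasAtMor_fibreDim_baseChange hF hG hG' sq hf (fun e => e = 0) w)).trans
      (hasAtMor_near_lqf_iff hF hG hf _).symm

section
variable {B : Sp S} {P : MorphismProperty Scheme.{u}}

theorem isPullback_tensor (G X : Over B) :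
    IsPullback (fst G X).left (snd G X).left G.hom X.hom :=
  IsPullback.of_hasPullback G.hom X.hom

theorem isPullback_of_isIso_lift {G X Y : Over B} (a : G ⊗ X ⟶ Y) [IsIso (lift a (snd G X))] :
    IsPullback a.left (snd G X).left Y.hom X.hom := by
  haveI : IsIso (lift a (snd G X)).left := inferInstanceAs (IsIso ((Over.forget B).map (lift a (snd G X))))
  refine IsPullback.of_iso_pullback ⟨by rw [Over.w, Over.w]⟩ (asIso (lift a (snd G X)).left) ?_ ?_
  · exact congrArg CommaMorphism.left (lift_fst a (snd G X))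
  · exact congrArg CommaMorphism.left (lift_snd a (snd G X))

theorem near_iff_of_shear (hP : LocusBC P S) (hB : IsAlgSpace B) {G X Y : Over B} (hG : IsAlgSpace G.left)
    (hX : IsAlgSpace X.left) (hY : IsAlgSpace Y.left) (hGt : LocP @LocallyOfFiniteType G.hom)
    (hYt : LocP @LocallyOfFiniteType Y.hom) (a : G ⊗ X ⟶ Y) [IsIso (lift a (snd G X))]
    (w : Points (G ⊗ X).left) :
    Near P Y.hom (Points.map a.left w) ↔ Near P G.hom (Points.map (fst G X).left w) :=
  (hP.bc hY hB hX _ _ _ _ (isPullback_of_isIso_lift a) hYt w).symm.trans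
    (hP.bc hG hB hX _ _ _ _ (isPullback_tensor G X) hGt w)

theorem isIso_lift_mul (G : Over B) [GrpObj G] : IsIso (lift (μ[G]) (snd G G)) := by
  refine ⟨⟨lift (fst G G * (snd G G)⁻¹) (snd G G), ?_, ?_⟩⟩
  · apply CartesianMonoidalCategory.hom_ext
    · simp [MonObj.comp_mul, GrpObj.comp_inv, MonObj.mul_eq_mul]
    · simp
  · apply CartesianMonoidalCategory.hom_ext
    · simp [MonObj.comp_mul, GrpObj.comp_inv, MonObj.mul_eq_mul]
    · simp

theorem near_iff_unit (hP : LocusBC P S) (hB : IsAlgSpace B) (G : Over B) [GrpObj G] (hG : IsAlgSpace G.left)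
    (hGt : LocP @LocallyOfFiniteType G.hom) (g : Points G.left) :
    Near P G.hom g ↔ Near P G.hom (Points.map (η[G]).left (Points.map G.hom g)) := by
  haveI := isIso_lift_mul G
  have h := near_iff_of_shear hP hB hG hG hG hGt hGt (μ[G])
    (Points.map (lift (𝟙 G) ((𝟙 G : G ⟶ G)⁻¹)).left g)
  rw [← Points.map_comp, ← Points.map_comp, ← Over.comp_left, ← Over.comp_left, lift_fst,
    ← Hom.mul_def, mul_inv_cancel, Over.id_left, Points.map_id] at h
  rw [← h, ← Points.map_comp]
  rfl

theorem locP_iff_unit (hP : LocusBC P S) (hB : IsAlgSpace B) (G : Over B) [GrpObj G] (hG : IsAlgSpace G.left)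
    (hGt : LocP @LocallyOfFiniteType G.hom) :
    LocP P G.hom ↔ ∀ b, Near P G.hom (Points.map (η[G]).left b) :=
  (hP.locP_iff hG hB _).trans ⟨fun h b => h _, fun h g => (near_iff_unit hP hB G hG hGt g).2 (h _)⟩

theorem map_hom_unit (G : Over B) [GrpObj G] (b : Points B) :
    Points.map G.hom (Points.map (η[G]).left b) = b := by
  rw [← Points.map_comp, Over.w]
  exact Points.map_id b

theorem locP_torsor (hP : LocusBC P S) (hB : IsAlgSpace B) {G X : Over B} [GrpObj G] (hG : IsAlgSpace G.left)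
    (hX : IsAlgSpace X.left) (a : GAction G X) (ha : a.IsPseudoTorsor) (hGt : LocP @LocallyOfFiniteType G.hom)
    (hXt : LocP @LocallyOfFiniteType X.hom) (h : LocP P G.hom) : LocP P X.hom := by
  haveI : IsIso (lift a.act (snd G X)) := ha
  refine (hP.locP_iff hX hB _).2 fun x => ?_
  have h1 := near_iff_of_shear hP hB hG hX hX hGt hXt a.act
    (Points.map (lift (toUnit X ≫ η[G]) (𝟙 X)).left x)
  have e : lift (toUnit X ≫ η[G]) (𝟙 X) ≫ a.act = 𝟙 X := by
    rw [← lift_whiskerRight, Category.assoc, a.one_act, lift_leftUnitor_hom]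
  rw [← Points.map_comp, ← Over.comp_left, e, Over.id_left, Points.map_id] at h1
  exact h1.2 ((hP.locP_iff hG hB _).1 h _)

theorem exists_largest_open (hP : LocusBC P S) (hB : IsAlgSpace B) (G : Over B) [GrpObj G]
    (hG : IsAlgSpace G.left) (hGt : LocP @LocallyOfFiniteType G.hom) :
    ∃ (W : Sp S) (w : W ⟶ B), RepWith @IsOpenImmersion w ∧
      (∀ (W' : Sp S) (w' : W' ⟶ B), RepWith @IsOpenImmersion w' →
        (LocP P (pullback.snd G.hom w') ↔ ∃ k : W' ⟶ W, k ≫ w = w')) ∧
      (∀ (B' : Sp S), IsAlgSpace B' → ∀ (f : B' ⟶ B) (W'' : Sp S) (w'' : W'' ⟶ B'),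
        RepWith @IsOpenImmersion w'' →
        (LocP P (pullback.snd (pullback.snd G.hom f) w'') ↔
          ∃ k : W'' ⟶ pullback w f, k ≫ pullback.snd w f = w'')) := by
  let O : Set (Points B) := {b | Near P G.hom (Points.map (η[G]).left b)}
  have hO : IsOpen O := (hP.isOpen hG hB G.hom hGt).preimage (Points.continuous_map _)
  have hkey : ∀ g, Near P G.hom g ↔ Points.map G.hom g ∈ O := near_iff_unit hP hB G hG hGt
  refine ⟨openSub B O, openSubι B O, repWith_openSubι B hO, fun W' w' hw' => ?_, fun B' hB' f W'' w'' hw'' => ?_⟩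
  · have hW' : IsAlgSpace W' := isAlgSpace_of_representable hB _ hw'.rep
    have sq := IsPullback.of_hasPullback G.hom w'
    rw [exists_factor_iff (repWith_openSubι B hO), range_openSubι,
      hP.locP_iff (isAlgSpace_pullback hG hW' hB G.hom w') hW']
    constructor
    · rintro h _ ⟨t, rfl⟩
      obtain ⟨z, hz, -⟩ := exists_point_isPullback sq (Points.map (η[G]).left (Points.map w' t)) t
        (map_hom_unit G _)
      have := (hkey _).1 ((hP.bc hG hB hW' _ _ _ _ sq hGt z).1 (h z))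
      rwa [hz, map_hom_unit] at this
    · intro h z
      refine (hP.bc hG hB hW' _ _ _ _ sq hGt z).2 ((hkey _).2 ?_)
      rw [← Points.map_comp, sq.w, Points.map_comp]
      exact h ⟨_, rfl⟩
  · have hW'' : IsAlgSpace W'' := isAlgSpace_of_representable hB' _ hw''.rep
    have sqw := IsPullback.of_hasPullback (openSubι B O) f
    have sq := IsPullback.of_hasPullback G.hom f
    have hG' := isAlgSpace_pullback hG hB' hB G.hom f
    have hG't := locP_of_isPullback hG hB hB' sq hGt
    have sq' := IsPullback.of_hasPullback (pullback.snd G.hom f) w''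
    rw [exists_factor_iff (repWith_of_isPullback sqw (repWith_openSubι B hO)), range_map_of_isPullback sqw,
      range_openSubι, hP.locP_iff (isAlgSpace_pullback hG' hW'' hB' _ w'') hW'']
    constructor
    · rintro h _ ⟨t, rfl⟩
      obtain ⟨z, hz, hz'⟩ := exists_point_isPullback sq (Points.map (η[G]).left (Points.map f (Points.map w'' t)))
        (Points.map w'' t) (map_hom_unit G _)
      obtain ⟨y, hy, -⟩ := exists_point_isPullback sq' z t hz'
      have := (hkey _).1 ((hP.bc hG hB hB' _ _ _ _ sq hGt _).1 ((hP.bc hG' hB' hW'' _ _ _ _ sq' hG't y).1 (h y)))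
      rwa [hy, hz, map_hom_unit] at this
    · intro h y
      refine (hP.bc hG' hB' hW'' _ _ _ _ sq' hG't y).2 ((hP.bc hG hB hB' _ _ _ _ sq hGt _).2 ((hkey _).2 ?_))
      rw [← Points.map_comp (pullback.fst G.hom f) G.hom, sq.w, Points.map_comp,
        ← Points.map_comp (pullback.fst (pullback.snd G.hom f) w''), sq'.w, Points.map_comp]
      exact h ⟨_, rfl⟩

end

end AlgSpRegLib
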