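import Groth.Agent.AlgSpRegLib.ClosedSub
import Groth.Agent.AlgSpLib.LocP
import Groth.Prelude.Def_AlgSpSub

/-!
# Scheme theoretic images of morphisms of algebraic spaces
-/

set_option autoImplicit false
set_option backward.isDefEq.respectTransparency false
set_option backward.isDefEq.respectTransparency.types false

universe u

open CategoryTheory CategoryTheory.Limits AlgebraicGeometry Opposite AlgSp AlgSpLib

namespace AlgSpRegLib

variable {S : Scheme.{u}}

/-- `I` is the ideal of the closed subscheme `Z ×_X V` of `V`. -/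
def IsIdealOn {Z X : Sp S} (i : Z ⟶ X) {V : Over S} (φ : (yon S).obj V ⟶ X) (I : V.left.IdealSheafData) : Prop :=
  ∃ fst, IsPullback fst ((yon S).map (subι V I)) i φ

section IdealOn

variable {Z X : Sp S} {i : Z ⟶ X} {V : Over S} {φ : (yon S).obj V ⟶ X} {I : V.left.IdealSheafData}

theorem exists_isIdealOn (hi : RepWith @IsClosedImmersion i) (φ : (yon S).obj V ⟶ X) :
    ∃ I, IsIdealOn i φ I := exists_ideal hi φ

theorem IsIdealOn.comap_eq (h : IsIdealOn i φ I) {V' T : Over S} {φ' : (yon S).obj V' ⟶ X}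
    {J : V'.left.IdealSheafData} (h' : IsIdealOn i φ' J) (t : T ⟶ V) (t' : T ⟶ V')
    (w : (yon S).map t ≫ φ = (yon S).map t' ≫ φ') : I.comap t.left = J.comap t'.left := by
  obtain ⟨fst, sq⟩ := h
  obtain ⟨fst', sq'⟩ := h'
  haveI : IsClosedImmersion (subι V I).left := (inferInstance : IsClosedImmersion I.subschemeι)
  haveI : IsClosedImmersion (subι V' J).left := (inferInstance : IsClosedImmersion J.subschemeι)
  have h := comap_ker_eq sq sq' t t' w
  simpa using! h

theorem IsIdealOn.unique (h : IsIdealOn i φ I) {J : V.left.IdealSheafData} (h' : IsIdealOn i φ J) : I = J := by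
  have := h.comap_eq h' (𝟙 V) (𝟙 V) rfl
  simpa using! this

theorem IsIdealOn.comap (h : IsIdealOn i φ I) (hi : RepWith @IsClosedImmersion i) {T : Over S} (t : T ⟶ V) :
    IsIdealOn i ((yon S).map t ≫ φ) (I.comap t.left) := by
  obtain ⟨J, hJ⟩ := exists_isIdealOn hi ((yon S).map t ≫ φ)
  have := h.comap_eq hJ t (𝟙 T) (by simp)
  simp only [Over.id_left, Scheme.IdealSheafData.comap_id] at this
  rwa [this]

theorem IsIdealOn.factor_iff (h : IsIdealOn i φ I) {T : Over S} (r : T ⟶ V) :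
    (∃ l, l ≫ i = (yon S).map r ≫ φ) ↔ I.comap r.left = ⊥ := by
  obtain ⟨fst, sq⟩ := h
  rw [← factor_subι I r]
  refine ⟨fun ⟨l, hl⟩ => ?_, fun ⟨l, hl⟩ => ⟨(yon S).map l ≫ fst, ?_⟩⟩
  · obtain ⟨m, hm⟩ := (yon S).map_surjective (sq.lift l ((yon S).map r) hl)
    exact ⟨m, (yon S).map_injective (by rw [Functor.map_comp, hm, sq.lift_snd])⟩
  · rw [Category.assoc, sq.w, ← Category.assoc, ← Functor.map_comp, hl]

theorem IsIdealOn.le_of_hom (h : IsIdealOn i φ I) {Z' : Sp S} {i' : Z' ⟶ X} {J : V.left.IdealSheafData}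
    (h' : IsIdealOn i' φ J) (k : Z ⟶ Z') (hk : k ≫ i' = i) : J ≤ I := by
  obtain ⟨fst, sq⟩ := h
  have := (h'.factor_iff (subι V I)).1 ⟨fst ≫ k, by rw [Category.assoc, hk, sq.w]⟩
  rw [← le_bot_iff, ← Scheme.IdealSheafData.le_map_iff_comap_le, Scheme.IdealSheafData.map_bot] at this
  simpa using! this

theorem IsIdealOn.hom_of_le (h : IsIdealOn i φ I) (hφ : RepWith @Etale φ) (hφs : RepWith @Surjective φ)
    {Z' : Sp S} {i' : Z' ⟶ X} [Mono i'] {J : V.left.IdealSheafData}
    (h' : IsIdealOn i' φ J) (hle : J ≤ I) : ∃ k : Z ⟶ Z', k ≫ i' = i := by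
  obtain ⟨fst, sq⟩ := h
  haveI : Sheaf.IsLocallySurjective fst :=
    locSurj_of_atlas (repWith_of_isPullback sq.flip hφ) (repWith_of_isPullback sq.flip hφs)
  obtain ⟨l, hl⟩ := (h'.factor_iff (subι V I)).2 (by
    rw [← le_bot_iff, ← Scheme.IdealSheafData.le_map_iff_comap_le, Scheme.IdealSheafData.map_bot]
    simpa using! hle)
  exact factor_of_cover i' fst i l (by rw [hl, sq.w])

end IdealOn

theorem mono_of_closedImmersion {Z X : Sp S} {i : Z ⟶ X} (hi : RepWith @IsClosedImmersion i) : Mono i :=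
  AlgSpLib.mono_of_repWith (fun g (_ : IsClosedImmersion g) => inferInstance) hi

/-- A chart of `f` over a scheme mapping to the target. -/
def IsChartOn {X Y : Sp S} (f : X ⟶ Y) {U V : Over S} (φ : (yon S).obj V ⟶ Y) (a : (yon S).obj U ⟶ X)
    (h : U ⟶ V) : Prop :=
  ∃ c : (yon S).obj U ⟶ pullback f φ, RepWith @Etale c ∧ RepWith @Surjective c ∧
    c ≫ pullback.fst f φ = a ∧ c ≫ pullback.snd f φ = (yon S).map h

section Chart

variable {X Y : Sp S} {f : X ⟶ Y} {U V : Over S} {φ : (yon S).obj V ⟶ Y} {a : (yon S).obj U ⟶ X} {h : U ⟶ V}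

theorem IsChartOn.w (hc : IsChartOn f φ a h) : a ≫ f = (yon S).map h ≫ φ := by
  obtain ⟨c, -, -, h1, h2⟩ := hc
  rw [← h1, ← h2, Category.assoc, Category.assoc, pullback.condition]

theorem IsChartOn.locSurj (hc : IsChartOn f φ a h) (hφ : RepWith @Etale φ) (hφs : RepWith @Surjective φ) :
    Sheaf.IsLocallySurjective a := by
  obtain ⟨c, hc1, hc2, h1, -⟩ := hc
  have sq := IsPullback.of_hasPullback f φ
  rw [← h1]
  exact locSurj_of_atlas (repWith_comp hc1 (repWith_of_isPullback sq.flip hφ))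
    (repWith_comp hc2 (repWith_of_isPullback sq.flip hφs))

theorem exists_isChartOn (hX : IsAlgSpace X) (hY : IsAlgSpace Y) (f : X ⟶ Y) (φ : (yon S).obj V ⟶ Y) :
    ∃ (U : Over S) (a : (yon S).obj U ⟶ X) (h : U ⟶ V), IsChartOn f φ a h := by
  obtain ⟨U, c, hc, hcs⟩ := (isAlgSpace_pullback hX (IsAlgSpace.yon_obj V) hY f φ).atlas
  obtain ⟨h, hh⟩ := (yon S).map_surjective (c ≫ pullback.snd f φ)
  exact ⟨U, _, h, c, hc, hcs, rfl, hh.symm⟩

theorem factors_iff (hc : IsChartOn f φ a h) (hφ : RepWith @Etale φ) (hφs : RepWith @Surjective φ)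
    {Z : Sp S} {i : Z ⟶ Y} [Mono i] {I : V.left.IdealSheafData} (hI : IsIdealOn i φ I) :
    (∃ f' : X ⟶ Z, f' ≫ i = f) ↔ I.comap h.left = ⊥ := by
  rw [← hI.factor_iff h]
  refine ⟨fun ⟨f', hf'⟩ => ⟨a ≫ f', by rw [Category.assoc, hf', hc.w]⟩, fun ⟨l, hl⟩ => ?_⟩
  haveI := hc.locSurj hφ hφs
  exact factor_of_cover i a f l (by rw [hl, hc.w])

/-- Comparison of the images of two charts. -/
theorem comap_ker_le_of_bc {V' U' R : Over S} {φ' : (yon S).obj V' ⟶ Y} {a' : (yon S).obj U' ⟶ X} {h' : U' ⟶ V'}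
    (hc : IsChartOn f φ a h) (hc' : IsChartOn f φ' a' h') (p : R ⟶ V) (q : R ⟶ V')
    (hbc : (pullback.snd h p).left.ker = h.left.ker.comap p.left) (w : (yon S).map p ≫ φ = (yon S).map q ≫ φ') :
    h'.left.ker.comap q.left ≤ h.left.ker.comap p.left := by
  obtain ⟨c', hc1, hc2, h1, h2⟩ := hc'
  let m : (yon S).obj (pullback h p) ⟶ pullback f φ' :=
    pullback.lift ((yon S).map (pullback.fst h p) ≫ a) ((yon S).map (pullback.snd h p ≫ q)) (by
      rw [Category.assoc, hc.w, ← Category.assoc, ← Functor.map_comp, pullback.condition, Functor.map_comp,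
        Functor.map_comp, Category.assoc, Category.assoc, w])
  obtain ⟨M, m1, m2, sqM⟩ := exists_isPullback_yon c' m hc1.rep
  haveI : Etale m2.left := etale_left (repWith_of_isPullback sqM hc1)
  haveI : Surjective m2.left := surjective_left (repWith_of_isPullback sqM hc2)
  haveI := dominant_of_flat_surjective m2.left
  have w2 : m1 ≫ h' = (m2 ≫ pullback.snd h p) ≫ q := (yon S).map_injective (by
    rw [Functor.map_comp, ← h2, ← Category.assoc, sqM.w, Category.assoc, pullback.lift_snd, ← Functor.map_comp,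
      Category.assoc])
  have key : h'.left.ker.comap q.left ≤ (m2.left ≫ (pullback.snd h p).left).ker :=
    comap_ker_le_of_comm (g' := m1.left) (congrArg (fun k => k.left) w2)
  rw [ker_comp_dominant] at key
  rwa [hbc] at key

theorem comap_ker_le {V' U' R : Over S} {φ' : (yon S).obj V' ⟶ Y} {a' : (yon S).obj U' ⟶ X} {h' : U' ⟶ V'}
    (hc : IsChartOn f φ a h) (hc' : IsChartOn f φ' a' h') [QuasiCompact h.left] (p : R ⟶ V) (q : R ⟶ V')
    [Flat p.left] (w : (yon S).map p ≫ φ = (yon S).map q ≫ φ') :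
    h'.left.ker.comap q.left ≤ h.left.ker.comap p.left :=
  comap_ker_le_of_bc hc hc' p q (ker_eq_comap_of_isPullback (f := h.left) (g := p.left)
    (g' := (pullback.fst h p).left) (f' := (pullback.snd h p).left)
    ((IsPullback.of_hasPullback h p).map (Over.forget S))) w

theorem comap_ker_eq_of_qc {V' U' R : Over S} {φ' : (yon S).obj V' ⟶ Y} {a' : (yon S).obj U' ⟶ X} {h' : U' ⟶ V'}
    (hc : IsChartOn f φ a h) (hc' : IsChartOn f φ' a' h') [QuasiCompact h.left] [QuasiCompact h'.left]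
    (p : R ⟶ V) (q : R ⟶ V') [Flat p.left] [Flat q.left]
    (w : (yon S).map p ≫ φ = (yon S).map q ≫ φ') :
    h.left.ker.comap p.left = h'.left.ker.comap q.left :=
  le_antisymm (comap_ker_le hc' hc q p w.symm) (comap_ker_le hc hc' p q w)

/-- Pullbacks of an ideal on an atlas invariant under the relation agree along all pairs. -/
theorem comap_eq_of_relation (hφ : RepWith @Etale φ) (I : V.left.IdealSheafData)
    (H : ∀ (R : Over S) (p q : R ⟶ V), Etale p.left → Etale q.left → (yon S).map p ≫ φ = (yon S).map q ≫ φ →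
      I.comap p.left = I.comap q.left)
    (T : Over S) (r s : T ⟶ V) (w : (yon S).map r ≫ φ = (yon S).map s ≫ φ) :
    I.comap r.left = I.comap s.left := by
  obtain ⟨R, p, q, sq⟩ := exists_isPullback_yon φ φ hφ.rep
  have hp : Etale p.left := etale_left (repWith_of_isPullback sq.flip hφ)
  have hq : Etale q.left := etale_left (repWith_of_isPullback sq hφ)
  obtain ⟨l, hl⟩ := (yon S).map_surjective (sq.lift ((yon S).map r) ((yon S).map s) w)
  have h1 : l ≫ p = r := (yon S).map_injective (by rw [Functor.map_comp, hl, sq.lift_fst])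
  have h2 : l ≫ q = s := (yon S).map_injective (by rw [Functor.map_comp, hl, sq.lift_snd])
  rw [← h1, ← h2, Over.comp_left, Over.comp_left, Scheme.IdealSheafData.comap_comp,
    Scheme.IdealSheafData.comap_comp, H R p q hp hq sq.w]

end Chart

/-- The scheme theoretic image exists. -/
theorem exists_schImage {X Y : Sp S} (hX : IsAlgSpace X) (hY : IsAlgSpace Y) (f : X ⟶ Y) :
    ∃ (Z : Sp S) (i : Z ⟶ Y), IsAlgSpace Z ∧ IsSchImage f i := by
  obtain ⟨V, φ, hφ, hφs⟩ := hY.atlas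
  obtain ⟨U, a, h, hc⟩ := exists_isChartOn hX hY f φ
  let 𝓘 : Set V.left.IdealSheafData := {J | ∃ (Z' : Sp S) (i' : Z' ⟶ Y), RepWith @IsClosedImmersion i' ∧
    (∃ f'' : X ⟶ Z', f'' ≫ i' = f) ∧ IsIdealOn i' φ J}
  obtain ⟨Z, i, z, hZ, hi, sq, -⟩ := exists_closedSub hY hφ hφs (sSup 𝓘) fun T r s w => by
    rw [comap_sSup, comap_sSup]
    exact iSup_congr fun J => iSup_congr fun ⟨Z', i', _, _, hJ⟩ => hJ.comap_eq hJ r s w
  haveI := mono_of_closedImmersion hi
  refine ⟨Z, i, hZ, hi, (factors_iff hc hφ hφs ⟨z, sq⟩).2 ?_, fun Z' i' _ hi' hf => ?_⟩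
  · rw [comap_sSup]
    simp only [iSup_eq_bot]
    rintro J ⟨Z', i', hi', hf, hJ⟩
    haveI := mono_of_closedImmersion hi'
    exact (factors_iff hc hφ hφs hJ).1 hf
  · obtain ⟨J, hJ⟩ := exists_isIdealOn hi' φ
    haveI := mono_of_closedImmersion hi'
    exact IsIdealOn.hom_of_le ⟨z, sq⟩ hφ hφs hJ (le_sSup ⟨Z', i', hi', hf, hJ⟩)

/-- The ideal of the image is the kernel of a chart when the latter is invariant. -/
theorem isSchImage_iff_ker_of_invariant {X Y Z : Sp S} (hY : IsAlgSpace Y) {f : X ⟶ Y} {i : Z ⟶ Y}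
    (hi : RepWith @IsClosedImmersion i) {U V : Over S} {φ : (yon S).obj V ⟶ Y} {a : (yon S).obj U ⟶ X}
    {h : U ⟶ V} (hc : IsChartOn f φ a h) (hφ : RepWith @Etale φ) (hφs : RepWith @Surjective φ)
    (hinv : ∀ (T : Over S) (r s : T ⟶ V), (yon S).map r ≫ φ = (yon S).map s ≫ φ →
      h.left.ker.comap r.left = h.left.ker.comap s.left) : IsSchImage f i ↔ IsIdealOn i φ h.left.ker := by
  haveI := mono_of_closedImmersion hi
  constructor
  · intro hs
    obtain ⟨I, hI⟩ := exists_isIdealOn hi φ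
    have h1 : I ≤ h.left.ker := by
      have := (factors_iff hc hφ hφs hI).1 hs.2.1
      rwa [← le_bot_iff, ← Scheme.IdealSheafData.le_map_iff_comap_le, Scheme.IdealSheafData.map_bot] at this
    obtain ⟨Z₁, i₁, z₁, hZ₁, hi₁, sq₁, -⟩ := exists_closedSub hY hφ hφs h.left.ker
      hinv
    haveI := mono_of_closedImmersion hi₁
    obtain ⟨k, hk⟩ := hs.2.2 i₁ hZ₁ hi₁ ((factors_iff hc hφ hφs ⟨z₁, sq₁⟩).2 (comap_ker_self _))
    have h2 : h.left.ker ≤ I := hI.le_of_hom ⟨z₁, sq₁⟩ k hk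
    rwa [le_antisymm h2 h1]
  · intro hI
    refine ⟨hi, (factors_iff hc hφ hφs hI).2 (comap_ker_self _), fun Z' i' _ hi' hf => ?_⟩
    obtain ⟨J, hJ⟩ := exists_isIdealOn hi' φ
    haveI := mono_of_closedImmersion hi'
    refine hI.hom_of_le hφ hφs hJ ?_
    have := (factors_iff hc hφ hφs hJ).1 hf
    rwa [← le_bot_iff, ← Scheme.IdealSheafData.le_map_iff_comap_le, Scheme.IdealSheafData.map_bot] at this

/-- The ideal of the image of a quasi-compact chart is the kernel. -/
theorem isSchImage_iff_ker {X Y Z : Sp S} (hY : IsAlgSpace Y) {f : X ⟶ Y} {i : Z ⟶ Y}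
    (hi : RepWith @IsClosedImmersion i) {U V : Over S} {φ : (yon S).obj V ⟶ Y} {a : (yon S).obj U ⟶ X}
    {h : U ⟶ V} (hc : IsChartOn f φ a h) (hφ : RepWith @Etale φ) (hφs : RepWith @Surjective φ)
    [QuasiCompact h.left] : IsSchImage f i ↔ IsIdealOn i φ h.left.ker :=
  isSchImage_iff_ker_of_invariant hY hi hc hφ hφs
    (comap_eq_of_relation hφ _ fun _ p q _ _ w => comap_ker_eq_of_qc hc hc p q w)

end AlgSpRegLib
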