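import Groth.Agent.AlgSpRegLib.ImageQc
import Groth.Agent.AlgSpRegLib.DenseSpace
import Groth.Agent.AlgSpRegLib.FlatIso

/-!
# Density and scheme theoretic images
-/

set_option autoImplicit false
set_option backward.isDefEq.respectTransparency false
set_option backward.isDefEq.respectTransparency.types false

universe u

open CategoryTheory CategoryTheory.Limits AlgebraicGeometry Opposite AlgSp AlgSpLib TopologicalSpace

namespace AlgSpRegLib

variable {S : Scheme.{u}}

theorem isChartOn_of_isPullback {X Y : Sp S} {f : X ⟶ Y} {U V : Over S} {φ : (yon S).obj V ⟶ Y}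
    {a : (yon S).obj U ⟶ X} {h : U ⟶ V} (sq : IsPullback a ((yon S).map h) f φ) : IsChartOn f φ a h :=
  ⟨sq.isoPullback.hom, repWith_of_isIso sq.isoPullback.hom, repWith_of_isIso sq.isoPullback.hom,
    sq.isoPullback_hom_fst, sq.isoPullback_hom_snd⟩

theorem range_le_closure_of_isSchImage {X Y Z : Sp S} (hX : IsAlgSpace X) (hY : IsAlgSpace Y) {f : X ⟶ Y}
    (hf : IsQuasiCompactMor f) {i : Z ⟶ Y} (hs : IsSchImage f i) :
    Set.range (Points.map i) ⊆ closure (Set.range (Points.map f)) := by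
  obtain ⟨V, φ, hφ, hφs, hV⟩ := exists_affUnion_atlas hY
  obtain ⟨U, a, h, hc, hh⟩ := exists_qc_chart hX hY hf φ hV
  obtain ⟨fst, sq⟩ := (isSchImage_iff_ker hY hs.1 hc hφ hφs).1 hs
  intro y hy
  obtain ⟨v, rfl⟩ := surjective_ofPt hφs y
  have hv : v ∈ Set.range h.left.ker.subschemeι := (mem_range_iff sq v).2 hy
  rw [Scheme.IdealSheafData.range_subschemeι, Scheme.Hom.support_ker] at hv
  refine map_mem_closure (Points.continuous_ofPt φ) hv ?_
  rintro _ ⟨w, rfl⟩
  exact ⟨Points.ofPt a w, by rw [Points.map_ofPt, hc.w, ofPt_yon_comp]⟩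

theorem isSchImage_id_of_isSchDense {U X : Sp S} (hX : IsAlgSpace X) {j : U ⟶ X} (hd : IsSchDense j) :
    IsSchImage j (𝟙 X) := by
  refine ⟨repWith_of_isIso _, ⟨j, Category.comp_id j⟩, fun Z' i' _ hi' ⟨k, hk⟩ => ?_⟩
  haveI := isIso_of_isSchDense_factor hX hi' hd k hk
  exact ⟨inv i', IsIso.inv_hom_id i'⟩

theorem isSchDense_of_isSchImage_id {U X : Sp S} (hU : IsAlgSpace U) (hX : IsAlgSpace X) {j : U ⟶ X}
    (hj : RepWith @IsOpenImmersion j) (hq : IsQuasiCompactMor j) (hs : IsSchImage j (𝟙 X)) : IsSchDense j := by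
  obtain ⟨V, φ, hφ, hφs⟩ := hX.atlas
  have hjqc := (repWith_quasiCompact_iff hU hX hj.rep).2 hq
  have sq := hj.rep.isPullback φ
  let s := hj.rep.snd φ
  haveI : IsOpenImmersion s.left := hj.property φ _ _ sq
  haveI : QuasiCompact s.left := hjqc.property φ _ _ sq
  have hI := (isSchImage_iff_ker hX hs.1 (isChartOn_of_isPullback sq) hφ hφs).1 hs
  have hker : s.left.ker = ⊥ := by
    obtain ⟨g, hg⟩ := hI
    have := (IsIdealOn.factor_iff ⟨g, hg⟩ (𝟙 V)).1 ⟨φ, by simp⟩
    simpa using! this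
  have hι : s.left.opensRange.ι.ker = ⊥ := by
    rw [← hker, ← Scheme.Hom.isoOpensRange_inv_comp s.left, Scheme.Hom.ker_comp_of_isIso]
  haveI : QuasiCompact s.left.opensRange.ι := by
    rw [← Scheme.Hom.isoOpensRange_inv_comp s.left]; infer_instance
  haveI : IsSchemeTheoreticallyDominant s.left.opensRange.ι := ⟨hι⟩
  exact isSchDense_of_chart hj hφ hφs s.left.opensRange (fun v => mem_range_iff sq v)
    isSchematicallyDense_of_dominant

end AlgSpRegLib
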