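import Groth.Agent.AlgSpRegLib.CutByApps

/-!
# Immersions into their scheme theoretic images
-/

set_option autoImplicit false
set_option backward.isDefEq.respectTransparency false
set_option backward.isDefEq.respectTransparency.types false

universe u

open CategoryTheory CategoryTheory.Limits AlgebraicGeometry Opposite AlgSp AlgSpLib TopologicalSpace Topology

namespace AlgSpRegLib

section Scheme

variable {X Y : Scheme.{u}}

theorem denseRange_toImage (f : X ⟶ Y) (h : closure (Set.range f) = f.ker.support) : DenseRange f.toImage := by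
  rw [DenseRange, dense_iff_closure_eq, f.imageι.isEmbedding.closure_eq_preimage_closure_image,
    ← Set.range_comp, ← TopCat.coe_comp, ← Scheme.Hom.comp_base, f.toImage_imageι, h]
  ext z
  simp only [Set.mem_preimage, Set.mem_univ, iff_true]
  have : f.imageι z ∈ Set.range f.imageι := ⟨z, rfl⟩
  rwa [Scheme.IdealSheafData.range_subschemeι] at this

theorem support_ker_of_reduced (f : X ⟶ Y) [IsReduced X] : closure (Set.range f) = f.ker.support := by
  rw [ker_eq_vanishingIdeal f, Scheme.IdealSheafData.coe_support_vanishingIdeal, Closeds.coe_closure]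

theorem isSchematicallyDense_of_dense [IsReduced X] (U : X.Opens) (hU : Dense (U : Set X)) :
    CInt.IsSchematicallyDense U := by
  rw [isSchematicallyDense_iff]
  intro V s hs
  refine eq_zero_of_basicOpen_eq_bot _ (Opens.ext (Set.eq_empty_of_forall_notMem fun x hx => ?_))
  obtain ⟨y, hyb, hyU⟩ := hU.inter_open_nonempty _ (X.basicOpen s).2 ⟨x, hx⟩
  have hyV : y ∈ V := X.basicOpen_le s hyb
  have := (X.mem_basicOpen s y hyV).1 hyb
  rw [hs y hyV hyU] at this
  exact not_isUnit_zero this

/-- An immersion of a reduced scheme is open in its image. -/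
theorem isOpenImmersion_toImage_of_reduced (f : X ⟶ Y) [IsImmersion f] [IsReduced X] :
    IsOpenImmersion f.toImage := by
  haveI : IsReduced f.ker.subscheme := by
    rw [ker_eq_vanishingIdeal f]; exact DevissLib.isReduced_vanishingIdeal' _
  let U0 : f.image.Opens := f.imageι ⁻¹ᵁ f.coborderRange
  have hr : ∀ x, f.toImage x ∈ U0 := fun x => by
    show (f.imageι (f.toImage x)) ∈ f.coborderRange
    rw [← Scheme.Hom.comp_apply, f.toImage_imageι]
    have e := Scheme.Hom.comp_apply f.liftCoborder f.coborderRange.ι x
    rw [f.liftCoborder_ι] at e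
    rw [e]
    exact (f.liftCoborder x).2
  let m : X ⟶ U0.toScheme := IsOpenImmersion.lift U0.ι f.toImage (by
    rw [Scheme.Opens.range_ι]; rintro _ ⟨x, rfl⟩; exact hr x)
  have hm : m ≫ U0.ι = f.toImage := IsOpenImmersion.lift_fac _ _ _
  have hfac : m ≫ (f.imageι ∣_ f.coborderRange) = f.liftCoborder := by
    rw [← cancel_mono f.coborderRange.ι, Category.assoc, morphismRestrict_ι, ← Category.assoc, hm,
      f.toImage_imageι, f.liftCoborder_ι]
  haveI : IsClosedImmersion (m ≫ (f.imageι ∣_ f.coborderRange)) := by rw [hfac]; infer_instance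
  haveI : IsClosedImmersion (f.imageι ∣_ f.coborderRange) :=
    IsZariskiLocalAtTarget.restrict (inferInstance : IsClosedImmersion f.imageι) _
  haveI : IsClosedImmersion m := IsClosedImmersion.of_comp m (f.imageι ∣_ f.coborderRange)
  haveI : Surjective m := ⟨fun z => by
    have hd := denseRange_toImage f (support_ker_of_reduced f)
    have hcl : IsClosed (Set.range m) := m.isClosedEmbedding.isClosed_range
    by_contra hz
    have hzc : z ∈ (Set.range m)ᶜ := fun ⟨x, hx⟩ => hz ⟨x, hx⟩
    obtain ⟨_, ⟨w, hw, rfl⟩, x, hx⟩ := hd.inter_open_nonempty (U0.ι '' (Set.range m)ᶜ)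
      (U0.ι.isOpenEmbedding.isOpenMap _ hcl.isOpen_compl) ⟨_, z, hzc, rfl⟩
    refine hw ⟨x, U0.ι.isOpenEmbedding.injective ?_⟩
    rw [← Scheme.Hom.comp_apply, hm]
    exact hx⟩
  haveI : IsReduced U0.toScheme := isReduced_of_isOpenImmersion U0.ι
  haveI := isIso_of_isClosedImmersion_of_surjective m
  rw [← hm]
  infer_instance

end Scheme

variable {S : Scheme.{u}}

/-- An immersion is a dense open immersion into its scheme theoretic image. -/
theorem immersion_into_schImage {Z X Zb : Sp S} (hZ : IsAlgSpace Z) (hX : IsAlgSpace X) {h : Z ⟶ X}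
    (hh : RepWith @IsImmersion h) (hq : IsQuasiCompactMor h ∨ IsReducedSp Z) {c : Zb ⟶ X} (hc : IsSchImage h c)
    {h' : Z ⟶ Zb} (fac : h' ≫ c = h) :
    RepWith @IsOpenImmersion h' ∧ IsSchDense h' ∧ Dense (Set.range (Points.map h')) := by
  obtain ⟨V, φ, hφ, hφs⟩ := hX.atlas
  have sq := hh.rep.isPullback φ
  let s := hh.rep.snd φ
  haveI : IsImmersion s.left := hh.property φ _ _ sq
  have hchart := isChartOn_of_isPullback sq
  have hcase : QuasiCompact s.left ∨ IsReduced (hh.rep.pullback φ).left := hq.imp
    (fun hq => ((repWith_quasiCompact_iff hZ hX hh.rep).2 hq).property φ _ _ sq)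
    (fun hr => isReduced_chart hr hφ hchart)
  have hI : IsIdealOn c φ s.left.ker := by
    rcases hq with hq | hr
    · haveI : QuasiCompact s.left := ((repWith_quasiCompact_iff hZ hX hh.rep).2 hq).property φ _ _ sq
      exact (isSchImage_iff_ker hX hc.1 hchart hφ hφs).1 hc
    · exact (isSchImage_iff_ker_reduced hr hX hc.1 hchart hφ hφs).1 hc
  obtain ⟨z, sqc⟩ := hI
  let W := subOver V s.left.ker
  let t : hh.rep.pullback φ ⟶ W := Over.homMk s.left.toImage (by
    show s.left.toImage ≫ s.left.imageι ≫ V.hom = (hh.rep.pullback φ).hom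
    rw [← Category.assoc, s.left.toImage_imageι, Over.w s])
  have ht : t ≫ subι V s.left.ker = s := by ext : 1; exact s.left.toImage_imageι
  haveI := mono_subι V s.left.ker
  haveI : Mono ((yon S).map (subι V s.left.ker)) := inferInstance
  haveI := mono_of_closedImmersion hc.1
  have w1 : hh.rep.fst φ ≫ h' = (yon S).map t ≫ z := by
    rw [← cancel_mono c, Category.assoc, Category.assoc, fac, sq.w, sqc.w, ← Category.assoc,
      ← Functor.map_comp, ht]
  have sq' : IsPullback (hh.rep.fst φ) ((yon S).map t) h' z :=
    IsPullback.of_bot (by rw [fac, ← Functor.map_comp, ht]; exact sq) w1 sqc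
  have hzr : RepWith @Etale z := repWith_of_isPullback sqc.flip hφ
  have hzs : RepWith @Surjective z := repWith_of_isPullback sqc.flip hφs
  have hto : IsOpenImmersion t.left := by
    show IsOpenImmersion s.left.toImage
    rcases hcase with hqc | hred
    · infer_instance
    · exact isOpenImmersion_toImage_of_reduced _
  have hdense : DenseRange t.left := by
    show DenseRange s.left.toImage
    rcases hcase with hqc | hred
    · exact s.left.toImage.denseRange
    · exact denseRange_toImage _ (support_ker_of_reduced _)
  have hZb : IsAlgSpace Zb := isAlgSpace_of_representable hX c hc.1.1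
  have hopen : RepWith @IsOpenImmersion h' :=
    repWith_imm_of_fppf (Or.inr (Or.inl rfl)) hZb (fun _ : PUnit.{u + 1} => IsAlgSpace.yon_obj W)
      (isFppfCover_of_charts (fun _ : PUnit.{u + 1} => z) (fun _ => hzr)
        fun x => ⟨⟨⟩, map_surjective_of_repWith hzs x⟩) hZ (fun _ => sq')
      fun _ => (repWith_yon_map_iff _ _).2 hto
  haveI := hto
  have hsd : CInt.IsSchematicallyDense t.left.opensRange := by
    rcases hcase with hqc | hred
    · haveI : IsSchemeTheoreticallyDominant t.left := dominant_toImage s.left
      haveI : QuasiCompact t.left := inferInstanceAs (QuasiCompact s.left.toImage)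
      haveI : QuasiCompact t.left.opensRange.ι := by
        rw [← Scheme.Hom.isoOpensRange_inv_comp t.left]; infer_instance
      haveI : IsSchemeTheoreticallyDominant t.left.opensRange.ι := by
        rw [← Scheme.Hom.isoOpensRange_inv_comp t.left]; infer_instance
      exact isSchematicallyDense_of_dominant
    · haveI : IsReduced W.left := by
        show IsReduced s.left.ker.subscheme
        rw [ker_eq_vanishingIdeal s.left]; exact DevissLib.isReduced_vanishingIdeal' _
      exact isSchematicallyDense_of_dense _ hdense
  refine ⟨hopen, isSchDense_of_chart hopen hzr hzs t.left.opensRange (fun v => mem_range_iff sq' v) hsd, ?_⟩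
  have him : Points.ofPt z '' Set.range t.left ⊆ Set.range (Points.map h') := by
    rintro _ ⟨v, hv, rfl⟩
    exact (mem_range_iff sq' v).1 hv
  refine Dense.mono him ?_
  exact DenseRange.dense_image (surjective_ofPt hzs).denseRange (Points.continuous_ofPt z) hdense

end AlgSpRegLib
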