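import Groth.Agent.AlgSpRegLib.ImageApps
import Groth.Agent.FFDescLib.Closure

/-!
# Points of scheme theoretic images
-/

set_option autoImplicit false
set_option backward.isDefEq.respectTransparency false
set_option backward.isDefEq.respectTransparency.types false

universe u

open CategoryTheory CategoryTheory.Limits AlgebraicGeometry Opposite AlgSp AlgSpLib TopologicalSpace Topology

namespace AlgSpRegLib

/-- A specialization of the image of a point is reached by a valuation ring of the residue field of the point. -/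
theorem exists_valuationRing_of_specializes {U W : Scheme.{u}} (r : U ⟶ W) (x : U) {v : W} (h : r x ⤳ v) :
    ∃ (A : Type u) (_ : CommRing A) (_ : IsDomain A) (_ : ValuationRing A) (g : Spec (CommRingCat.of A) ⟶ W)
      (l : Spec (CommRingCat.of (FractionRing A)) ⟶ U),
      g (IsLocalRing.closedPoint A) = v ∧
        l ≫ r = Spec.map (CommRingCat.ofHom (algebraMap A (FractionRing A))) ≫ g := by
  let ψ : W.presheaf.stalk v ⟶ U.residueField x :=
    W.presheaf.stalkSpecializes h ≫ W.residue (r x) ≫ r.residueFieldMap x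
  obtain ⟨A, hA, hloc⟩ := IsLocalRing.exists_factor_valuationRing ψ.hom
  haveI : IsLocalHom (ψ.hom.codRestrict A.toSubring hA) := hloc
  let χ : W.presheaf.stalk v ⟶ CommRingCat.of A := CommRingCat.ofHom (ψ.hom.codRestrict _ hA)
  have w : U.fromSpecResidueField x ≫ r =
      Spec.map (CommRingCat.ofHom (algebraMap A (U.residueField x))) ≫ Spec.map χ ≫ W.fromSpecStalk v := by
    rw [← r.SpecMap_residueFieldMap_fromSpecResidueField x, Scheme.fromSpecResidueField,
      ← Scheme.SpecMap_stalkSpecializes_fromSpecStalk h]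
    simp_rw [← Spec.map_comp_assoc]
    simp only [Category.assoc]
    rfl
  let e : FractionRing A ≃ₐ[A] (U.residueField x) := FractionRing.algEquiv A (U.residueField x)
  refine ⟨A, inferInstance, inferInstance, inferInstance, Spec.map χ ≫ W.fromSpecStalk v,
    Spec.map (CommRingCat.ofHom e.symm.toRingEquiv.toRingHom) ≫ U.fromSpecResidueField x, ?_, ?_⟩
  · rw [Scheme.Hom.comp_apply]
    have : Spec.map χ (IsLocalRing.closedPoint A) = IsLocalRing.closedPoint (W.presheaf.stalk v) :=
      IsLocalRing.comap_closedPoint (S := A) (ψ.hom.codRestrict A.toSubring hA)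
    rw [this, W.fromSpecStalk_closedPoint]
  · rw [Category.assoc, w, ← Spec.map_comp_assoc]
    congr 2
    ext a
    exact e.symm.commutes a

variable {S : Scheme.{u}}

theorem exists_valuationRing_to_schImage {X Y Z : Sp S} (hX : IsAlgSpace X) (hY : IsAlgSpace Y) {f : X ⟶ Y}
    (hf : IsQuasiCompactMor f) {i : Z ⟶ Y} (hs : IsSchImage f i) (p : Points Z) :
    ∃ (A : Type u) (_ : CommRing A) (_ : IsDomain A) (_ : ValuationRing A) (str : Spec (CommRingCat.of A) ⟶ S)
      (a : (yon S).obj (Over.mk str) ⟶ Z)
      (x : (yon S).obj (Over.mk (Spec.map (CommRingCat.ofHom (algebraMap A (FractionRing A))) ≫ str)) ⟶ X),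
      Points.ofPt a (IsLocalRing.closedPoint A) = p ∧
      x ≫ f = (yon S).map (Over.homMk (Spec.map (CommRingCat.ofHom (algebraMap A (FractionRing A)))) rfl) ≫
        a ≫ i := by
  obtain ⟨V, φ, hφ, hφs, hV⟩ := exists_affUnion_atlas hY
  obtain ⟨U, aU, h, hc, hh⟩ := exists_qc_chart hX hY hf φ hV
  obtain ⟨z, sq⟩ := (isSchImage_iff_ker hY hs.1 hc hφ hφs).1 hs
  obtain ⟨v, rfl⟩ := surjective_ofPt (repWith_of_isPullback sq.flip hφs : RepWith @Surjective z) p
  let r : U.left ⟶ h.left.ker.subscheme := h.left.toImage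
  haveI : QuasiCompact r := inferInstanceAs (QuasiCompact h.left.toImage)
  have hv : (v : h.left.ker.subscheme) ∈ closure (Set.range r) := by
    rw [(h.left.toImage).denseRange.closure_eq]; trivial
  obtain ⟨x, hx⟩ := FFDescLib.exists_specializes_of_mem_closure_range (f := r) hv
  obtain ⟨A, i1, i2, i3, g, l, hg, hl⟩ := exists_valuationRing_of_specializes r x hx
  let str : Spec (CommRingCat.of A) ⟶ S := g ≫ h.left.ker.subschemeι ≫ V.hom
  let T : Over S := Over.mk str
  let TK : Over S := Over.mk (Spec.map (CommRingCat.ofHom (algebraMap A (FractionRing A))) ≫ str)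
  let g' : T ⟶ subOver V h.left.ker := Over.homMk g rfl
  let l' : TK ⟶ U := Over.homMk l (by
    show l ≫ U.hom = Spec.map _ ≫ g ≫ h.left.ker.subschemeι ≫ V.hom
    rw [← reassoc_of% hl, ← Over.w h]
    simp only [r, ← Category.assoc]
    simp only [Category.assoc, Scheme.Hom.toImage_imageι])
  refine ⟨A, i1, i2, i3, str, (yon S).map g' ≫ z, (yon S).map l' ≫ aU,
    (ofPt_yon_comp g' z _).trans (congrArg (Points.ofPt z) hg), ?_⟩
  rw [Category.assoc, hc.w, Category.assoc, sq.w, ← Functor.map_comp_assoc, ← Functor.map_comp_assoc,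
    ← Functor.map_comp_assoc]
  congr 2
  ext : 1
  show l ≫ h.left = Spec.map _ ≫ g ≫ h.left.ker.subschemeι
  rw [← reassoc_of% hl]
  simp only [r, Scheme.Hom.toImage_imageι]

end AlgSpRegLib
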