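import Groth.Agent.AlgSpRegLib.Image
import Groth.Agent.AlgSpLib.Qc
import Groth.Agent.AlgSpLib.LocP
import Groth.Agent.AlgSpRegLib.ChartOpen

/-!
# Scheme theoretic images of quasi-compact morphisms of algebraic spaces
-/

set_option autoImplicit false
set_option backward.isDefEq.respectTransparency false
set_option backward.isDefEq.respectTransparency.types false

universe u

open CategoryTheory CategoryTheory.Limits AlgebraicGeometry Opposite AlgSp AlgSpLib TopologicalSpace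

namespace AlgSpRegLib

variable {S : Scheme.{u}}

/-- A scheme which is a disjoint union of affine open subschemes. -/
def IsAffUnion (V : Scheme.{u}) : Prop :=
  ∃ (ι : Type u) (W : ι → V.Opens), (∀ j, IsAffineOpen (W j)) ∧
    (∀ i j, i ≠ j → Disjoint (W i : Set V) (W j : Set V)) ∧ ⨆ j, W j = ⊤

theorem exists_affUnion_atlas {Y : Sp S} (hY : IsAlgSpace Y) :
    ∃ (V : Over S) (φ : (yon S).obj V ⟶ Y), RepWith @Etale φ ∧ RepWith @Surjective φ ∧ IsAffUnion V.left := by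
  obtain ⟨V₀, φ, hφ, hφs⟩ := hY.atlas
  let 𝒰 := V₀.left.affineCover
  let k : ∐ 𝒰.X ⟶ V₀.left := Sigma.desc 𝒰.f
  have : Etale k := IsZariskiLocalAtSource.sigmaDesc (P := @Etale) fun i => inferInstance
  have : Surjective k := ⟨fun x => by
    refine ⟨Sigma.ι 𝒰.X (𝒰.idx x) (𝒰.covers x).choose, ?_⟩
    rw [← Scheme.Hom.comp_apply, Sigma.ι_desc]
    exact (𝒰.covers x).choose_spec⟩
  let E : Over S := Over.mk (k ≫ V₀.hom)
  let q : E ⟶ V₀ := Over.homMk k rfl
  refine ⟨E, (yon S).map q ≫ φ,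
    repWith_comp ((repWith_yon_map_iff (P := (@Etale : MorphismProperty Scheme.{u})) q).2
      (inferInstanceAs (Etale k))) hφ,
    repWith_comp ((repWith_yon_map_iff (P := (@Surjective : MorphismProperty Scheme.{u})) q).2
      (inferInstanceAs (Surjective k))) hφs, 𝒰.I₀, fun j => (Sigma.ι 𝒰.X j).opensRange,
    fun j => isAffineOpen_opensRange (Sigma.ι 𝒰.X j), fun i j hij => ?_, ?_⟩
  · have := disjoint_opensRange_sigmaι 𝒰.X i j hij
    rw [disjoint_iff] at this ⊢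
    exact congrArg (fun O : Scheme.Opens (∐ 𝒰.X) => (O : Set (∐ 𝒰.X : Scheme.{u}))) this
  · exact (sigmaOpenCover 𝒰.X).iSup_opensRange

/-- A quasi-compact morphism has quasi-compact charts over disjoint unions of affines. -/
theorem exists_qc_chart {X Y : Sp S} (hX : IsAlgSpace X) (hY : IsAlgSpace Y) {f : X ⟶ Y}
    (hf : IsQuasiCompactMor f) {V : Over S} (φ : (yon S).obj V ⟶ Y) (hV : IsAffUnion V.left) :
    ∃ (U : Over S) (a : (yon S).obj U ⟶ X) (h : U ⟶ V), IsChartOn f φ a h ∧ QuasiCompact h.left := by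
  obtain ⟨ι, W, hW, hdisj, hcov⟩ := hV
  have hP := isAlgSpace_pullback hX (IsAlgSpace.yon_obj V) hY f φ
  obtain ⟨U₀, c₀, hc₀, hc₀s⟩ := hP.atlas
  obtain ⟨h₀, hh₀⟩ := (yon S).map_surjective (c₀ ≫ pullback.snd f φ)
  have hsnd := isQuasiCompactMor_of_isPullback (IsPullback.of_hasPullback f φ) hf
  let K : ι → Set (Points (pullback f φ)) := fun j =>
    Points.map (pullback.snd f φ) ⁻¹' (Points.schemeHomeo V '' (W j : Set V.left))
  have hK : ∀ j, IsCompact (K j) := fun j => isCompact_preimage (IsAlgSpace.yon_obj V) hsnd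
    ((Points.schemeHomeo V).isOpenMap _ (W j).2) ((hW j).isCompact.image (Points.schemeHomeo V).continuous)
  have hmemK : ∀ j (v : ↥U₀.left), Points.ofPt c₀ v ∈ K j ↔ h₀.left v ∈ W j := fun j v => by
    show Points.map (pullback.snd f φ) (Points.ofPt c₀ v) ∈ Points.schemeHomeo V '' (W j : Set V.left) ↔ _
    rw [Points.map_ofPt, ← hh₀, Points.ofPt_eq_map_ofScheme,
      show Points.ofScheme U₀ v = Points.schemeHomeo U₀ v from rfl, Points.map_yon_map_apply]
    exact (Points.schemeHomeo V).injective.mem_set_image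
  have hsub : ∀ j, ∃ O : U₀.left.Opens, IsCompact (O : Set U₀.left) ∧
      (∀ v ∈ O, h₀.left v ∈ W j) ∧ ∀ x ∈ K j, ∃ v ∈ O, Points.ofPt c₀ v = x := fun j => by
    have hloc : ∀ v : ↥(h₀.left ⁻¹ᵁ W j), ∃ A : U₀.left.Opens, IsAffineOpen A ∧ v.1 ∈ A ∧ A ≤ h₀.left ⁻¹ᵁ W j :=
      fun v => exists_isAffineOpen_mem_and_subset v.2
    choose A hA hvA hAW using hloc
    obtain ⟨s, hs⟩ := (hK j).elim_finite_subcover (fun v => Points.ofPt c₀ '' (A v : Set U₀.left))
      (fun v => isOpenMap_ofPt hc₀ _ (A v).2) fun x hx => by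
        obtain ⟨v, rfl⟩ := surjective_ofPt hc₀s x
        exact Set.mem_iUnion.2 ⟨⟨v, (hmemK j v).1 hx⟩, v, hvA _, rfl⟩
    refine ⟨⨆ v : s, A v.1, ?_, fun v hv => ?_, fun x hx => ?_⟩
    · rw [Opens.coe_iSup]
      exact isCompact_iUnion fun v => (hA v.1).isCompact
    · obtain ⟨w, hw⟩ := Opens.mem_iSup.1 hv
      exact hAW w.1 hw
    · obtain ⟨v, hv, w, hw, rfl⟩ := Set.mem_iUnion₂.1 (hs hx)
      exact ⟨w, Opens.mem_iSup.2 ⟨⟨v, hv⟩, hw⟩, rfl⟩
  choose O hOc hOW hOs using hsub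
  let U : Over S := Over.mk ((⨆ j, O j).ι ≫ U₀.hom)
  let e : U ⟶ U₀ := Over.homMk (⨆ j, O j).ι rfl
  have he : RepWith @Etale ((yon S).map e ≫ c₀) :=
    repWith_comp ((repWith_yon_map_iff (P := (@Etale : MorphismProperty Scheme.{u})) e).2
      (inferInstanceAs (Etale (⨆ j, O j).ι))) hc₀
  have hes : RepWith @Surjective ((yon S).map e ≫ c₀) := (repWith_surjective_iff he.rep).2 fun x => by
    obtain ⟨y, hy⟩ := (Points.schemeHomeo V).surjective (Points.map (pullback.snd f φ) x)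
    obtain ⟨j, hj⟩ := Opens.mem_iSup.1 (hcov ▸ trivial : y ∈ ⨆ j, W j)
    obtain ⟨v, hv, rfl⟩ := hOs j x ⟨y, hj, hy⟩
    have : Points.ofPt c₀ v ∈ Set.range (Points.map ((yon S).map e ≫ c₀)) := by
      rw [← range_ofPt]
      exact ⟨⟨v, Opens.mem_iSup.2 ⟨j, hv⟩⟩, ofPt_yon_comp e c₀ _⟩
    exact this
  refine ⟨U, ((yon S).map e ≫ c₀) ≫ pullback.fst f φ, e ≫ h₀, ⟨_, he, hes, rfl, ?_⟩, ?_⟩
  · rw [Functor.map_comp, Category.assoc, hh₀]
  rw [show (e ≫ h₀).left = (⨆ j, O j).ι ≫ h₀.left from rfl]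
  refine (IsZariskiLocalAtTarget.iff_of_iSup_eq_top (P := @QuasiCompact) W hcov).2 fun j => ?_
  have heq : ((⨆ j, O j).ι '' (((⨆ j, O j).ι ≫ h₀.left) ⁻¹ᵁ W j : Set (⨆ j, O j).toScheme)) = (O j : Set U₀.left) := by
    ext v
    constructor
    · rintro ⟨⟨v, hv⟩, hw, rfl⟩
      obtain ⟨i, hi⟩ := Opens.mem_iSup.1 hv
      by_cases hij : i = j
      · subst hij; exact hi
      · exact ((Set.disjoint_left.1 (hdisj i j hij)) (hOW i v hi) hw).elim
    · intro hv
      exact ⟨⟨v, Opens.mem_iSup.2 ⟨j, hv⟩⟩, hOW j v hv, rfl⟩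
  haveI : IsAffine (W j).toScheme := hW j
  refine (HasAffineProperty.iff_of_isAffine (P := @QuasiCompact)).2 ?_
  refine isCompact_iff_compactSpace.1 ?_
  refine (⨆ j, O j).ι.isOpenEmbedding.isEmbedding.isCompact_iff.2 ?_
  rw [heq]
  exact hOc j

/-- The ideal of the image on a flat chart. -/
theorem isIdealOn_ker_of_isSchImage {X Y Z : Sp S} (hX : IsAlgSpace X) (hY : IsAlgSpace Y) {f : X ⟶ Y}
    (hf : IsQuasiCompactMor f) {i : Z ⟶ Y} (hs : IsSchImage f i) {U' V' : Over S} {φ' : (yon S).obj V' ⟶ Y}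
    (hφ' : LocP @Flat φ') {a' : (yon S).obj U' ⟶ X} {h' : U' ⟶ V'} (hc' : IsChartOn f φ' a' h')
    [QuasiCompact h'.left] : IsIdealOn i φ' h'.left.ker := by
  haveI : EtLocProp (@Flat : MorphismProperty Scheme.{u}) := etLocProp_of_list (by simp)
  obtain ⟨V, φ, hφ, hφs, hV⟩ := exists_affUnion_atlas hY
  obtain ⟨U, a, h, hc, hh⟩ := exists_qc_chart hX hY hf φ hV
  have hI := (isSchImage_iff_ker hY hs.1 hc hφ hφs).1 hs
  obtain ⟨J, hJ⟩ := exists_isIdealOn hs.1 φ'
  obtain ⟨R, p, q, sq⟩ := exists_isPullback_yon φ φ' hφ.rep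
  haveI : Etale q.left := etale_left (repWith_of_isPullback sq hφ)
  haveI : Surjective q.left := surjective_left (repWith_of_isPullback sq hφs)
  haveI : Flat p.left :=
    locP_yon_map (locP_of_isPullback (IsAlgSpace.yon_obj V') hY (IsAlgSpace.yon_obj V) sq.flip hφ')
  have e : J.comap q.left = h'.left.ker.comap q.left := by
    rw [← hI.comap_eq hJ p q sq.w]
    exact comap_ker_eq_of_qc hc hc' p q sq.w
  rwa [← comap_injective_of_flat_surjective q.left e]

/-- Scheme theoretic images of quasi-compact morphisms commute with flat base change. -/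
theorem isSchImage_base_change {X Y Y' Z X' Z' : Sp S} (hX : IsAlgSpace X) (hY : IsAlgSpace Y)
    (hY' : IsAlgSpace Y') {f : X ⟶ Y} (hf : IsQuasiCompactMor f) {i : Z ⟶ Y} (hs : IsSchImage f i)
    {g : Y' ⟶ Y} (hg : LocP @Flat g) {fst : X' ⟶ X} {f' : X' ⟶ Y'} (sqf : IsPullback fst f' f g)
    {i₁ : Z' ⟶ Z} {i' : Z' ⟶ Y'} (sqi : IsPullback i₁ i' i g) : IsSchImage f' i' := by
  haveI : EtLocProp (@Flat : MorphismProperty Scheme.{u}) := etLocProp_of_list (by simp)
  have hi' : RepWith @IsClosedImmersion i' := repWith_of_isPullback sqi hs.1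
  have hX' := isAlgSpace_of_isPullback hX hY' hY sqf
  obtain ⟨V, ψ, hψ, hψs, hV⟩ := exists_affUnion_atlas hY'
  obtain ⟨U, a, h, hc, hh⟩ := exists_qc_chart hX' hY' (isQuasiCompactMor_of_isPullback sqf hf) ψ hV
  have hc' : IsChartOn f (ψ ≫ g) (a ≫ fst) h := by
    obtain ⟨c, hc1, hc2, h1, h2⟩ := hc
    have big := (IsPullback.of_hasPullback f' ψ).paste_horiz sqf
    let e := big.isoPullback
    exact ⟨c ≫ e.hom, repWith_comp hc1 (repWith_of_isIso e.hom), repWith_comp hc2 (repWith_of_isIso e.hom),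
      by rw [Category.assoc, IsPullback.isoPullback_hom_fst, ← Category.assoc, h1],
      by rw [Category.assoc, IsPullback.isoPullback_hom_snd, h2]⟩
  have hflat : LocP @Flat (ψ ≫ g) := locP_comp (IsAlgSpace.yon_obj V) hY' hY
    (locP_of_repWith (repWith_mono (fun _ _ k (_ : Etale k) => (inferInstance : Flat k)) hψ)) hg
  obtain ⟨s, sq⟩ := isIdealOn_ker_of_isSchImage hX hY hf hs hflat hc'
  refine (isSchImage_iff_ker hY' hi' hc hψ hψs).2 ⟨sqi.lift s ((yon S).map (subι V h.left.ker) ≫ ψ)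
    (by rw [sq.w, Category.assoc]), IsPullback.of_right (by rw [sqi.lift_fst]; exact sq) (sqi.lift_snd _ _ _) sqi⟩

end AlgSpRegLib
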