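import Groth.Agent.AlgSpRegLib.QAffFpqc
import Groth.Agent.AlgSpRegLib.ImageScheme
import Mathlib.AlgebraicGeometry.Morphisms.Immersion

/-!
# fpqc descent of quasi-compact immersions
-/

set_option autoImplicit false
set_option backward.isDefEq.respectTransparency false
set_option backward.isDefEq.respectTransparency.types false

universe u

open CategoryTheory CategoryTheory.Limits AlgebraicGeometry Opposite AlgSp AlgSpLib Topology

namespace AlgSpRegLib

instance descendsAlong_quasiCompact_fpqc :
    MorphismProperty.DescendsAlong (@QuasiCompact : MorphismProperty Scheme.{u})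
      (@Surjective ⊓ @Flat ⊓ @QuasiCompact) := by
  refine MorphismProperty.DescendsAlong.mk' fun {X Y Z} f g _ hf hg => ?_
  obtain ⟨⟨hs, -⟩, hq⟩ := id hf
  haveI : Surjective f := hs
  haveI : QuasiCompact f := hq
  haveI : QuasiCompact (pullback.fst f g) := hg
  refine ⟨fun U hU hUc => ?_⟩
  have h1 : IsCompact (f ⁻¹' U) := QuasiCompact.isCompact_preimage (f := f) U hU hUc
  have h2 : IsCompact (pullback.fst f g ⁻¹' (f ⁻¹' U)) :=
    QuasiCompact.isCompact_preimage (f := pullback.fst f g) _ (hU.preimage f.continuous) h1
  have h3 : pullback.fst f g ⁻¹' (f ⁻¹' U) = pullback.snd f g ⁻¹' (g ⁻¹' U) := by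
    ext z
    simp only [Set.mem_preimage]
    rw [← Scheme.Hom.comp_apply, pullback.condition, Scheme.Hom.comp_apply]
  rw [h3] at h2
  have h4 := h2.image (pullback.snd f g).continuous
  rwa [Set.image_preimage_eq _ (pullback.snd f g).surjective] at h4

/-- Closures of images of quasi-compact morphisms commute with flat base change. -/
theorem closure_range_pullback_fst {X Y Z : Scheme.{u}} (f : X ⟶ Z) (g : Y ⟶ Z) [Flat f] [QuasiCompact g] :
    closure (Set.range (pullback.fst f g)) = f ⁻¹' closure (Set.range g) := by
  have h := ker_eq_comap_of_isPullback (IsPullback.of_hasPullback f g).flip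
  have h2 : ((pullback.fst f g).ker.support : Set X) = f ⁻¹' (g.ker.support : Set Z) := by
    rw [h, Scheme.IdealSheafData.support_comap]
    rfl
  rwa [Scheme.Hom.support_ker, Scheme.Hom.support_ker] at h2

instance descendsAlong_qcImmersion :
    MorphismProperty.DescendsAlong (@IsImmersion ⊓ @QuasiCompact : MorphismProperty Scheme.{u})
      (@Surjective ⊓ @Flat ⊓ @QuasiCompact) := by
  refine MorphismProperty.DescendsAlong.mk' fun {X Y Z} f g _ hf hg => ?_
  haveI : QuasiCompact g := MorphismProperty.of_pullback_fst_of_descendsAlong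
    (P := @QuasiCompact) (Q := @Surjective ⊓ @Flat ⊓ @QuasiCompact) hf hg.2
  refine ⟨?_, inferInstance⟩
  obtain ⟨⟨hs, hfl⟩, hp⟩ := id hf
  haveI : Surjective f := hs
  haveI : Flat f := hfl
  haveI : QuasiCompact f := hp
  haveI : IsImmersion (pullback.fst f g) := hg.1
  have hrange : Set.range (pullback.fst f g) = f ⁻¹' Set.range g := Scheme.Pullback.range_fst f g
  have hcl : closure (f ⁻¹' Set.range g) = f ⁻¹' closure (Set.range g) :=
    hrange ▸ closure_range_pullback_fst f g
  have hlc : IsOpen (coborder (Set.range g)) := by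
    rw [← (Flat.isQuotientMap_of_surjective f).isOpen_preimage]
    have : f ⁻¹' coborder (Set.range g) = coborder (Set.range (pullback.fst f g)) := by
      rw [coborder, coborder, Set.preimage_compl, Set.preimage_sdiff, hrange, hcl]
    rw [this]
    exact (pullback.fst f g).isLocallyClosed_range.isOpen_coborder
  let U : Z.Opens := ⟨coborder (Set.range g), hlc⟩
  have hsub : Set.range g ⊆ Set.range U.ι := by rw [U.range_ι]; exact subset_coborder
  let g' := IsOpenImmersion.lift U.ι g hsub
  have hfac : g' ≫ U.ι = g := IsOpenImmersion.lift_fac _ _ _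
  let f' := pullback.snd f U.ι
  have sq : IsPullback (pullback.fst f g) (pullback.snd f g) f (g' ≫ U.ι) := by
    rw [hfac]; exact IsPullback.of_hasPullback f g
  let a : pullback f g ⟶ pullback f U.ι :=
    (IsPullback.of_hasPullback f U.ι).lift (pullback.fst f g) (pullback.snd f g ≫ g')
      (by rw [Category.assoc]; exact sq.w)
  have sq' : IsPullback a (pullback.snd f g) f' g' := by
    refine IsPullback.of_right ?_ ?_ (IsPullback.of_hasPullback f U.ι)
    · rw [IsPullback.lift_fst]; exact sq
    · exact IsPullback.lift_snd _ _ _ _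
  haveI : IsImmersion a := by
    haveI : IsImmersion (a ≫ pullback.fst f U.ι) := by rw [IsPullback.lift_fst]; infer_instance
    exact IsImmersion.of_comp a (pullback.fst f U.ι)
  have hclosed : IsClosed (Set.range a) := by
    have h1 : Set.range a = (pullback.fst f U.ι) ⁻¹' Set.range (pullback.fst f g) := by
      have e : ∀ y, pullback.fst f U.ι (a y) = pullback.fst f g y := fun y => by
        rw [← Scheme.Hom.comp_apply, IsPullback.lift_fst]
      ext x
      constructor
      · rintro ⟨y, rfl⟩; exact ⟨y, (e y).symm⟩
      · rintro ⟨y, hy⟩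
        exact ⟨y, (pullback.fst f U.ι).isOpenEmbedding.injective (by rw [e, hy])⟩
    have hU : IsClosed (U.ι ⁻¹' Set.range g) := isClosed_preimage_val_coborder
    have h2 : Set.range a = f' ⁻¹' (U.ι ⁻¹' Set.range g) := by
      rw [h1, hrange, ← Set.preimage_comp, ← Set.preimage_comp]
      congr 1
      funext x
      change f (pullback.fst f U.ι x) = U.ι (f' x)
      rw [← Scheme.Hom.comp_apply, pullback.condition, Scheme.Hom.comp_apply]
    rw [h2]
    exact hU.preimage f'.continuous
  haveI : IsClosedImmersion a := IsClosedImmersion.of_isPreimmersion a hclosed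
  have hf' : (@Surjective ⊓ @Flat ⊓ @QuasiCompact : MorphismProperty Scheme.{u}) f' :=
    MorphismProperty.pullback_snd _ _ hf
  haveI : IsClosedImmersion g' := MorphismProperty.of_isPullback_of_descendsAlong
    (P := @IsClosedImmersion) (Q := @Surjective ⊓ @Flat ⊓ @QuasiCompact) sq' hf' inferInstance
  rw [← hfac]
  infer_instance

variable {S : Scheme.{u}}

theorem isQuasiAffineMor_of_qcImmersion {F G : Sp S} {f : F ⟶ G}
    (h : RepWith (@IsImmersion ⊓ @QuasiCompact : MorphismProperty Scheme.{u}) f) : IsQuasiAffineMor f := by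
  intro Z hZ k
  obtain ⟨h1, h2⟩ := h.property_snd k
  haveI : IsAffine Z.left := hZ
  haveI : IsImmersion (h.rep.snd k).left := h1
  haveI : QuasiCompact (h.rep.snd k).left := h2
  haveI : CompactSpace (h.rep.pullback k).left := QuasiCompact.compactSpace_of_compactSpace (h.rep.snd k).left
  exact ⟨_, h.rep.snd k, h.rep.fst k, h.rep.isPullback k, .of_isImmersion (h.rep.snd k).left⟩

theorem isLocalOnBase_fpqc_repWith_qcImmersion (S : Scheme.{u}) :
    IsLocalOnBase (IsFpqcCover (S := S)) (RepWith (@IsImmersion ⊓ @QuasiCompact : MorphismProperty Scheme.{u})) := by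
  intro ι Y Yi g hY hYi hτ X f hX Xi p q hXi sq
  haveI : IsZariskiLocalAtTarget (@IsImmersion ⊓ @QuasiCompact : MorphismProperty Scheme.{u}) := inferInstance
  exact ⟨fun hf i => repWith_of_isPullback (sq i) hf, fun h => repWith_of_fpqc hτ
    (representable_of_quasiAffine (isQuasiAffineMor_of_fpqc hY hτ hX sq
      fun i => isQuasiAffineMor_of_qcImmersion (h i))) sq h⟩

end AlgSpRegLib
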