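import Groth.Agent.AlgSpRegLib.ClosedSub

/-!
# Subspaces from invariant immersions into a chart
-/

set_option autoImplicit false
set_option backward.isDefEq.respectTransparency false
set_option backward.isDefEq.respectTransparency.types false

universe u

open CategoryTheory CategoryTheory.Limits AlgebraicGeometry Opposite AlgSp AlgSpLib

namespace AlgSpRegLib

variable {S : Scheme.{u}}

theorem exists_sub_of_invariant_mono {X : Sp S} (hX : IsAlgSpace X) {V W : Over S} {φ : (yon S).obj V ⟶ X}
    (hφ : RepWith @Etale φ) (hφs : RepWith @Surjective φ) (w : W ⟶ V) [Mono w]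
    (hinv : ∀ (T : Over S) (r s : T ⟶ V), (yon S).map r ≫ φ = (yon S).map s ≫ φ →
      (∃ l, l ≫ w = r) → ∃ l, l ≫ w = s) :
    ∃ (Z : Sp S) (i : Z ⟶ X) (z : (yon S).obj W ⟶ Z), IsAlgSpace Z ∧ IsPullback z ((yon S).map w) i φ ∧
      ∀ {P : MorphismProperty Scheme.{u}} [P.IsStableUnderBaseChange],
        (P = @IsClosedImmersion ∨ P = @IsOpenImmersion ∨ P = @IsImmersion) → P w.left → RepWith P i := by
  let a := (yon S).map w ≫ φ
  haveI : Mono ((yon S).map w) := inferInstance
  haveI : Epi (Sheaf.toImage a) := inferInstance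
  haveI hz : Sheaf.IsLocallySurjective (Sheaf.toImage a) := (Sheaf.isLocallySurjective_iff_epi _).mpr ‹_›
  have sq : IsPullback (Sheaf.toImage a) ((yon S).map w) (Sheaf.imageι a) φ := by
    refine isPullback_of_forall_existsUnique (Sheaf.toImage_ι _) fun T x y hxy => ?_
    obtain ⟨y, rfl⟩ := (yon S).map_surjective y
    obtain ⟨C, c, h₁, h₂, h₃, hl⟩ := exists_lift_of_isLocallySurjective (Sheaf.toImage a) x
    have hc : ∀ t, ∃ l : C t ⟶ W, l ≫ w = c t ≫ y := fun t => by
      obtain ⟨l, hl⟩ := hl t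
      obtain ⟨l, rfl⟩ := (yon S).map_surjective l
      have := congrArg (· ≫ Sheaf.imageι a) hl
      simp only [Category.assoc, Sheaf.toImage_ι, hxy, a] at this
      rw [← Functor.map_comp_assoc, ← Functor.map_comp_assoc] at this
      exact hinv _ _ _ this ⟨l, rfl⟩
    choose l hl using hc
    obtain ⟨b, hb⟩ := exists_amalgamation c h₁ h₂ (fun t => ⟨t, h₃ t⟩) (fun t => (yon S).map (l t))
      fun i j Z gi gj hg => by
        rw [← cancel_mono ((yon S).map w), ← Functor.map_comp, ← Functor.map_comp, ← Functor.map_comp,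
          ← Functor.map_comp, Category.assoc, Category.assoc, hl, hl, reassoc_of% hg]
    have hby : b ≫ (yon S).map w = (yon S).map y := hom_ext_of_family c h₁ h₂ h₃ fun t => by
      rw [← Category.assoc, hb, ← Functor.map_comp, hl, Functor.map_comp]
    refine ⟨b, ⟨?_, hby⟩, fun b' hb' => by rw [← cancel_mono ((yon S).map w), hby, hb'.2]⟩
    rw [← cancel_mono (Sheaf.imageι a), Category.assoc, Sheaf.toImage_ι, hxy]
    simp only [a, reassoc_of% hby]
  have hZ := isAlgSpace_of_atlas _ (repWith_of_isPullback sq.flip hφ) (repWith_of_isPullback sq.flip hφs)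
  refine ⟨_, Sheaf.imageι a, Sheaf.toImage a, hZ, sq, fun {P} _ hP hPw => ?_⟩
  exact repWith_imm_of_fppf hP hX (fun _ : PUnit.{u + 1} => IsAlgSpace.yon_obj V)
    (isFppfCover_of_charts (fun _ : PUnit.{u + 1} => φ) (fun _ => hφ)
      fun x => ⟨⟨⟩, map_surjective_of_repWith hφs x⟩) hZ (fun _ => sq) fun _ => (repWith_yon_map_iff _ _).2 hPw

end AlgSpRegLib
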