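import Groth.Agent.RegImmKindLib.LocK
import Groth.Agent.S2104
import Groth.Agent.S2105
import Groth.Agent.S8654
/-!
# Composition of regular immersions of schemes of the kinds `h1` and `quasi`
-/

set_option autoImplicit false
set_option linter.style.haveILetI false
set_option backward.isDefEq.respectTransparency false

universe u

open CategoryTheory AlgebraicGeometry KRLib RegImmKindLib

namespace AlgSpRegLib

/-- Appending an `H_1`-regular sequence modulo a sequence of kind `k` gives a sequence of kind `k`. -/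
theorem seq_append {k : RegImm.Kind} (hk : k = .h1 ∨ k = .quasi) {A : Type u} [CommRing A] {n m : ℕ}
    (f : Fin n → A) (g : Fin m → A) (hf : k.Seq A (List.ofFn f))
    (hg : CAlgX.IsH1Regular (fun j => Ideal.Quotient.mk (Ideal.span (Set.range f)) (g j))) :
    k.Seq A (List.ofFn (Fin.append f g)) := by
  rcases hk with rfl | rfl
  · exact seq_congr_get _ _ (fun h => CAlgX.IsH1Regular h) (List.ofFn_get _).symm
      (Groth.Agent.S2105.result f g
        (seq_congr_get _ _ (fun h => CAlgX.IsH1Regular h) (List.ofFn_get _) hf) hg)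
  · exact seq_congr_get _ _ (fun h => CAlgX.IsQuasiRegular h) (List.ofFn_get _).symm
      (Groth.Agent.S2104.result f g
        (seq_congr_get _ _ (fun h => CAlgX.IsQuasiRegular h) (List.ofFn_get _) hf) hg)

/-- Composition of generated ideals. -/
theorem genK_comap {k : RegImm.Kind} (hk : k = .h1 ∨ k = .quasi) {Q R : Type u} [CommRing Q] [CommRing R]
    (σ : Q →+* R) (hσ : Function.Surjective σ) (hI : GenK k (RingHom.ker σ))
    {J : Ideal R} (hJ : GenK .h1 J) : GenK k (J.comap σ) := by
  obtain ⟨rf, hrf, hIf⟩ := hI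
  obtain ⟨rg, hrg, rfl⟩ := hJ
  choose g' hg' using fun j => hσ (rg.get j)
  let f : Fin rf.length → Q := rf.get
  have hspan : Ideal.span (Set.range f) = RingHom.ker σ := by
    rw [hIf]; simp [f, Ideal.ofList, Set.range_list_get]
  let I : Ideal Q := Ideal.span (Set.range f)
  let e : R ≃+* Q ⧸ I :=
    ((Ideal.quotEquivOfEq hspan).trans (RingHom.quotientKerEquivOfSurjective hσ)).symm
  have he : ∀ q, e (σ q) = Ideal.Quotient.mk I q := fun q => by
    apply e.symm.injective
    rw [e.symm_apply_apply]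
    rfl
  letI : Algebra R (Q ⧸ I) := e.toRingHom.toAlgebra
  haveI : Module.Flat R (Q ⧸ I) :=
    RingHom.Flat.of_bijective (f := e.toRingHom) e.bijective
  have hg : CAlgX.IsH1Regular fun j => Ideal.Quotient.mk I (g' j) := by
    have := isH1Regular_map (Q := R) (R := Q ⧸ I) hrg
    convert this using 1
    funext j
    rw [← he, hg']
    rfl
  refine ⟨List.ofFn (Fin.append f g'), seq_append hk f g' (by rwa [List.ofFn_get]) hg, ?_⟩
  have h1 : Ideal.ofList (List.ofFn (Fin.append f g')) = RingHom.ker σ ⊔ Ideal.span (Set.range g') := by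
    rw [← hspan, ← Ideal.span_union]
    show Ideal.span {x | x ∈ List.ofFn (Fin.append f g')} = Ideal.span (Set.range f ∪ Set.range g')
    congr 1
    ext x
    rw [Set.mem_setOf_eq, List.mem_ofFn, Set.mem_union, Set.mem_range, Set.mem_range]
    constructor
    · rintro ⟨i, rfl⟩
      induction i using Fin.addCases with
      | left i => exact Or.inl ⟨i, (Fin.append_left f g' i).symm⟩
      | right i => exact Or.inr ⟨i, (Fin.append_right f g' i).symm⟩
    · rintro (⟨i, rfl⟩ | ⟨i, rfl⟩)
      · exact ⟨Fin.castAdd _ i, Fin.append_left f g' i⟩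
      · exact ⟨Fin.natAdd _ i, Fin.append_right f g' i⟩
  have h2 : Ideal.ofList rg = (Ideal.span (Set.range g')).map σ := by
    rw [Ideal.map_span, ← Set.range_comp, show σ ∘ g' = rg.get from funext hg']
    simp [Ideal.ofList, Set.range_list_get]
  rw [h1, h2, Ideal.comap_map_of_surjective σ hσ, ← RingHom.ker_eq_comap_bot, sup_comm]

/-- A closed affine chart on which the ideal is generated by a sequence of kind `k`. -/
structure ChartK (k : RegImm.Kind) {X Z : Scheme.{u}} (i : Z ⟶ X) (U : X.Opens) : Prop where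
  isAffine : IsAffineOpen U
  isAffine_pre : IsAffineOpen (i ⁻¹ᵁ U)
  surjective : Function.Surjective (i.app U)
  genK : GenK k (RingHom.ker (i.app U).hom)

theorem chartK_of_at {k : RegImm.Kind} {X Z : Scheme.{u}} {i : Z ⟶ X} {z : Z}
    (h : RegImm.IsRegularImmersionAt k i z) : ∃ U : X.Opens, i z ∈ U ∧ ChartK k i U := by
  obtain ⟨U, hz, hcl, rs, hrs, hker⟩ := h
  obtain ⟨h1, h2⟩ := (isClosedImmersion_restrict_iff i U.2).1 hcl
  exact ⟨U.1, hz, U.2, h1, h2, rs, hrs, hker⟩

theorem ChartK.at {k : RegImm.Kind} {X Z : Scheme.{u}} {i : Z ⟶ X} {U : X.Opens} (hU : ChartK k i U)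
    (z : Z) (hz : i z ∈ U) : RegImm.IsRegularImmersionAt k i z := by
  obtain ⟨rs, hrs, hker⟩ := hU.genK
  exact ⟨⟨U, hU.isAffine⟩, hz,
    (isClosedImmersion_restrict_iff i hU.isAffine).2 ⟨hU.isAffine_pre, hU.surjective⟩, rs, hrs, hker⟩

theorem ChartK.basicOpen {k : RegImm.Kind} (hk : k ≠ .regular) {X Z : Scheme.{u}} {i : Z ⟶ X} {U : X.Opens}
    (h : ChartK k i U) (g : Γ(X, U)) : ChartK k i (X.basicOpen g) := by
  obtain ⟨h1, h2, h3⟩ := basicOpen_data i h.isAffine h.isAffine_pre h.surjective g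
  refine ⟨h.isAffine.basicOpen g, h1, h2, ?_⟩
  letI : Algebra Γ(X, U) Γ(X, X.basicOpen g) :=
    (X.presheaf.map (homOfLE (X.basicOpen_le g)).op).hom.toAlgebra
  haveI : IsLocalization.Away g Γ(X, X.basicOpen g) := h.isAffine.isLocalization_basicOpen g
  haveI : Module.Flat Γ(X, U) Γ(X, X.basicOpen g) := IsLocalization.flat _ (Submonoid.powers g)
  rw [h3]
  exact GenK.map_flat hk h.genK

/-- `H_1`-regular followed by a regular immersion of kind `h1` or `quasi` has the latter kind. -/
theorem regularImmersion_comp {k : RegImm.Kind} (hk : k = .h1 ∨ k = .quasi) {X Y Z : Scheme.{u}}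
    (j : Z ⟶ Y) (i : Y ⟶ X) (hj : RegImm.IsRegularImmersion .h1 j) (hi : RegImm.IsRegularImmersion k i) :
    RegImm.IsRegularImmersion k (j ≫ i) := by
  have h1 := hi.1
  have h2 := hj.1
  have hkr : k ≠ .regular := by rcases hk with rfl | rfl <;> simp
  refine ⟨inferInstance, fun z => ?_⟩
  obtain ⟨U, hzU, hiU⟩ := chartK_of_at (hi.2 (j z))
  obtain ⟨V, hzV, hjV⟩ := chartK_of_at (hj.2 z)
  obtain ⟨γ, δ, e, hmem⟩ := exists_basicOpen_le_affine_inter hiU.isAffine_pre hjV.isAffine (j z) ⟨hzU, hzV⟩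
  obtain ⟨g, rfl⟩ := hiU.surjective γ
  have hiW := hiU.basicOpen hkr g
  have hjW := hjV.basicOpen (by simp) δ
  have hpre : i ⁻¹ᵁ X.basicOpen g = Y.basicOpen δ := (Scheme.preimage_basicOpen i g).trans e
  rw [← hpre] at hjW
  refine ChartK.at (U := X.basicOpen g) ⟨hiW.isAffine, hjW.isAffine_pre, ?_, ?_⟩ z ?_
  · rw [Scheme.Hom.comp_app]
    exact hjW.surjective.comp hiW.surjective
  · change GenK k (RingHom.ker ((j.app (i ⁻¹ᵁ X.basicOpen g)).hom.comp (i.app (X.basicOpen g)).hom))
    rw [← RingHom.comap_ker]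
    exact genK_comap hk _ hiW.surjective hiW.genK hjW.genK
  · show j z ∈ i ⁻¹ᵁ X.basicOpen g
    rw [Scheme.preimage_basicOpen i g]
    exact hmem

end AlgSpRegLib
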