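import Groth.Agent.AlgStLib.PointsTop
import Groth.Agent.AlgSpLib.LocP
import Groth.Prelude.Def_AlgSpGpd
import Groth.Prelude.Def_AlgSpCov

/-!
# Largest open subspaces with a local property are invariant
-/

set_option autoImplicit false
set_option backward.isDefEq.respectTransparency false
set_option backward.isDefEq.respectTransparency.types false

universe u

open CategoryTheory CategoryTheory.Limits AlgebraicGeometry Opposite AlgSp AlgSpLib

noncomputable section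

namespace AlgSpRegLib

variable {S : Scheme.{u}}

section Alg

variable {B : Sp S} (G : GroupoidSp B) {T T' : Sp S}

/-- Composition of arrows of a groupoid. -/
def gmul (α β : T ⟶ G.R) (h : α ≫ G.s = β ≫ G.t) : T ⟶ G.R := pullback.lift α β h ≫ G.c

variable {G}

theorem gmul_congr {α α' β β' : T ⟶ G.R} (ha : α = α') (hb : β = β') (h : α ≫ G.s = β ≫ G.t)
    (h' : α' ≫ G.s = β' ≫ G.t) : gmul G α β h = gmul G α' β' h' := by subst ha hb; rfl

theorem comp_gmul (k : T' ⟶ T) (α β : T ⟶ G.R) (h : α ≫ G.s = β ≫ G.t) :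
    k ≫ gmul G α β h = gmul G (k ≫ α) (k ≫ β) (by simp [h]) := by
  simp only [gmul, ← Category.assoc]
  congr 1
  ext <;> simp

theorem gmul_s (α β : T ⟶ G.R) (h : α ≫ G.s = β ≫ G.t) : gmul G α β h ≫ G.s = β ≫ G.s := G.comp_s α β h

theorem gmul_t (α β : T ⟶ G.R) (h : α ≫ G.s = β ≫ G.t) : gmul G α β h ≫ G.t = α ≫ G.t := G.comp_t α β h

theorem gmul_assoc (α β γ : T ⟶ G.R) (h₁ : α ≫ G.s = β ≫ G.t) (h₂ : β ≫ G.s = γ ≫ G.t) :
    gmul G (gmul G α β h₁) γ ((gmul_s α β h₁).trans h₂) =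
      gmul G α (gmul G β γ h₂) (h₁.trans (gmul_t β γ h₂).symm) := G.assoc α β γ h₁ h₂

theorem inv_s (o : T ⟶ G.R) : (o ≫ G.i) ≫ G.s = o ≫ G.t := by rw [Category.assoc, G.i_s]

theorem inv_t (o : T ⟶ G.R) : (o ≫ G.i) ≫ G.t = o ≫ G.s := by rw [Category.assoc, G.i_t]

theorem gmul_gmul_inv (x o : T ⟶ G.R) (h : x ≫ G.s = o ≫ G.t) :
    gmul G (gmul G x o h) (o ≫ G.i) ((gmul_s x o h).trans (inv_t o).symm) = x := by
  rw [gmul_assoc x o (o ≫ G.i) h (inv_t o).symm]
  exact (gmul_congr rfl ((G.comp_i o).trans (by rw [← Category.assoc, ← h, Category.assoc])) _ _).trans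
    (G.comp_e x)

theorem gmul_inv_gmul (x o : T ⟶ G.R) (h : x ≫ G.s = o ≫ G.s) :
    gmul G (gmul G x (o ≫ G.i) (h.trans (inv_t o).symm)) o ((gmul_s _ _ _).trans (inv_s o)) = x := by
  rw [gmul_assoc x (o ≫ G.i) o (h.trans (inv_t o).symm) (inv_s o)]
  exact (gmul_congr rfl ((G.i_comp o).trans (by rw [← Category.assoc, ← h, Category.assoc])) _ _).trans
    (G.comp_e x)

theorem inv_gmul_gmul (x o : T ⟶ G.R) (h : o ≫ G.s = x ≫ G.t) :
    gmul G (o ≫ G.i) (gmul G o x h) ((inv_s o).trans (gmul_t o x h).symm) = x := by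
  rw [← gmul_assoc (o ≫ G.i) o x (inv_s o) h]
  exact (gmul_congr ((G.i_comp o).trans (by rw [← Category.assoc, h, Category.assoc])) rfl _ _).trans
    (G.e_comp x)

theorem gmul_inv_gmul' (x o : T ⟶ G.R) (h : o ≫ G.t = x ≫ G.t) :
    gmul G o (gmul G (o ≫ G.i) x ((inv_s o).trans h)) (by rw [gmul_t, inv_t]) = x := by
  rw [← gmul_assoc o (o ≫ G.i) x (inv_t o).symm ((inv_s o).trans h)]
  exact (gmul_congr ((G.comp_i o).trans (by rw [← Category.assoc, h, Category.assoc])) rfl _ _).trans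
    (G.e_comp x)

/-- Conjugation. -/
def gconj (a o : T ⟶ G.R) (h₁ : o ≫ G.s = a ≫ G.t) (h₂ : a ≫ G.s = o ≫ G.s) : T ⟶ G.R :=
  gmul G (gmul G o a h₁) (o ≫ G.i) ((gmul_s _ _ _).trans (h₂.trans (inv_t o).symm))

/-- Conjugation by the inverse. -/
def gconjInv (b o : T ⟶ G.R) (h₁ : o ≫ G.t = b ≫ G.t) (h₂ : b ≫ G.s = o ≫ G.t) : T ⟶ G.R :=
  gmul G (gmul G (o ≫ G.i) b ((inv_s o).trans h₁)) o ((gmul_s _ _ _).trans h₂)

theorem gconjInv_gconj (a o : T ⟶ G.R) (h₁ : o ≫ G.s = a ≫ G.t) (h₂ : a ≫ G.s = o ≫ G.s) :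
    gconjInv (gconj a o h₁ h₂) o (by rw [gconj, gmul_t, gmul_t])
      (by rw [gconj, gmul_s, inv_s]) = a := by
  unfold gconjInv gconj
  refine (gmul_congr ((gmul_assoc (o ≫ G.i) (gmul G o a h₁) (o ≫ G.i) ((inv_s o).trans (gmul_t o a h₁).symm)
    ((gmul_s _ _ _).trans (h₂.trans (inv_t o).symm))).symm.trans
      (gmul_congr (inv_gmul_gmul a o h₁) rfl _ (h₂.trans (inv_t o).symm))) rfl _
        ((gmul_s _ _ _).trans (inv_s o))).trans ?_
  exact gmul_inv_gmul a o h₂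

theorem gconj_gconjInv (b o : T ⟶ G.R) (h₁ : o ≫ G.t = b ≫ G.t) (h₂ : b ≫ G.s = o ≫ G.t) :
    gconj (gconjInv b o h₁ h₂) o (by rw [gconjInv, gmul_t, gmul_t, inv_t])
      (by rw [gconjInv, gmul_s]) = b := by
  unfold gconjInv gconj
  refine (gmul_congr ((gmul_assoc o (gmul G (o ≫ G.i) b ((inv_s o).trans h₁)) o
    ((inv_t o).symm.trans (gmul_t _ _ _).symm) ((gmul_s _ _ _).trans h₂)).symm.trans
      (gmul_congr (gmul_inv_gmul' b o h₁) rfl _ h₂)) rfl _ ((gmul_s _ _ _).trans (inv_t o).symm)).trans ?_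
  exact gmul_gmul_inv b o h₂

/-- The base changes of the source map along the source and the target of a family of arrows agree. -/
theorem shear_source {O : Sp S} (o : O ⟶ G.R) :
    ∃ (Q : Sp S) (q q' : Q ⟶ G.R) (p : Q ⟶ O),
      IsPullback q p G.s (o ≫ G.s) ∧ IsPullback q' p G.s (o ≫ G.t) := by
  let Q := pullback G.s (o ≫ G.s)
  let q := pullback.fst G.s (o ≫ G.s)
  let p := pullback.snd G.s (o ≫ G.s)
  have hq : q ≫ G.s = (p ≫ o) ≫ G.s := by rw [Category.assoc]; exact pullback.condition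
  have hqi : q ≫ G.s = ((p ≫ o) ≫ G.i) ≫ G.t := hq.trans (inv_t _).symm
  let q' : Q ⟶ G.R := gmul G q ((p ≫ o) ≫ G.i) hqi
  refine ⟨Q, q, q', p, IsPullback.of_hasPullback _ _, ?_⟩
  have w : q' ≫ G.s = p ≫ o ≫ G.t := by rw [gmul_s, inv_s, Category.assoc]
  refine ⟨⟨w⟩, ⟨PullbackCone.IsLimit.mk _ (fun s => pullback.lift
    (gmul G s.fst (s.snd ≫ o) (by rw [Category.assoc]; exact s.condition)) s.snd
    (by rw [gmul_s, Category.assoc])) ?_ (fun s => pullback.lift_snd _ _ _) ?_⟩⟩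
  · intro s
    rw [comp_gmul]
    refine (gmul_congr (pullback.lift_fst _ _ _) (by rw [← Category.assoc, ← Category.assoc, pullback.lift_snd]) _
      ((gmul_s _ _ _).trans (inv_t (s.snd ≫ o)).symm)).trans ?_
    exact gmul_gmul_inv s.fst (s.snd ≫ o) _
  · intro s m h1 h2
    refine pullback.hom_ext ?_ ?_
    · rw [pullback.lift_fst]
      have e := congrArg (fun z => m ≫ z) (gmul_inv_gmul q (p ≫ o) hq)
      simp only [comp_gmul] at e
      rw [← e]
      refine gmul_congr ?_ (by rw [← Category.assoc, h2]) _ _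
      rw [← h1]
      exact (comp_gmul m _ _ _).symm
    · rw [pullback.lift_snd]; exact h2

theorem stab_t {T : Sp S} (x : T ⟶ G.stabilizer) :
    (x ≫ G.stabilizerι) ≫ G.t = x ≫ G.stabilizerToU := by
  have h := congrArg (fun z => x ≫ z ≫ pullback.fst G.pU G.pU) (pullback.condition (f := G.j) (g := G.diag))
  simpa [GroupoidSp.stabilizerι, GroupoidSp.stabilizerToU, GroupoidSp.diag] using h

theorem stab_s {T : Sp S} (x : T ⟶ G.stabilizer) :
    (x ≫ G.stabilizerι) ≫ G.s = x ≫ G.stabilizerToU := by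
  have h := congrArg (fun z => x ≫ z ≫ pullback.snd G.pU G.pU) (pullback.condition (f := G.j) (g := G.diag))
  simpa [GroupoidSp.stabilizerι, GroupoidSp.stabilizerToU, GroupoidSp.diag] using h

theorem stab_hom_ext {T : Sp S} {x y : T ⟶ G.stabilizer} (h1 : x ≫ G.stabilizerι = y ≫ G.stabilizerι)
    (h2 : x ≫ G.stabilizerToU = y ≫ G.stabilizerToU) : x = y := pullback.hom_ext h1 h2

theorem exists_stab {T : Sp S} (a : T ⟶ G.R) (u : T ⟶ G.U) (ht : a ≫ G.t = u) (hs : a ≫ G.s = u) :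
    ∃ x : T ⟶ G.stabilizer, x ≫ G.stabilizerι = a ∧ x ≫ G.stabilizerToU = u :=
  ⟨pullback.lift a u (pullback.hom_ext (by simp [GroupoidSp.diag, ht]) (by simp [GroupoidSp.diag, hs])),
    pullback.lift_fst _ _ _, pullback.lift_snd _ _ _⟩

/-- The base changes of the stabilizer along the source and the target of a family of arrows agree. -/
theorem shear_stabilizer {O : Sp S} (o : O ⟶ G.R) :
    ∃ (Q : Sp S) (q q' : Q ⟶ G.stabilizer) (p : Q ⟶ O),
      IsPullback q p G.stabilizerToU (o ≫ G.s) ∧ IsPullback q' p G.stabilizerToU (o ≫ G.t) := by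
  let Q := pullback G.stabilizerToU (o ≫ G.s)
  let q := pullback.fst G.stabilizerToU (o ≫ G.s)
  let p := pullback.snd G.stabilizerToU (o ≫ G.s)
  have hq : q ≫ G.stabilizerToU = (p ≫ o) ≫ G.s := by rw [Category.assoc]; exact pullback.condition
  have h₁ : (p ≫ o) ≫ G.s = (q ≫ G.stabilizerι) ≫ G.t := hq.symm.trans (stab_t q).symm
  have h₂ : (q ≫ G.stabilizerι) ≫ G.s = (p ≫ o) ≫ G.s := (stab_s q).trans hq
  obtain ⟨q', hq'₁, hq'₂⟩ := exists_stab (gconj (q ≫ G.stabilizerι) (p ≫ o) h₁ h₂) ((p ≫ o) ≫ G.t)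
    (by rw [gconj, gmul_t, gmul_t]) (by rw [gconj, gmul_s, inv_s])
  refine ⟨Q, q, q', p, IsPullback.of_hasPullback _ _, ?_⟩
  have hexists : ∀ s : PullbackCone G.stabilizerToU (o ≫ G.t), ∃ l : s.pt ⟶ Q, l ≫ q' = s.fst ∧ l ≫ p = s.snd := by
    intro s
    have hc : s.fst ≫ G.stabilizerToU = (s.snd ≫ o) ≫ G.t := by rw [Category.assoc]; exact s.condition
    have g₁ : (s.snd ≫ o) ≫ G.t = (s.fst ≫ G.stabilizerι) ≫ G.t := hc.symm.trans (stab_t _).symm
    have g₂ : (s.fst ≫ G.stabilizerι) ≫ G.s = (s.snd ≫ o) ≫ G.t := (stab_s _).trans hc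
    obtain ⟨y, hy₁, hy₂⟩ := exists_stab (gconjInv (s.fst ≫ G.stabilizerι) (s.snd ≫ o) g₁ g₂) ((s.snd ≫ o) ≫ G.s)
      (by rw [gconjInv, gmul_t, gmul_t, inv_t]) (by rw [gconjInv, gmul_s])
    let l : s.pt ⟶ Q := pullback.lift y s.snd (by rw [hy₂, Category.assoc])
    have lq : l ≫ q ≫ G.stabilizerι = gconjInv (s.fst ≫ G.stabilizerι) (s.snd ≫ o) g₁ g₂ := by
      rw [← Category.assoc, pullback.lift_fst, hy₁]
    have lp : l ≫ p ≫ o = s.snd ≫ o := by rw [← Category.assoc, pullback.lift_snd]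
    refine ⟨l, stab_hom_ext ?_ ?_, pullback.lift_snd _ _ _⟩
    · rw [Category.assoc, hq'₁, gconj, comp_gmul]
      refine (gmul_congr ((comp_gmul _ _ _ _).trans (gmul_congr lp lq _ (by rw [gconjInv, gmul_t, gmul_t, inv_t])))
        (by rw [← Category.assoc, lp]) _ (by rw [gmul_s, gconjInv, gmul_s, inv_t])).trans ?_
      exact gconj_gconjInv _ _ g₁ g₂
    · rw [Category.assoc, hq'₂, ← Category.assoc, lp, hc]
  choose l hl₁ hl₂ using hexists
  have hinj : ∀ {T : Sp S} (m m' : T ⟶ Q), m ≫ q' = m' ≫ q' → m ≫ p = m' ≫ p → m = m' := by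
    intro T m m' h1 h2
    refine pullback.hom_ext ?_ h2
    refine stab_hom_ext ?_ (by
      rw [Category.assoc, Category.assoc, hq, ← Category.assoc, ← Category.assoc, ← Category.assoc,
        ← Category.assoc, h2])
    have key : ∀ n : T ⟶ Q, (n ≫ q) ≫ G.stabilizerι = gconjInv ((n ≫ q') ≫ G.stabilizerι) ((n ≫ p) ≫ o)
        (by rw [stab_t, Category.assoc n q' G.stabilizerToU, hq'₂]; simp)
        (by rw [stab_s, Category.assoc n q' G.stabilizerToU, hq'₂]; simp) := by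
      intro n
      have e := congrArg (fun z => n ≫ z) (gconjInv_gconj (q ≫ G.stabilizerι) (p ≫ o) h₁ h₂)
      simp only [gconjInv] at e ⊢
      simp only [comp_gmul] at e
      rw [Category.assoc n q, ← e]
      refine gmul_congr (gmul_congr (by simp) ?_ _ _) (by simp) _ _
      rw [Category.assoc, hq'₁]
    rw [key m, key m']
    simp only [gconjInv]
    exact gmul_congr (gmul_congr (by rw [h2]) (by rw [h1]) _ _) (by rw [h2]) _ _
  refine ⟨⟨by rw [hq'₂, Category.assoc]⟩, ⟨PullbackCone.IsLimit.mk _ l hl₁ hl₂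
    fun s m h1 h2 => hinj _ _ (h1.trans (hl₁ s).symm) (h2.trans (hl₂ s).symm)⟩⟩

end Alg

/-- The largest open over which a property local on the base holds is invariant, for a morphism to the objects
whose base changes along source and target of arrows agree. -/
theorem isInvariant_largest {B : Sp S} (G : GroupoidSp B) (hU : IsAlgSpace G.U) (hR : IsAlgSpace G.R)
    {τ : CovNotion S} (hτ : τ = IsFppfCover ∨ τ = IsEtCover ∨ τ = IsSmCover)
    {P : MorphismProperty (Sp S)} (hP : IsLocalOnBase τ P)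
    (hs : τ (fun _ : PUnit.{u + 1} => G.R) (fun _ => G.s)) (ht : τ (fun _ : PUnit.{u + 1} => G.R) (fun _ => G.t))
    {M : Sp S} (hM : IsAlgSpace M) (π : M ⟶ G.U)
    (shear : ∀ {O : Sp S} (o : O ⟶ G.R), ∃ (Q : Sp S) (q q' : Q ⟶ M) (p : Q ⟶ O),
      IsPullback q p π (o ≫ G.s) ∧ IsPullback q' p π (o ≫ G.t))
    {W : Sp S} (hWsp : IsAlgSpace W) (w : W ⟶ G.U) (hw : RepWith @IsOpenImmersion w)
    (hmax : ∀ (W' : Sp S) (w' : W' ⟶ G.U), IsAlgSpace W' → RepWith @IsOpenImmersion w' →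
      (P (pullback.snd π w') ↔ ∃ k : W' ⟶ W, k ≫ w = w')) :
    G.IsInvariant w := by
  classical
  haveI : EtLocProp (@Flat : MorphismProperty Scheme.{u}) := etLocProp_of_list (by simp)
  haveI : EtLocProp (@LocallyOfFinitePresentation : MorphismProperty Scheme.{u}) := etLocProp_of_list (by simp)
  haveI : EtLocProp (@Smooth : MorphismProperty Scheme.{u}) := inferInstance
  let C : ∀ ⦃X Y : Sp S⦄, (X ⟶ Y) → Prop := fun X Y f => τ (fun _ : PUnit.{u + 1} => X) (fun _ => f)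
  -- the covering notion: base change and openness
  have cov : ∃ Q : MorphismProperty (Sp S),
      (∀ ⦃X Y : Sp S⦄ (f : X ⟶ Y), C f ↔ Q f ∧ ∀ y, y ∈ Set.range (Points.map f)) ∧
      (∀ ⦃F G F' G' : Sp S⦄, IsAlgSpace F → IsAlgSpace G → IsAlgSpace G' → ∀ (f : F ⟶ G) (g : G' ⟶ G)
        (fst : F' ⟶ F) (snd : F' ⟶ G'), IsPullback fst snd f g → Q f → Q snd) ∧
      (∀ ⦃F G : Sp S⦄, IsAlgSpace F → IsAlgSpace G → ∀ (f : F ⟶ G), Q f → IsOpenMap (Points.map f)) ∧
      (∀ ⦃F' F G : Sp S⦄ (g : F' ⟶ F) (f : F ⟶ G), IsEtaleMor g → Q f → Q (g ≫ f)) := by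
    rcases hτ with rfl | rfl | rfl
    · refine ⟨fun _ _ f => LocP @Flat f ∧ LocP @LocallyOfFinitePresentation f, fun X Y f =>
        ⟨fun h => ⟨h.1 ⟨⟩, fun y => (h.2 y).elim fun _ hy => hy⟩, fun h => ⟨fun _ => h.1, fun y => ⟨⟨⟩, h.2 y⟩⟩⟩,
        fun F G F' G' hF hG hG' f g fst snd sq h =>
          ⟨locP_of_isPullback hF hG hG' sq h.1, locP_of_isPullback hF hG hG' sq h.2⟩,
        fun F G hF hG f h => AlgStLib.isOpenMap_map_of_flat_lfp hF hG h.1 h.2,
        fun F' F G g f hg h => ⟨locP_etale_comp hg h.1, locP_etale_comp hg h.2⟩⟩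
    · exact ⟨fun _ _ f => IsEtaleMor f, fun X Y f =>
        ⟨fun h => ⟨h.1 ⟨⟩, fun y => (h.2 y).elim fun _ hy => hy⟩, fun h => ⟨fun _ => h.1, fun y => ⟨⟨⟩, h.2 y⟩⟩⟩,
        fun F G F' G' hF hG hG' f g fst snd sq h => isEtaleMor_of_isPullback hF hG hG' sq h,
        fun F G hF hG f h => isOpenMap_map_of_isEtaleMor hF h,
        fun F' F G g f hg h => isEtaleMor_comp h hg⟩
    · exact ⟨fun _ _ f => LocP @Smooth f, fun X Y f =>
        ⟨fun h => ⟨h.1 ⟨⟩, fun y => (h.2 y).elim fun _ hy => hy⟩, fun h => ⟨fun _ => h.1, fun y => ⟨⟨⟩, h.2 y⟩⟩⟩,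
        fun F G F' G' hF hG hG' f g fst snd sq h => locP_of_isPullback hF hG hG' sq h,
        fun F G hF hG f h => AlgStLib.isOpenMap_map_of_flat_lfp hF hG
          (locP_mono (fun _ _ g (_ : Smooth g) => (inferInstance : Flat g)) h)
          (locP_mono (fun _ _ g (_ : Smooth g) => (inferInstance : LocallyOfFinitePresentation g)) h),
        fun F' F G g f hg h => locP_etale_comp hg h⟩
  obtain ⟨Q, hQ, hbc, hopen, hpre⟩ := cov
  obtain ⟨hsQ, hss⟩ := (hQ G.s).1 hs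
  obtain ⟨htQ, -⟩ := (hQ G.t).1 ht
  -- arrows with source in `W`
  have sqO := IsPullback.of_hasPullback G.s w
  let O := pullback G.s w
  let o := pullback.fst G.s w
  let sW := pullback.snd G.s w
  have hO : IsAlgSpace O := isAlgSpace_pullback hR hWsp hU G.s w
  have ho : RepWith @IsOpenImmersion o := repWith_of_isPullback sqO.flip hw
  have hsWc : C sW := (hQ sW).2 ⟨hbc hR hU hWsp _ _ _ _ sqO hsQ, map_surjective_of_isPullback sqO hss⟩
  have hPW : P (pullback.snd π w) := (hmax W w hWsp hw).2 ⟨𝟙 W, Category.id_comp w⟩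
  obtain ⟨N, q, q', p, sq₁, sq₂⟩ := shear o
  have hMW := isAlgSpace_pullback hM hWsp hU π w
  have hN : IsAlgSpace N := IsAlgSpace.of_iso (isAlgSpace_pullback hM hO hU π (o ≫ G.s)) sq₁.isoPullback.symm
  let l : N ⟶ pullback π w := pullback.lift q (p ≫ sW) (by rw [sq₁.w, sqO.w, Category.assoc])
  have sqA : IsPullback l p (pullback.snd π w) sW :=
    IsPullback.of_right (by rw [pullback.lift_fst, ← sqO.w]; exact sq₁) (pullback.lift_snd _ _ _)
      (IsPullback.of_hasPullback π w)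
  have hPp : P p := (hP (fun _ : PUnit.{u + 1} => O) (fun _ => sW) hWsp (fun _ => hO) hsWc _ hMW
    (fun _ => N) (fun _ => p) (fun _ => l) (fun _ => hN) fun _ => sqA).1 hPW ⟨⟩
  -- the image by the target
  let ot := o ≫ G.t
  let A : Set (Points G.U) := Set.range (Points.map ot)
  have hA : IsOpen A := by
    have h1 : IsOpen (Set.range (Points.map o)) :=
      (isOpenMap_map_of_isEtaleMor hO (isEtaleMor_of_openImmersion ho)).isOpen_range
    have : A = Points.map G.t '' Set.range (Points.map o) := by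
      ext y
      constructor
      · rintro ⟨x, rfl⟩; exact ⟨_, ⟨x, rfl⟩, (Points.map_comp o G.t x).symm⟩
      · rintro ⟨_, ⟨x, rfl⟩, rfl⟩; exact ⟨x, Points.map_comp o G.t x⟩
    rw [this]
    exact hopen hR hU G.t htQ _ h1
  let W₁ := openSub G.U A
  let ι₁ := openSubι G.U A
  have hι₁ : RepWith @IsOpenImmersion ι₁ := repWith_openSubι G.U hA
  have hW₁ : IsAlgSpace W₁ := isAlgSpace_openSub hU hA
  haveI : Mono ι₁ := mono_of_openImmersion hι₁
  obtain ⟨h, hh⟩ := (exists_factor_iff hι₁ ot).2 (by rw [range_openSubι])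
  have hhs : ∀ y, y ∈ Set.range (Points.map h) := fun y => by
    have : Points.map ι₁ y ∈ Set.range (Points.map ot) := by
      have := Set.mem_range_self (f := Points.map ι₁) y
      rwa [range_openSubι] at this
    obtain ⟨x, hx⟩ := this
    exact ⟨x, injective_map_of_mono ι₁ (by rw [← Points.map_comp, hh, hx])⟩
  have hhQ : C h := (hQ h).2 ⟨by
    have sqT := IsPullback.of_hasPullback G.t ι₁
    let m : O ⟶ pullback G.t ι₁ := pullback.lift o h hh.symm
    haveI : Mono (pullback.fst G.t ι₁) := mono_of_openImmersion (repWith_of_isPullback sqT.flip hι₁)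
    have hm : RepWith @IsOpenImmersion m :=
      repWith_of_isPullback (IsPullback.of_horiz_isIso_mono (fst := 𝟙 O) (g := pullback.fst G.t ι₁)
        ⟨by rw [Category.id_comp, pullback.lift_fst]⟩) ho
    rw [← show m ≫ pullback.snd G.t ι₁ = h from pullback.lift_snd _ _ _]
    exact hpre _ _ (isEtaleMor_of_openImmersion hm) (hbc hR hU hW₁ _ _ _ _ sqT htQ), hhs⟩
  let l₁ : N ⟶ pullback π ι₁ := pullback.lift q' (p ≫ h) (by rw [sq₂.w, Category.assoc, hh])
  have sqB : IsPullback l₁ p (pullback.snd π ι₁) h :=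
    IsPullback.of_right (by rw [pullback.lift_fst, hh]; exact sq₂) (pullback.lift_snd _ _ _)
      (IsPullback.of_hasPullback π ι₁)
  have hP₁ : P (pullback.snd π ι₁) := (hP (fun _ : PUnit.{u + 1} => O) (fun _ => h) hW₁ (fun _ => hO) hhQ _
    (isAlgSpace_pullback hM hW₁ hU π ι₁) (fun _ => N) (fun _ => p) (fun _ => l₁) (fun _ => hN) fun _ => sqB).2
    fun _ => hPp
  obtain ⟨k, hk⟩ := (hmax W₁ ι₁ hW₁ hι₁).1 hP₁
  have key : ∀ ⦃T : Over S⦄ (r : (yon S).obj T ⟶ G.R), (∃ a : (yon S).obj T ⟶ W, a ≫ w = r ≫ G.s) →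
      ∃ a : (yon S).obj T ⟶ W, a ≫ w = r ≫ G.t := by
    rintro T r ⟨a, ha⟩
    refine ⟨pullback.lift r a ha.symm ≫ h ≫ k, ?_⟩
    rw [Category.assoc, Category.assoc, hk, hh, ← Category.assoc, pullback.lift_fst]
  intro T r
  refine ⟨fun ⟨a, ha⟩ => ?_, key r⟩
  obtain ⟨b, hb⟩ := key (r ≫ G.i) ⟨a, by rw [inv_s, ha]⟩
  exact ⟨b, by rw [hb, inv_t]⟩

end AlgSpRegLib
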