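import Groth.Agent.AlgSpLib.CodimZero
import Groth.Agent.AlgSpLib.Reduced
import Groth.Agent.AlgSpLib.Qc
import Groth.Agent.AlgSpLib.Points
import Mathlib.AlgebraicGeometry.Morphisms.UniversallyOpen
import Mathlib.AlgebraicGeometry.Noetherian

/-!
# Locally finitely many irreducible components on etale charts
-/

set_option autoImplicit false
set_option backward.isDefEq.respectTransparency false
set_option backward.isDefEq.respectTransparency.types false

universe u

open CategoryTheory CategoryTheory.Limits AlgebraicGeometry Opposite AlgSp AlgSpLib Topology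

namespace AlgSpRegLib

/-- The maximal points of a scheme. -/
def maxPts (U : Scheme.{u}) : Set U := {x | ∀ w, w ⤳ x → w = x}

/-- Every quasi-compact open has finitely many irreducible components. -/
def LFC (U : Scheme.{u}) : Prop := ∀ W : U.Opens, IsCompact (W : Set U) → (irreducibleComponents ↥W).Finite

theorem mem_genericPoints_iff {U : Scheme.{u}} (x : U) : x ∈ genericPoints U ↔ x ∈ maxPts U := by
  constructor
  · intro hx w hw
    have h1 : closure {x} ⊆ closure {w} :=
      closure_minimal (Set.singleton_subset_iff.2 (specializes_iff_mem_closure.1 hw)) isClosed_closure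
    have h2 : closure {w} ⊆ closure {x} := hx.2 isIrreducible_singleton.closure h1
    exact (hw.antisymm (specializes_iff_mem_closure.2 (h2 (subset_closure rfl)))).eq
  · intro hx
    obtain ⟨Z, hZ, hxZ⟩ := exists_mem_irreducibleComponents_subset_of_isIrreducible _
      (isIrreducible_singleton (x := x))
    have hg := hZ.1.isGenericPoint_genericPoint (isClosed_of_mem_irreducibleComponents _ hZ)
    have e := hx _ (hg.specializes (hxZ rfl))
    rw [e] at hg
    change closure {x} ∈ irreducibleComponents U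
    rwa [hg.def]

theorem finite_maxPts_iff (U : Scheme.{u}) : (maxPts U).Finite ↔ (irreducibleComponents U).Finite := by
  have : maxPts U = genericPoints U := Set.ext fun x => (mem_genericPoints_iff x).symm
  rw [this, ← Set.finite_coe_iff, ← Set.finite_coe_iff]
  exact (genericPoints.equiv (α := U)).finite_iff

theorem finite_opens_iff {U : Scheme.{u}} (W : U.Opens) :
    (irreducibleComponents ↥W).Finite ↔ (maxPts U ∩ W).Finite := by
  refine (finite_maxPts_iff W.toScheme).symm.trans ?_
  have : maxPts U ∩ W = W.ι '' maxPts W.toScheme := by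
    ext x
    constructor
    · rintro ⟨hx, hxW⟩
      exact ⟨⟨x, hxW⟩, fun w hw => W.ι.isOpenEmbedding.injective (hx _ (hw.map W.ι.continuous)), rfl⟩
    · rintro ⟨⟨x, hxW⟩, hx, rfl⟩
      refine ⟨fun w hw => ?_, hxW⟩
      have hwW : w ∈ W := hw.mem_open W.2 hxW
      exact congrArg W.ι (hx ⟨w, hwW⟩ ((subtype_specializes_iff _ _).2 hw))
  rw [this]
  exact (Set.finite_image_iff W.ι.isOpenEmbedding.injective.injOn).symm

theorem LFC.finite_maxPts {U : Scheme.{u}} (h : LFC U) (W : U.Opens) (hW : IsCompact (W : Set U)) :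
    (maxPts U ∩ W).Finite := (finite_opens_iff W).1 (h W hW)

theorem LFC.finite_of_compact {U : Scheme.{u}} (h : LFC U) [CompactSpace U] : (maxPts U).Finite :=
  (h.finite_maxPts ⊤ isCompact_univ).subset fun _ hx => ⟨hx, trivial⟩

theorem lfc_of_affines {U : Scheme.{u}}
    (h : ∀ x : U, ∃ O : U.Opens, x ∈ O ∧ (maxPts U ∩ O).Finite) : LFC U := by
  intro W hW
  rw [finite_opens_iff]
  choose O hO hfin using h
  obtain ⟨t, ht⟩ := hW.elim_finite_subcover (fun x => (O x : Set U)) (fun x => (O x).2)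
    (fun x _ => Set.mem_iUnion.2 ⟨x, hO x⟩)
  refine (t.finite_toSet.biUnion fun x _ => hfin x).subset fun x hx => ?_
  obtain ⟨i, hi, hxi⟩ := Set.mem_iUnion₂.1 (ht hx.2)
  exact Set.mem_iUnion₂.2 ⟨i, hi, hx.1, hxi⟩

/-- Ascent along flat morphisms locally of finite type. -/
theorem lfc_of_flat_lft {V U : Scheme.{u}} (h : V ⟶ U) [Flat h] [LocallyOfFiniteType h] (hU : LFC U) :
    LFC V := by
  refine lfc_of_affines fun v => ?_
  obtain ⟨A, hA, hvA, -⟩ := exists_isAffineOpen_mem_and_subset (U := ⊤) (x := h v) trivial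
  obtain ⟨B, hB, hvB, hle⟩ := exists_isAffineOpen_mem_and_subset (U := h ⁻¹ᵁ A) (x := v) hvA
  refine ⟨B, hvB, ?_⟩
  haveI : IsAffine A.toScheme := hA
  haveI : IsAffine B.toScheme := hB
  let g := h.resLE A B hle
  haveI : QuasiCompact g := inferInstance
  haveI : LocallyOfFiniteType g := inferInstance
  have hfib : ∀ a : A.toScheme, {b : B.toScheme | g b = a ∧ ∀ w, g w = a → w ⤳ b → w = b}.Finite := by
    intro a
    haveI : LocallyOfFiniteType (g.fiberToSpecResidueField a) :=
      MorphismProperty.pullback_snd g (A.toScheme.fromSpecResidueField a) inferInstance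
    haveI : IsLocallyNoetherian (g.fiber a) :=
      LocallyOfFiniteType.isLocallyNoetherian (g.fiberToSpecResidueField a)
    haveI : IsNoetherian (g.fiber a) := ⟨⟩
    have hfin : (maxPts (g.fiber a)).Finite :=
      (finite_maxPts_iff _).2 TopologicalSpace.NoetherianSpace.finite_irreducibleComponents
    refine (hfin.image (g.fiberι a)).subset fun b ⟨hb, hmax⟩ => ?_
    obtain ⟨z, hz⟩ : b ∈ Set.range (g.fiberι a) := by rw [Scheme.Hom.range_fiberι]; exact hb
    refine ⟨z, fun w hw => (g.fiberι a).isEmbedding.injective ?_, hz⟩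
    rw [hz]
    refine hmax _ ?_ (hz ▸ hw.map (g.fiberι a).continuous)
    exact (Scheme.Hom.range_fiberι g a).le ⟨w, rfl⟩
  have hM : (maxPts U ∩ A).Finite := hU.finite_maxPts A hA.isCompact
  refine ((hM.preimage A.ι.isOpenEmbedding.injective.injOn).biUnion fun a _ => (hfib a).image B.ι).subset ?_
  rintro x ⟨hx, hxB⟩
  have hgx : A.ι (g ⟨x, hxB⟩) = h x := by
    rw [← Scheme.Hom.comp_apply, Scheme.Hom.resLE_comp_ι, Scheme.Hom.comp_apply]; rfl
  refine Set.mem_iUnion₂.2 ⟨g ⟨x, hxB⟩, ⟨?_, (g ⟨x, hxB⟩).2⟩, ⟨x, hxB⟩, ⟨rfl, fun w _ hw => ?_⟩, rfl⟩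
  · rw [hgx]
    intro w hw
    obtain ⟨w', hw', rfl⟩ := Flat.generalizingMap h hw
    rw [hx w' hw']
  · exact B.ι.isOpenEmbedding.injective (hx _ (hw.map B.ι.continuous))

/-- Descent along flat open surjective morphisms. -/
theorem lfc_of_surjective {V U : Scheme.{u}} (h : V ⟶ U) [Flat h] [LocallyOfFinitePresentation h] [Surjective h]
    (hV : LFC V) : LFC U := by
  refine lfc_of_affines fun u => ?_
  obtain ⟨v, rfl⟩ := h.surjective u
  obtain ⟨B, hB, hvB, -⟩ := exists_isAffineOpen_mem_and_subset (U := ⊤) (x := v) trivial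
  refine ⟨⟨h '' B, h.isOpenMap _ B.2⟩, ⟨v, hvB, rfl⟩, ((hV.finite_maxPts B hB.isCompact).image h).subset ?_⟩
  rintro _ ⟨hx, b, hb, rfl⟩
  obtain ⟨ξ, hξ, hmax⟩ := exists_maximal_generization b
  exact ⟨ξ, ⟨hmax, hξ.mem_open B.2 hb⟩, hx _ (hξ.map h.continuous)⟩

/-- Maximal points map to and lift maximal points along etale morphisms. -/
theorem maximal_image {V U : Scheme.{u}} (h : V ⟶ U) [Flat h] {v : V} (hv : v ∈ maxPts V) :
    h v ∈ maxPts U := fun _ hw => by
  obtain ⟨w', hw', rfl⟩ := Flat.generalizingMap h hw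
  rw [hv w' hw']

variable {S : Scheme.{u}}

theorem lfc_chart {X : Sp S} (hX : EtaleLocally LFC X) {U : Over S} (a : (yon S).obj U ⟶ X)
    (ha : RepWith @Etale a) : LFC U.left := by
  obtain ⟨U₀, p, hp, hps, h₀⟩ := hX
  obtain ⟨E, q, r, sq⟩ := exists_isPullback_yon p a hp.rep
  haveI : Etale r.left := etale_left (repWith_of_isPullback sq hp)
  haveI : Surjective r.left := surjective_left (repWith_of_isPullback sq hps)
  haveI : Etale q.left := etale_left (repWith_of_isPullback sq.flip ha)
  exact lfc_of_surjective r.left (lfc_of_flat_lft q.left h₀)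

theorem setOf_hasAt_codimZero {Y : Sp S} {E : Over S} {p : (yon S).obj E ⟶ Y} (hp : RepWith @Etale p)
    (hps : RepWith @Surjective p) :
    {y : Points Y | HasAt (fun U u => ringKrullDim ↥(U.presheaf.stalk u) = 0) Y y} =
      Points.ofPt p '' maxPts E.left := by
  ext y
  constructor
  · rintro ⟨U, a, u, ha, rfl, h0⟩
    obtain ⟨P, q, r, sq⟩ := exists_isPullback_yon p a hp.rep
    haveI : Etale r.left := etale_left (repWith_of_isPullback sq hp)
    haveI : Surjective r.left := surjective_left (repWith_of_isPullback sq hps)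
    haveI : Etale q.left := etale_left (repWith_of_isPullback sq.flip ha)
    obtain ⟨e, rfl⟩ := r.left.surjective u
    obtain ⟨ξ, hξ, hmax⟩ := exists_maximal_generization e
    refine ⟨q.left ξ, maximal_image q.left hmax, ?_⟩
    rw [← ofPt_yon_comp, sq.w, ofPt_yon_comp, eq_of_specializes_of_stalkDim_zero h0.le (hξ.map r.left.continuous)]
  · rintro ⟨ξ, hξ, rfl⟩
    exact ⟨E, p, ξ, hp, rfl, stalkDim_eq_zero_of_maximal ξ hξ⟩

theorem finite_codimZero_of_lfc {X Y : Sp S} (hX : EtaleLocally LFC X) {g : Y ⟶ X} (hg : IsEtaleMor g)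
    (hY : IsQuasiCompactSp Y) :
    {y : Points Y | HasAt (fun U u => ringKrullDim ↥(U.presheaf.stalk u) = 0) Y y}.Finite ∧
      (irreducibleComponents (Points Y)).Finite := by
  obtain ⟨E, p, hE, hp, hps⟩ := exists_affine_chart hY
  haveI := hE
  have hfin := (lfc_chart hX (p ≫ g) (hg p hp)).finite_of_compact
  refine ⟨by rw [setOf_hasAt_codimZero hp hps]; exact hfin.image _, ?_⟩
  let 𝒯 : Set (Set (Points Y)) := (fun ξ => closure {Points.ofPt p ξ}) '' maxPts E.left
  have h𝒯 : 𝒯.Finite := hfin.image _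
  refine h𝒯.subset fun Z hZ => ?_
  have hsub : Z ⊆ ⋃₀ 𝒯 := fun y _ => by
    obtain ⟨e, rfl⟩ := surjective_ofPt hps y
    obtain ⟨ξ, hξ, hmax⟩ := exists_maximal_generization e
    exact ⟨_, ⟨ξ, hmax, rfl⟩, specializes_iff_mem_closure.1 (hξ.map (Points.continuous_ofPt p))⟩
  obtain ⟨t, ht, hZt⟩ := isIrreducible_iff_sUnion_isClosed.1 hZ.1 h𝒯.toFinset
    (fun z hz => by
      obtain ⟨ξ, -, rfl⟩ := h𝒯.mem_toFinset.1 hz
      exact isClosed_closure) (by rwa [h𝒯.coe_toFinset])
  obtain ⟨ξ, hξ, rfl⟩ := h𝒯.mem_toFinset.1 ht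
  exact ⟨ξ, hξ, Set.Subset.antisymm (hZ.2 isIrreducible_singleton.closure hZt) hZt⟩

/-- The condition of finitely many components of etale quasi-compact opens detects the chart condition. -/
theorem etaleLocally_lfc_of_forall {X : Space S}
    (h : ∀ (Y : Space S) (g : Y ⟶ X), IsEtaleMor g.hom → IsQuasiCompactSp Y.obj →
      {y : Points Y.obj | HasAt (fun U u => ringKrullDim ↥(U.presheaf.stalk u) = 0) Y.obj y}.Finite ∨
        (irreducibleComponents (Points Y.obj)).Finite) :
    EtaleLocally LFC X.obj := by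
  obtain ⟨U, a, ha, has⟩ := X.property.atlas
  refine ⟨U, a, ha, has, fun W hW => ?_⟩
  let Wo : Over S := Over.mk (W.ι ≫ U.hom)
  let o : Wo ⟶ U := Over.homMk W.ι rfl
  haveI : CompactSpace Wo.left := isCompact_iff_compactSpace.mp hW
  let Y : Space S := ⟨(yon S).obj Wo, IsAlgSpace.yon_obj Wo⟩
  have hoa : RepWith @Etale ((yon S).map o ≫ a) :=
    AlgSpLib.repWith_comp ((repWith_yon_map_iff (P := (@Etale : MorphismProperty Scheme.{u})) o).2
      (inferInstanceAs (Etale W.ι))) ha
  let g : Y ⟶ X := ObjectProperty.homMk ((yon S).map o ≫ a)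
  rcases h Y g (isEtaleMor_of_repWith hoa) (isQuasiCompactSp_yon Wo) with h1 | h1
  · change (irreducibleComponents Wo.left).Finite
    rw [← finite_maxPts_iff]
    rw [setOf_hasAt_codimZero (E := Wo) (p := 𝟙 _) (repWith_id _ _) (repWith_id _ _)] at h1
    refine (Set.finite_image_iff (fun x _ y _ e => ?_)).1 h1
    simp [ofPt_comp_ofScheme] at e
    exact (Points.schemeHomeo Wo).injective e
  · change (irreducibleComponents Wo.left).Finite
    let φ := Points.schemeHomeo Wo
    rw [← Set.finite_coe_iff] at h1 ⊢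
    exact (irreducibleComponentsEquivOfIsPreirreducibleFiber φ φ.continuous φ.isOpenMap
      (fun x => (Set.subsingleton_singleton.preimage φ.injective).isPreirreducible) φ.surjective).toEquiv.finite_iff.1 h1

end AlgSpRegLib
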