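import Mathlib

/-!
# Morphisms with etale kernel pair into Artinian schemes
-/

set_option autoImplicit false
set_option backward.isDefEq.respectTransparency false
set_option backward.isDefEq.respectTransparency.types false

universe u

open CategoryTheory CategoryTheory.Limits AlgebraicGeometry TensorProduct

namespace AlgSpRegLib


/-- An algebra over a field whose two-fold tensor product is etale over it is finite. -/
theorem finite_of_etale_diag_field (K C : Type u) [Field K] [CommRing C] [Algebra K C]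
    [Algebra.Etale C (C ⊗[K] C)] : Module.Finite K C := by
  rcases subsingleton_or_nontrivial C with h | h
  · infer_instance
  · haveI : Algebra.Etale K C := Algebra.Etale.of_etale_tensorProduct_of_faithfullyFlat C
    exact Algebra.FormallyUnramified.finite_of_free K C

theorem etale_diag_baseChange (A B K : Type u) [CommRing A] [CommRing B] [CommRing K] [Algebra A B] [Algebra A K]
    [Algebra.Etale B (B ⊗[A] B)] : Algebra.Etale (K ⊗[A] B) ((K ⊗[A] B) ⊗[K] (K ⊗[A] B)) := by
  let C := K ⊗[A] B
  letI : Algebra B C := Algebra.TensorProduct.rightAlgebra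
  haveI : IsScalarTower A B C := IsScalarTower.of_algebraMap_eq' (by
    ext a
    simp [C, Algebra.TensorProduct.algebraMap_apply, RingHom.algebraMap_toAlgebra,
      ← Algebra.TensorProduct.tmul_one_eq_one_tmul])
  haveI : Algebra.Etale C (C ⊗[A] B) :=
    Algebra.Etale.of_equiv (Algebra.TensorProduct.cancelBaseChange A B C C B)
  exact Algebra.Etale.of_equiv (Algebra.TensorProduct.cancelBaseChange A K C C B).symm

/-- An algebra over an Artinian ring whose two-fold tensor product is etale over it is finite. -/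
theorem finite_of_etale_diag (A B : Type u) [CommRing A] [CommRing B] [Algebra A B] [IsArtinianRing A]
    [Algebra.Etale B (B ⊗[A] B)] : Module.Finite A B := by
  classical
  haveI : Finite (MaximalSpectrum A) := inferInstance
  have key : ∀ m : MaximalSpectrum A, ∃ s : Finset B, ∀ N : Submodule A B, (s : Set B) ⊆ N →
      m.asIdeal • (⊤ : Submodule A (B ⧸ N)) = ⊤ := by
    intro m
    letI := Ideal.Quotient.field m.asIdeal
    let C := (A ⧸ m.asIdeal) ⊗[A] B
    haveI : Algebra.Etale C (C ⊗[A ⧸ m.asIdeal] C) := etale_diag_baseChange A B _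
    haveI : Module.Finite (A ⧸ m.asIdeal) C := finite_of_etale_diag_field _ _
    haveI : Module.Finite A C := Module.Finite.trans (A ⧸ m.asIdeal) C
    obtain ⟨t, ht⟩ := Module.Finite.fg_top (R := A) (M := C)
    let π : B →ₗ[A] C := TensorProduct.mk A (A ⧸ m.asIdeal) B 1
    have hπ : Function.Surjective π := TensorProduct.mk_surjective A B _ Ideal.Quotient.mk_surjective
    choose g hg using hπ
    refine ⟨t.image g, fun N hN => ?_⟩
    let q : C →ₗ[A] (A ⧸ m.asIdeal) ⊗[A] (B ⧸ N) := LinearMap.lTensor _ N.mkQ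
    have hq : Function.Surjective q := LinearMap.lTensor_surjective _ N.mkQ_surjective
    have h0 : q = 0 := by
      refine LinearMap.ext_on ht fun c hc => ?_
      rw [← hg c]
      change LinearMap.lTensor _ N.mkQ ((1 : A ⧸ m.asIdeal) ⊗ₜ[A] g c) = 0
      rw [LinearMap.lTensor_tmul, Submodule.mkQ_apply, (Submodule.Quotient.mk_eq_zero N).2 (hN (by
        rw [Finset.coe_image]; exact ⟨c, hc, rfl⟩)), tmul_zero]
    haveI : Subsingleton ((A ⧸ m.asIdeal) ⊗[A] (B ⧸ N)) :=
      ⟨fun x y => by
        obtain ⟨x, rfl⟩ := hq x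
        obtain ⟨y, rfl⟩ := hq y
        simp [h0]⟩
    haveI := (TensorProduct.quotTensorEquivQuotSMul (B ⧸ N) m.asIdeal).symm.toEquiv.subsingleton
    exact Submodule.Quotient.subsingleton_iff.1 ‹_›
  choose s hs using key
  haveI := Fintype.ofFinite (MaximalSpectrum A)
  let N : Submodule A B := Submodule.span A (Finset.univ.biUnion s : Set B)
  have hN : ∀ m : MaximalSpectrum A, m.asIdeal • (⊤ : Submodule A (B ⧸ N)) = ⊤ := fun m =>
    hs m N (fun x hx => Submodule.subset_span (Finset.mem_biUnion.2 ⟨m, Finset.mem_univ m, hx⟩))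
  have hprod : ∀ t : Finset (MaximalSpectrum A),
      (∏ m ∈ t, m.asIdeal) • (⊤ : Submodule A (B ⧸ N)) = ⊤ := by
    intro t
    induction t using Finset.induction_on with
    | empty => simp
    | insert a t ha ih => rw [Finset.prod_insert ha, Submodule.mul_smul, ih, hN]
  have hJ : (∏ m : MaximalSpectrum A, m.asIdeal) ≤ Ideal.jacobson (⊥ : Ideal A) :=
    le_sInf fun I hI => (Ideal.prod_le_inf).trans
      (Finset.inf_le (f := MaximalSpectrum.asIdeal) (Finset.mem_univ (⟨I, hI.2⟩ : MaximalSpectrum A)))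
  obtain ⟨n, hn⟩ := IsArtinianRing.isNilpotent_jacobson_bot (R := A)
  have hpow : ∀ i : ℕ, (∏ m : MaximalSpectrum A, m.asIdeal) ^ i • (⊤ : Submodule A (B ⧸ N)) = ⊤ := by
    intro i
    induction i with
    | zero => simp
    | succ i ih => rw [pow_succ, Submodule.mul_smul, hprod, ih]
  have htop : (⊤ : Submodule A (B ⧸ N)) = ⊥ := by
    rw [← hpow n, eq_bot_iff]
    refine (Submodule.smul_mono_left (Ideal.pow_right_mono hJ n)).trans ?_
    rw [hn]; simp
  haveI : Subsingleton (B ⧸ N) := (Submodule.subsingleton_iff A).1 (subsingleton_of_bot_eq_top htop.symm)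
  exact ⟨Submodule.Quotient.subsingleton_iff.1 ‹_› ▸ Submodule.fg_span (Finset.finite_toSet _)⟩

/-- An affine morphism of affine schemes into an Artinian one with etale kernel pair is finite. -/
theorem isFinite_of_etale_kernelPair {U V : Scheme.{u}} [IsAffine U] [IsAffine V] [IsArtinianRing Γ(V, ⊤)]
    (f : U ⟶ V) [Etale (pullback.fst f f)] : IsFinite f := by
  let φ := f.appTop
  suffices IsFinite (Spec.map φ) by
    haveI : IsFinite (U.isoSpec.hom ≫ Spec.map φ) := inferInstance
    rw [Scheme.isoSpec_hom_naturality] at this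
    exact (MorphismProperty.cancel_right_of_respectsIso @IsFinite f V.isoSpec.hom).1 this
  rw [IsFinite.SpecMap_iff]
  algebraize [φ.hom]
  haveI : Etale (pullback.fst (Spec.map φ) (Spec.map φ)) := by
    let e : pullback f f ≅ pullback (Spec.map φ) (Spec.map φ) :=
      asIso (pullback.map f f _ _ U.isoSpec.hom U.isoSpec.hom V.isoSpec.hom
        (Scheme.isoSpec_hom_naturality f).symm (Scheme.isoSpec_hom_naturality f).symm)
    have he : e.hom ≫ pullback.fst (Spec.map φ) (Spec.map φ) = pullback.fst f f ≫ U.isoSpec.hom :=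
      pullback.lift_fst _ _ _
    rw [← MorphismProperty.cancel_left_of_respectsIso @Etale e.hom, he]
    infer_instance
  haveI : Algebra.Etale Γ(U, ⊤) (Γ(U, ⊤) ⊗[Γ(V, ⊤)] Γ(U, ⊤)) := by
    have e := pullbackSpecIso_inv_fst' Γ(V, ⊤) Γ(U, ⊤) Γ(U, ⊤)
    have h : Etale ((pullbackSpecIso Γ(V, ⊤) Γ(U, ⊤) Γ(U, ⊤)).inv ≫
        pullback.fst (Spec.map φ) (Spec.map φ)) := inferInstance
    exact RingHom.etale_algebraMap.1 ((HasRingHomProperty.Spec_iff (P := @Etale)).1 (e ▸ h))
  exact finite_of_etale_diag Γ(V, ⊤) Γ(U, ⊤)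

/-- A morphism with etale kernel pair into a scheme locally quasi-finite of finite type over a field is so. -/
theorem lqf_lft_of_etale_kernelPair {k : Type u} [Field k] {U V : Scheme.{u}} (f : U ⟶ V)
    [Etale (pullback.fst f f)] (g : V ⟶ Spec (CommRingCat.of k)) [LocallyQuasiFinite g] [LocallyOfFiniteType g] :
    LocallyQuasiFinite (f ≫ g) ∧ LocallyOfFiniteType (f ≫ g) := by
  have key : ∀ u : U, ∃ O : U.Opens, u ∈ O ∧ IsFinite (O.ι ≫ f ≫ g) := by
    intro u
    obtain ⟨W, hW, huW, -⟩ := exists_isAffineOpen_mem_and_subset (U := ⊤) (x := f u) trivial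
    obtain ⟨O, hO, huO, hle⟩ := exists_isAffineOpen_mem_and_subset (U := f ⁻¹ᵁ W) (x := u) huW
    haveI : IsAffine O.toScheme := hO
    haveI : IsAffine W.toScheme := hW
    let f₀ := f.resLE W O hle
    haveI : IsLocallyArtinian (Spec (CommRingCat.of k)) := inferInstance
    haveI : IsFinite (W.ι ≫ g) := IsFinite.of_locallyQuasiFinite (W.ι ≫ g)
    haveI : IsArtinianRing Γ(W.toScheme, ⊤) := by
      have h := (W.ι ≫ g).finite_appTop
      haveI : IsArtinianRing Γ(Spec (CommRingCat.of k), ⊤) :=
        (Scheme.ΓSpecIso (CommRingCat.of k)).symm.commRingCatIsoToRingEquiv.surjective.isArtinianRing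
      algebraize [(W.ι ≫ g).appTop.hom]
      exact IsArtinianRing.of_finite Γ(Spec (CommRingCat.of k), ⊤) _
    haveI : Etale (pullback.fst f₀ f₀) := by
      let m := pullback.map f₀ f₀ f f O.ι O.ι W.ι (by simp [f₀]) (by simp [f₀])
      haveI : Etale (pullback.fst f₀ f₀ ≫ O.ι) := by
        rw [← show m ≫ pullback.fst f f = pullback.fst f₀ f₀ ≫ O.ι from pullback.lift_fst _ _ _]
        infer_instance
      exact Etale.of_comp _ O.ι
    haveI : IsFinite f₀ := isFinite_of_etale_kernelPair f₀
    refine ⟨O, huO, ?_⟩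
    rw [show O.ι ≫ f ≫ g = f₀ ≫ W.ι ≫ g by simp [f₀]]
    infer_instance
  choose O hO hfin using key
  have htop : iSup O = ⊤ := top_le_iff.1 fun u _ => TopologicalSpace.Opens.mem_iSup.2 ⟨u, hO u⟩
  exact ⟨(IsZariskiLocalAtSource.iff_of_openCover (P := @LocallyQuasiFinite) (U.openCoverOfIsOpenCover O htop)).2
    fun u => haveI := hfin u; inferInstanceAs (LocallyQuasiFinite ((O u).ι ≫ f ≫ g)),
    (IsZariskiLocalAtSource.iff_of_openCover (P := @LocallyOfFiniteType) (U.openCoverOfIsOpenCover O htop)).2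
    fun u => haveI := hfin u; inferInstanceAs (LocallyOfFiniteType ((O u).ι ≫ f ≫ g))⟩

end AlgSpRegLib
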