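import Groth.Prelude.Def_AlgSpMor6
import Groth.Agent.AlgSpLib.Basic
import Groth.Agent.AlgSpLib.LocP
import Mathlib.AlgebraicGeometry.Sites.Etale
/-!
# One surjective etale chart suffices for properties etale local on the target
-/

set_option autoImplicit false
set_option backward.isDefEq.respectTransparency false
set_option backward.isDefEq.respectTransparency.types false

universe u

open CategoryTheory CategoryTheory.Limits AlgebraicGeometry Opposite AlgSp

namespace AlgSpRegLib

variable {S : Scheme.{u}}

/-- Stability under etale base change. -/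
def StableEtBC (P : MorphismProperty Scheme.{u}) : Prop :=
  ∀ ⦃A B A' B' : Scheme.{u}⦄ ⦃f : A ⟶ B⦄ ⦃g : B' ⟶ B⦄ ⦃g' : A' ⟶ A⦄ ⦃f' : A' ⟶ B'⦄,
    IsPullback g' f' f g → Etale g → P f → P f'

/-- Descent along etale surjective morphisms. -/
def DescendsEt (P : MorphismProperty Scheme.{u}) : Prop :=
  ∀ ⦃A B A' B' : Scheme.{u}⦄ ⦃f : A ⟶ B⦄ ⦃g : B' ⟶ B⦄ ⦃g' : A' ⟶ A⦄ ⦃f' : A' ⟶ B'⦄,
    IsPullback g' f' f g → Etale g → Surjective g → P f' → P f

/-- For a property stable under etale base change and descending along etale surjections, one surjective etale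
chart suffices. -/
theorem repLocT_of_chart {P : MorphismProperty Scheme.{u}} [P.RespectsIso] (hbc : StableEtBC P) (hd : DescendsEt P)
    {F G : Sp S} {f : F ⟶ G} (hf : Representable f) {V W : Over S} {b : (yon S).obj V ⟶ G}
    (hb1 : RepWith @Etale b) (hb2 : RepWith @Surjective b) {fst : (yon S).obj W ⟶ F} {snd : W ⟶ V}
    (sq : IsPullback fst ((yon S).map snd) f b) (hP : P snd.left) : RepLocT P f := by
  refine ⟨hf, fun V' W' b' fst' snd' hb' sq' => ?_⟩
  obtain ⟨T, t1, t2, sqT⟩ := AlgSpLib.exists_isPullback_yon b' b hb'.rep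
  haveI h1 : Etale t1.left := AlgSpLib.etale_left (AlgSpLib.repWith_of_isPullback sqT.flip hb1)
  haveI h1' : Surjective t1.left := AlgSpLib.surjective_left (AlgSpLib.repWith_of_isPullback sqT.flip hb2)
  haveI h2 : Etale t2.left := AlgSpLib.etale_left (AlgSpLib.repWith_of_isPullback sqT hb')
  have A := IsPullback.of_hasPullback snd t2
  have A' := IsPullback.of_hasPullback snd' t1
  have HA := (A.map (yon S)).paste_horiz sq
  have HA' := (A'.map (yon S)).paste_horiz sq'
  rw [← sqT.w] at HA
  let φ : (yon S).obj (pullback snd t2) ≅ (yon S).obj (pullback snd' t1) := HA.isoIsPullback _ _ HA'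
  let ψ : pullback snd t2 ≅ pullback snd' t1 := (yon S).preimageIso φ
  have hψ : ψ.hom ≫ pullback.snd snd' t1 = pullback.snd snd t2 := by
    refine (yon S).map_injective ?_
    rw [Functor.map_comp]
    have : (yon S).map ψ.hom = φ.hom := (yon S).map_preimage φ.hom
    rw [this]
    exact HA.isoIsPullback_hom_snd _ _ HA'
  have hA : P (pullback.snd snd t2).left := hbc (A.map (Over.forget S)) h2 hP
  have hA' : P (pullback.snd snd' t1).left := by
    rw [← hψ] at hA
    haveI : IsIso ψ.hom.left := (inferInstance : IsIso ((Over.forget S).map ψ.hom))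
    rwa [Over.comp_left, P.cancel_left_of_respectsIso] at hA
  exact hd (A'.map (Over.forget S)) h1 h1' hA'

theorem stableEtBC_of_isLocalAtTarget (P : MorphismProperty Scheme.{u})
    [P.IsLocalAtTarget Scheme.etalePrecoverage] : StableEtBC P := by
  haveI : P.RespectsIso := (inferInstance : P.IsLocalAtTarget Scheme.etalePrecoverage).toRespects
  intro A B A' B' f g g' f' sq hg hf
  haveI := hg
  let X : Bool → Scheme.{u} := fun b => match b with
    | true => B'
    | false => B
  let c : ∀ b, X b ⟶ B := fun b => match b with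
    | true => g
    | false => 𝟙 B
  have hR : Presieve.ofArrows X c ∈ Scheme.etalePrecoverage B := by
    rw [Scheme.etalePrecoverage, Scheme.ofArrows_mem_precoverage_iff]
    refine ⟨fun x => ⟨false, x, rfl⟩, fun b => ?_⟩
    cases b
    · exact (inferInstance : Etale (𝟙 B))
    · exact hg
  have := MorphismProperty.IsLocalAtTarget.pullbackSnd (P := P) (K := Scheme.etalePrecoverage) hR
    (Presieve.ofArrows.mk true) hf
  rw [← sq.isoPullback_hom_snd, P.cancel_left_of_respectsIso]
  exact this

theorem descendsEt_of_isLocalAtTarget (P : MorphismProperty Scheme.{u})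
    [P.IsLocalAtTarget Scheme.etalePrecoverage] : DescendsEt P := by
  haveI : P.RespectsIso := (inferInstance : P.IsLocalAtTarget Scheme.etalePrecoverage).toRespects
  intro A B A' B' f g g' f' sq hg hgs hf'
  haveI := hg
  haveI := hgs
  refine MorphismProperty.IsLocalAtTarget.of_forall_pullbackSnd (P := P) (K := Scheme.etalePrecoverage)
    (R := Presieve.singleton g) ?_ ?_
  · rw [Scheme.etalePrecoverage, Scheme.singleton_mem_precoverage_iff]
    exact ⟨g.surjective, hg⟩
  · rintro U k _ ⟨⟩
    rwa [← sq.isoPullback_hom_snd, P.cancel_left_of_respectsIso] at hf'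

end AlgSpRegLib
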