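import Groth.Agent.AlgSpRegLib.EnoughPoints
import Mathlib.AlgebraicGeometry.Sites.EtalePoint

/-!
# Geometric points are points of the small etale site in the base universe
-/

set_option autoImplicit false
set_option backward.isDefEq.respectTransparency false
set_option backward.isDefEq.respectTransparency.types false

universe u

open CategoryTheory CategoryTheory.Limits AlgebraicGeometry Opposite AlgSp AlgSpLib Topology

namespace AlgSpRegLib

variable {S : Scheme.{u}} {X : Sp S}

/-- Affine etale schemes over a chart with a lift of a geometric point, as etale neighbourhoods. -/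
noncomputable def chartNbhd {U : Over S} (a : (yon S).obj U ⟶ X) (ha : RepWith @Etale a) (p : FieldPt X)
    (l : p.pt ⟶ U) (hl : (yon S).map l ≫ a = p.toHom) :
    (Scheme.AffineEtale.Spec U.left ⋙ Scheme.Etale.forget U.left ⋙ coyoneda.obj (op (Over.mk l.left))).Elements ⥤
      EtNbhd p where
  obj N := ⟨(EtOver.ofChart a ha).obj ((Scheme.AffineEtale.Spec U.left).obj N.1),
    ⟨Over.homMk N.2.left (by
      change N.2.left ≫ _ ≫ U.hom = p.str
      rw [← Category.assoc]
      exact (congrArg (· ≫ U.hom) (Over.w N.2)).trans (Over.w l)), by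
      change (yon S).map _ ≫ (yon S).map _ ≫ a = p.toHom
      rw [← hl, ← Category.assoc, ← Functor.map_comp]
      congr 2
      ext
      exact Over.w N.2⟩⟩
  map {N N'} g := CategoryOfElements.homMk _ _ ((EtOver.ofChart a ha).map ((Scheme.AffineEtale.Spec U.left).map g.1))
    (Subtype.ext (Over.OverMorphism.ext (congrArg (fun t => t.left) g.2)))
  map_id N := CategoryOfElements.ext _ _ _ (EtOver.hom_ext _ _ (by ext; simp))
  map_comp f g := CategoryOfElements.ext _ _ _ (EtOver.hom_ext _ _ (by ext; simp))

theorem initiallySmall_etNbhd (hX : IsAlgSpace X) (p : FieldPt X) (hp : p.IsGeometric) :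
    InitiallySmall.{u} (EtNbhd p) := by
  haveI := isCofiltered_etNbhd hX p hp
  haveI : IsAlgClosed p.K := hp
  obtain ⟨U, a, ha, has⟩ := hX.atlas
  haveI : IsCofilteredOrEmpty (EtNbhd p) := inferInstance
  obtain ⟨u, hu⟩ := surjective_ofPt has (Points.mk p)
  obtain ⟨m, hm, -⟩ := exists_geometric_lift (IsAlgSpace.yon_obj U) hX a (isEtaleMor_of_repWith ha) p hp
    (Points.schemeHomeo U u) (by rw [← hu, ofPt_comp_ofScheme]; rfl)
  obtain ⟨l, rfl⟩ := (yon S).map_surjective m
  refine initiallySmall_of_essentiallySmall_weakly_initial_objectProperty (chartNbhd a ha p l hm).essImage ?_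
  rintro ⟨E, k, hk⟩
  obtain ⟨W, q, r, sq⟩ := exists_isPullback_yon a E.obj.hom ha.rep
  haveI : Etale q.left := etale_left (repWith_of_isPullback sq.flip E.property)
  obtain ⟨c, hc⟩ := (yon S).map_surjective (sq.lift ((yon S).map l) ((yon S).map k) (hm.trans hk.symm))
  have hcq : c ≫ q = l := (yon S).map_injective (by rw [Functor.map_comp, hc, sq.lift_fst])
  have hcr : c ≫ r = k := (yon S).map_injective (by rw [Functor.map_comp, hc, sq.lift_snd])
  obtain ⟨R, j, hj, hmem, -⟩ := Scheme.exists_affine_mem_range_and_range_subset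
    (x := c.left (IsLocalRing.closedPoint p.K)) (U := ⊤) trivial
  have hrange : Set.range c.left ⊆ Set.range j := by
    rintro _ ⟨z, rfl⟩
    haveI : Subsingleton ↥p.pt.left := inferInstanceAs (Subsingleton (PrimeSpectrum p.K))
    rwa [Subsingleton.elim z (IsLocalRing.closedPoint p.K)]
  let y := IsOpenImmersion.lift j c.left hrange
  have hy : y ≫ j = c.left := IsOpenImmersion.lift_fac _ _ _
  let A : U.left.AffineEtale := Scheme.AffineEtale.mk (j ≫ q.left)
  let N : (Scheme.AffineEtale.Spec U.left ⋙ Scheme.Etale.forget U.left ⋙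
      coyoneda.obj (op (Over.mk l.left))).Elements :=
    ⟨A, Over.homMk y (by
      change y ≫ j ≫ q.left = l.left
      rw [← Category.assoc, hy]
      exact congrArg (fun t => t.left) hcq)⟩
  let jr : ((chartNbhd a ha p l hm).obj N).1.obj.left ⟶ E.obj.left := Over.homMk (j ≫ r.left) (by
    change (j ≫ r.left) ≫ E.obj.left.hom = (j ≫ q.left) ≫ U.hom
    rw [Category.assoc, Over.w r, Category.assoc, Over.w q])
  refine ⟨_, ⟨N, ⟨Iso.refl _⟩⟩, ⟨CategoryOfElements.homMk _ _ (EtOver.homMk jr ?_) ?_⟩⟩
  · let j' : ((chartNbhd a ha p l hm).obj N).1.obj.left ⟶ W := Over.homMk j (by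
      change j ≫ W.hom = (j ≫ q.left) ≫ U.hom
      rw [Category.assoc, Over.w q])
    change (yon S).map jr ≫ E.obj.hom = (yon S).map _ ≫ a
    rw [show jr = j' ≫ r from by ext; rfl, Functor.map_comp, Category.assoc, ← sq.w, ← Category.assoc,
      ← Functor.map_comp]
    congr 2
  · refine Subtype.ext (Over.OverMorphism.ext ?_)
    change y ≫ j ≫ r.left = k.left
    rw [← Category.assoc, hy]
    exact congrArg (fun t => t.left) hcr

/-- A geometric point as a point of the small etale site in the base universe. -/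
noncomputable def geomPoint₀ (hX : IsAlgSpace X) (p : FieldPt X) (hp : p.IsGeometric) :
    GrothendieckTopology.Point.{u} (etTop X) where
  fiber := FieldPt.liftsTo p
  isCofiltered := isCofiltered_etNbhd hX p hp
  initiallySmall := initiallySmall_etNbhd hX p hp
  jointly_surjective := fun {E} R hR x => by
    obtain ⟨Z, g, hg, z, hz⟩ := (mem_etTop_iff R).1 hR (x.1.left (IsLocalRing.closedPoint p.K))
    obtain ⟨l, hl⟩ := exists_refine p hp ⟨E, x⟩ g z hz
    exact ⟨Z, g, hg, l, hl⟩

end AlgSpRegLib
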