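import Groth.Agent.AlgSpLib.MorPack
import Groth.Agent.AlgSpLib.LocP
import Groth.Agent.AlgSpLib.EtSmAffine
/-!
# Closed subspaces proper over the base
-/

set_option autoImplicit false
set_option backward.isDefEq.respectTransparency false
set_option backward.isDefEq.respectTransparency.types false

universe u

open CategoryTheory CategoryTheory.Limits AlgebraicGeometry Opposite AlgSp

namespace AlgSpRegLib

variable {S : Scheme.{u}}

theorem isProperMor_of_isPullback {F G F' G' : Sp S} (hF : IsAlgSpace F) (hG : IsAlgSpace G) (hG' : IsAlgSpace G')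
    {f : F ⟶ G} {g : G' ⟶ G} {fst : F' ⟶ F} {snd : F' ⟶ G'} (sq : IsPullback fst snd f g) (hf : IsProperMor f) :
    IsProperMor snd := by
  haveI : AlgSpLib.EtLocProp (@LocallyOfFiniteType : MorphismProperty Scheme.{u}) := AlgSpLib.etLocProp_of_list (by simp)
  exact ⟨AlgSpLib.repWith_diagonal_of_isPullback sq hf.1,
    ⟨AlgSpLib.locP_of_isPullback hF hG hG' sq hf.2.1.1, AlgSpLib.isQuasiCompactMor_of_isPullback sq hf.2.1.2⟩,
    AlgSpLib.univSp_of_isPullback sq hf.2.2⟩

theorem range_of_isPullback {F G F' G' : Sp S} {f : F ⟶ G} {g : G' ⟶ G} {fst : F' ⟶ F} {snd : F' ⟶ G'}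
    (sq : IsPullback fst snd f g) : Set.range (Points.map snd) = Points.map g ⁻¹' Set.range (Points.map f) := by
  ext y
  constructor
  · rintro ⟨p, rfl⟩
    exact ⟨Points.map fst p, by rw [← Points.map_comp, sq.w, Points.map_comp]⟩
  · rintro ⟨x, hx⟩
    obtain ⟨p, -, hp⟩ := AlgSpLib.exists_point_isPullback sq x y hx
    exact ⟨p, hp⟩

end AlgSpRegLib
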