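import Groth.Agent.AlgSpRegLib.ImageReduced
import Groth.Agent.AlgSpRegLib.CutByApps
import Groth.Agent.AlgSpRegLib.ProperSub
import Groth.Agent.AlgSpLib.MorPack
import Groth.Agent.AlgSpLib.Sep
import Groth.Agent.AlgSpLib.UnivClosed

/-!
# Properness from finitely many covering subspaces
-/

set_option autoImplicit false
set_option backward.isDefEq.respectTransparency false
set_option backward.isDefEq.respectTransparency.types false

universe u

open CategoryTheory CategoryTheory.Limits AlgebraicGeometry Opposite AlgSp AlgSpLib Topology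

namespace AlgSpRegLib

variable {S : Scheme.{u}}

section Cover

variable {ι : Type*} [Finite ι] {W B : Sp S} {R : ι → Sp S} (e : ∀ k, R k ⟶ W)
  (hcov : ∀ w : Points W, ∃ k, w ∈ Set.range (Points.map (e k)))

include hcov

theorem isUnivClosedMor_of_cover {g : W ⟶ B} (h : ∀ k, IsUnivClosedMor (e k ≫ g)) : IsUnivClosedMor g := by
  intro Z Z' hZ t fst snd sq
  let P := fun k => pullback (e k) fst
  have hk : ∀ k, IsClosedMor (pullback.snd (e k) fst ≫ snd) := fun k =>
    h k hZ t (pullback.fst (e k) fst) _ ((IsPullback.of_hasPullback (e k) fst).paste_vert sq)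
  intro A hA
  have key : Points.map snd '' A = ⋃ k,
      Points.map (pullback.snd (e k) fst ≫ snd) '' (Points.map (pullback.snd (e k) fst) ⁻¹' A) := by
    ext z
    constructor
    · rintro ⟨a, ha, rfl⟩
      obtain ⟨k, r, hr⟩ := hcov (Points.map fst a)
      obtain ⟨p, -, hp⟩ := exists_point_isPullback (IsPullback.of_hasPullback (e k) fst) r a hr
      exact Set.mem_iUnion.2 ⟨k, p, by rw [Set.mem_preimage, hp]; exact ha, by rw [Points.map_comp, hp]⟩
    · intro hz
      obtain ⟨k, p, hp, rfl⟩ := Set.mem_iUnion.1 hz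
      exact ⟨_, hp, (Points.map_comp _ _ p).symm⟩
  rw [key]
  exact isClosed_iUnion_of_finite fun k => hk k _ (hA.preimage (Points.continuous_map _))

theorem isQuasiCompactMor_of_cover (hW : IsAlgSpace W) (hB : IsAlgSpace B) {g : W ⟶ B}
    (h : ∀ k, IsQuasiCompactMor (e k ≫ g)) : IsQuasiCompactMor g := by
  rw [isQuasiCompactMor_iff_affine hW hB]
  intro Z hZ t P fst snd sq
  have hP := isAlgSpace_of_isPullback hW (IsAlgSpace.yon_obj Z) hB sq
  have hk : ∀ k, CompactSpace (Points (pullback (e k) fst)) := fun k =>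
    compactSpace_points_of_isQuasiCompactSp (h k (IsAlgSpace.yon_obj Z) (isQuasiCompactSp_yon Z) t
      (pullback.fst (e k) fst) _ ((IsPullback.of_hasPullback (e k) fst).paste_vert sq))
  refine isQuasiCompactSp_of_compactSpace hP ⟨?_⟩
  have : (Set.univ : Set (Points P)) = ⋃ k, Set.range (Points.map (pullback.snd (e k) fst)) := by
    refine (Set.eq_univ_of_forall fun a => ?_).symm
    obtain ⟨k, r, hr⟩ := hcov (Points.map fst a)
    obtain ⟨p, -, hp⟩ := exists_point_isPullback (IsPullback.of_hasPullback (e k) fst) r a hr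
    exact Set.mem_iUnion.2 ⟨k, p, hp⟩
  rw [this]
  exact isCompact_iUnion fun k => isCompact_range (Points.continuous_map _)

theorem isProperMor_of_cover (hW : IsAlgSpace W) (hB : IsAlgSpace B) (hR : ∀ k, IsAlgSpace (R k)) {g : W ⟶ B}
    (hg : LocP @LocallyOfFiniteType g) (he : ∀ k, IsUnivClosedMor (e k)) (h : ∀ k, IsProperMor (e k ≫ g)) :
    IsProperMor g := by
  refine ⟨?_, ⟨hg, isQuasiCompactMor_of_cover e hcov hW hB fun k => (h k).2.1.2⟩,
    isUnivClosedMor_of_cover e hcov fun k => (h k).2.2⟩
  refine isSeparatedMor_of_univClosed_diagonal hW hB (isUnivClosedMor_of_cover e hcov fun k => ?_)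
  let f := e k ≫ g
  -- `e k × e k` is universally closed
  let P1 := pullback g f
  let m1 : pullback f f ⟶ P1 := pullback.map f f g f (e k) (𝟙 _) (𝟙 _) (by simp [f]) (by simp)
  let m2 : P1 ⟶ pullback g g := pullback.map g f g g (𝟙 _) (e k) (𝟙 _) (by simp) (by simp [f])
  have sq1 : IsPullback (pullback.fst f f) m1 (e k) (pullback.fst g f) := by
    refine IsPullback.of_bot ?_ (by simp [m1]) (IsPullback.of_hasPullback g f)
    simpa [m1] using IsPullback.of_hasPullback f f
  have sq2 : IsPullback (pullback.snd g f) m2 (e k) (pullback.snd g g) := by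
    refine IsPullback.of_bot ?_ (by simp [m2]) (IsPullback.of_hasPullback g g).flip
    simpa [m2, f] using (IsPullback.of_hasPullback g f).flip
  have hP1 := isAlgSpace_pullback hW (hR k) hB g f
  have hP := isAlgSpace_pullback hW hW hB g g
  have hu : IsUnivClosedMor (pullback.diagonal f ≫ m1 ≫ m2) :=
    isUnivClosedMor_comp (isAlgSpace_pullback (hR k) (hR k) hB f f) hP
      (isUnivClosedMor_of_closedImmersion (hR k) (isAlgSpace_pullback (hR k) (hR k) hB f f) (h k).1)
      (isUnivClosedMor_comp hP1 hP (univSp_of_isPullback sq1 (he k)) (univSp_of_isPullback sq2 (he k)))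
  have e1 : e k ≫ pullback.diagonal g = pullback.diagonal f ≫ m1 ≫ m2 := by
    apply pullback.hom_ext <;> simp [m1, m2, f]
  rw [e1]
  exact hu

end Cover

/-- A closed subspace covered by finitely many closed subspaces proper over the base is proper. -/
theorem isProperMor_of_closed_cover {ι : Type*} [Finite ι] {X B W : Sp S} {Z : ι → Sp S} (hX : IsAlgSpace X)
    (hB : IsAlgSpace B) (hW : IsAlgSpace W) (hZ : ∀ k, IsAlgSpace (Z k)) {f : X ⟶ B}
    (hf : LocP @LocallyOfFiniteType f) {j : W ⟶ X} (hj : RepWith @IsClosedImmersion j) (i : ∀ k, Z k ⟶ X)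
    (hi : ∀ k, RepWith @IsClosedImmersion (i k))
    (hsub : Set.range (Points.map j) ⊆ ⋃ k, Set.range (Points.map (i k)))
    (hp : ∀ k, IsProperMor (i k ≫ f)) : IsProperMor (j ≫ f) := by
  haveI : EtLocProp (@LocallyOfFiniteType : MorphismProperty Scheme.{u}) := etLocProp_of_list (by simp)
  have hR : ∀ k, IsAlgSpace (pullback j (i k)) := fun k => isAlgSpace_pullback hW (hZ k) hX j (i k)
  have he : ∀ k, RepWith @IsClosedImmersion (pullback.fst j (i k)) := fun k =>
    repWith_of_isPullback (IsPullback.of_hasPullback j (i k)).flip (hi k)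
  refine isProperMor_of_cover (fun k => pullback.fst j (i k)) (fun w => ?_) hW hB hR
    (locP_comp hW hX hB (locP_of_repWith (repWith_mono
      (fun _ _ g (_ : IsClosedImmersion g) => (inferInstance : LocallyOfFiniteType g)) hj)) hf)
    (fun k => isUnivClosedMor_of_closedImmersion (hR k) hW (he k)) fun k => ?_
  · obtain ⟨k, z, hz⟩ := Set.mem_iUnion.1 (hsub ⟨w, rfl⟩)
    obtain ⟨p, hp, -⟩ := exists_point_isPullback (IsPullback.of_hasPullback j (i k)) w z hz.symm
    exact ⟨k, p, hp⟩
  · rw [pullback.condition_assoc]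
    exact isProperMor_comp (hR k) (hZ k) hB (isProperMor_of_closedImmersion (hR k) (hZ k)
      (repWith_of_isPullback (IsPullback.of_hasPullback j (i k)) hj)) (hp k)

/-- The image of a closed subspace proper over the base is proper over the base. -/
theorem exists_proper_image {X Y B Z : Sp S} (hX : IsAlgSpace X) (hY : IsAlgSpace Y) (hB : IsAlgSpace B)
    (hZ : IsAlgSpace Z) {a : X ⟶ B} (ha : LocP @LocallyOfFiniteType a) {b : Y ⟶ B}
    (hb : LocP @LocallyOfFiniteType b) {f : X ⟶ Y} (hfb : f ≫ b = a) {i : Z ⟶ X}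
    (hi : RepWith @IsClosedImmersion i) (hp : IsProperMor (i ≫ a))
    (huc : ∀ {R : Sp S} (r : R ⟶ X), IsAlgSpace R → RepWith @IsClosedImmersion r →
      IsProperMor (r ≫ a) → IsUnivClosedMor (r ≫ f)) :
    IsClosed (Points.map f '' Set.range (Points.map i)) ∧
      ∃ (Z' : Sp S) (i' : Z' ⟶ Y), IsAlgSpace Z' ∧ RepWith @IsClosedImmersion i' ∧
        Set.range (Points.map i') = Points.map f '' Set.range (Points.map i) ∧ IsProperMor (i' ≫ b) := by
  haveI : EtLocProp (@LocallyOfFiniteType : MorphismProperty Scheme.{u}) := etLocProp_of_list (by simp)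
  have him : Points.map f '' Set.range (Points.map i) = Set.range (Points.map (i ≫ f)) := by
    rw [show Points.map (i ≫ f) = Points.map f ∘ Points.map i from funext (Points.map_comp i f), Set.range_comp]
  have hcl : IsClosed (Points.map f '' Set.range (Points.map i)) := by
    rw [him, ← Set.image_univ]
    exact isClosedMap_of_isUnivClosedMor hY (huc i hZ hi hp) _ isClosed_univ
  refine ⟨hcl, ?_⟩
  have hclX : IsClosed (Set.range (Points.map i)) := by
    rw [← Set.image_univ]
    exact isClosedMap_of_isUnivClosedMor hX (isUnivClosedMor_of_closedImmersion hZ hX hi) _ isClosed_univ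
  obtain ⟨R, r, hR, hr, hrange, hred⟩ := exists_isRedInduced hX _ hclX
  have hpr : IsProperMor (r ≫ a) := isProperMor_of_closed_cover (ι := PUnit.{1}) hX hB hR (fun _ => hZ) ha hr
    (fun _ => i) (fun _ => hi) (by rw [hrange]; exact Set.subset_iUnion (fun _ : PUnit.{1} => Set.range (Points.map i)) ⟨⟩)
    fun _ => hp
  obtain ⟨Z', i', hZ', hs⟩ := exists_schImage hR hY (r ≫ f)
  obtain ⟨hi', hrange', -⟩ := isRedInduced_of_isSchImage hR hY hred hs
  have hT : Set.range (Points.map (r ≫ f)) = Points.map f '' Set.range (Points.map i) := by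
    rw [show Points.map (r ≫ f) = Points.map f ∘ Points.map r from funext (Points.map_comp r f), Set.range_comp,
      hrange]
  rw [hT, hcl.closure_eq] at hrange'
  obtain ⟨h', hh'⟩ := hs.2.1
  haveI := mono_of_closedImmersion hi'
  refine ⟨Z', i', hZ', hi', hrange', ?_⟩
  have he : IsUnivClosedMor h' := by
    refine univClosed_of_comp hR hZ' hY (g := i') (repWith_of_isIso _) ?_
    rw [hh']; exact huc r hR hr hpr
  refine isProperMor_of_cover (ι := PUnit.{1}) (fun _ => h') (fun w => ?_) hZ' hB (fun _ => hR)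
    (locP_comp hZ' hY hB (locP_of_repWith (repWith_mono
      (fun _ _ g (_ : IsClosedImmersion g) => (inferInstance : LocallyOfFiniteType g)) hi')) hb)
    (fun _ => he) fun _ => ?_
  · obtain ⟨x, hx⟩ : Points.map i' w ∈ Set.range (Points.map (r ≫ f)) := by
      rw [hT, ← hrange']; exact ⟨w, rfl⟩
    exact ⟨⟨⟩, x, injective_map_of_mono i' (by rw [← Points.map_comp, hh', hx])⟩
  · rw [← Category.assoc, hh', Category.assoc, hfb]
    exact hpr

end AlgSpRegLib
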