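import Groth.Agent.AlgSpLib.AffineFpqc
import Groth.Agent.AlgSpLib.FpqcMore
import Groth.Agent.RichLib.QuasiAffineMor
import Groth.Agent.AlgSpRegLib.ImageScheme

/-!
# fpqc descent of quasi-affine morphisms and quasi-compact immersions of algebraic spaces
-/

set_option autoImplicit false
set_option backward.isDefEq.respectTransparency false
set_option backward.isDefEq.respectTransparency.types false

universe u

open CategoryTheory CategoryTheory.Limits AlgebraicGeometry Opposite AlgSp AlgSpLib Topology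

namespace AlgSpRegLib

variable {S : Scheme.{u}}

open AlgSpLib.Datum in
/-- An algebraic space over an affine scheme which becomes quasi-affine after a faithfully flat affine base change
is quasi-affine. -/

theorem exists_quasiAffine_of_fpqc_base {T T' W' : Over S} {q : T' ⟶ T} {G : Sp S} (hG : IsAlgSpace G)
    {π : G ⟶ (yon S).obj T} {fst : (yon S).obj W' ⟶ G} {pW : W' ⟶ T'}
    (sq : IsPullback fst ((yon S).map pW) π ((yon S).map q))
    [IsAffine T.left] [IsAffine T'.left] [Flat q.left] [Surjective q.left] [W'.left.IsQuasiAffine] :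
    ∃ (W : Over S) (β : W ⟶ T) (e : (yon S).obj W ≅ G), W.left.IsQuasiAffine ∧ e.hom ≫ π = (yon S).map β := by
  obtain ⟨U, a, ha, has⟩ := hG.atlas
  have hd₀ : (d₀ sq).left ≫ pW.left = pullback.snd (pW.left ≫ q.left) q.left :=
    congrArg Over.Hom.left (d₀_pW sq)
  have hsec : pullback.lift (f := pW.left ≫ q.left) (g := q.left) (𝟙 W'.left) pW.left (Category.id_comp _) ≫
      (d₀ sq).left = 𝟙 _ := by
    obtain ⟨y, hy₁, hy₂⟩ := exists_pair sq (𝟙 W') (𝟙 W') rfl
    have : y.left = pullback.lift (f := pW.left ≫ q.left) (g := q.left) (𝟙 W'.left) pW.left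
        (Category.id_comp _) := pullback.hom_ext
      (by rw [pullback.lift_fst]; exact congrArg Over.Hom.left hy₁)
      (by
        rw [pullback.lift_snd]
        have h := congrArg Over.Hom.left (hy₂ =≫ pW)
        rw [Category.assoc, d₀_pW] at h
        simpa using h)
    rw [← this]; exact congrArg Over.Hom.left hy₂
  obtain ⟨Wb, β, h, w, hWb, hd, hop, -⟩ := exists_affine_descent q.left pW.left (d₀ sq).left hd₀ hsec (by
    intro Z y t w₁ w₂
    let Zo : Over S := Over.mk (t ≫ T'.hom)
    let yo : Zo ⟶ W₂ pW q := Over.homMk y (by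
      change y ≫ pullback.snd _ _ ≫ T'.hom = t ≫ T'.hom
      rw [← Over.w q, reassoc_of% hd₀.symm]
      simpa only [Category.assoc] using congrArg (· ≫ T.hom) w₁)
    let a : Zo ⟶ W₂ pW q := Over.homMk (pullback.lift (y ≫ (d₀ sq).left) t w₁) (by
      change pullback.lift _ _ _ ≫ pullback.snd _ _ ≫ T'.hom = _; rw [pullback.lift_snd_assoc]; rfl)
    let b : Zo ⟶ W₂ pW q := Over.homMk (pullback.lift (y ≫ pullback.fst _ _) t w₂) (by
      change pullback.lift _ _ _ ≫ pullback.snd _ _ ≫ T'.hom = _; rw [pullback.lift_snd_assoc]; rfl)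
    have ha₁ : a ≫ pr₁ pW q = yo ≫ d₀ sq := Over.OverMorphism.ext (pullback.lift_fst _ _ _)
    have hb₁ : b ≫ pr₁ pW q = yo ≫ pr₁ pW q := Over.OverMorphism.ext (pullback.lift_fst _ _ _)
    have ha₂ : a ≫ pr₂ pW q = b ≫ pr₂ pW q :=
      Over.OverMorphism.ext ((pullback.lift_snd _ _ _).trans (pullback.lift_snd _ _ _).symm)
    have : a ≫ d₀ sq = b ≫ d₀ sq := W'_ext sq
      (by rw [Category.assoc, Category.assoc, d₀_pW, ha₂])
      (by
        rw [Functor.map_comp, Functor.map_comp, Category.assoc, Category.assoc, d₀_fst, ← Category.assoc,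
          ← Category.assoc, ← Functor.map_comp, ← Functor.map_comp, ha₁, hb₁, Functor.map_comp,
          Functor.map_comp, Category.assoc, Category.assoc, d₀_fst])
    exact congrArg Over.Hom.left this)
  haveI := hWb
  let Wo : Over S := Over.mk (β ≫ T.hom)
  let Ho : W' ⟶ Wo := Over.homMk h (by
    change h ≫ β ≫ T.hom = W'.hom; rw [reassoc_of% w]; simp only [Over.w])
  let βo : Wo ⟶ T := Over.homMk β rfl
  have hHβ : Ho ≫ βo = pW ≫ q := Over.OverMorphism.ext w
  -- two points of `W'` with the same image agree in `Wo`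
  have hHo : ∀ {Z : Over S} (b b' : Z ⟶ W'), (yon S).map b ≫ fst = (yon S).map b' ≫ fst → b ≫ Ho = b' ≫ Ho := by
    intro Z b b' hbb
    obtain ⟨y, rfl, rfl⟩ := exists_pair sq b b' hbb
    refine Over.OverMorphism.ext ?_
    simp only [Over.comp_left, Category.assoc]
    exact congrArg (y.left ≫ ·) hd.symm
  -- the atlas and its base change
  obtain ⟨u, hu⟩ := (yon S).map_surjective (a ≫ π)
  let U' : Over S := Over.mk (pullback.fst u.left q.left ≫ U.hom)
  let r : U' ⟶ U := Over.homMk (pullback.fst u.left q.left) rfl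
  let u' : U' ⟶ T' := Over.homMk (pullback.snd u.left q.left) (by
    change pullback.snd _ _ ≫ T'.hom = pullback.fst _ _ ≫ U.hom
    rw [← Over.w q, ← Over.w u, pullback.condition_assoc])
  have sqU : IsPullback r u' u q := isPullback_over (IsPullback.of_hasPullback u.left q.left)
  have sqU' : IsPullback ((yon S).map r) ((yon S).map u') (a ≫ π) ((yon S).map q) := hu ▸ sqU.map (yon S)
  obtain ⟨r', hr'⟩ := (yon S).map_surjective (sq.lift ((yon S).map r ≫ a) ((yon S).map u')
    (by rw [Category.assoc, sqU'.w]))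
  have hr'f : (yon S).map r' ≫ fst = (yon S).map r ≫ a := by rw [hr']; exact sq.lift_fst _ _ _
  have hr'p : (yon S).map r' ≫ (yon S).map pW = (yon S).map u' := by rw [hr']; exact sq.lift_snd _ _ _
  haveI : Flat r.left := inferInstanceAs (Flat (pullback.fst u.left q.left))
  haveI : Surjective r.left := inferInstanceAs (Surjective (pullback.fst u.left q.left))
  haveI : QuasiCompact r.left := inferInstanceAs (QuasiCompact (pullback.fst u.left q.left))
  -- descend along `r`
  have hker : ∀ {Z : Scheme.{u}} (g₁ g₂ : Z ⟶ U'.left), g₁ ≫ r.left = g₂ ≫ r.left →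
      g₁ ≫ (r' ≫ Ho).left = g₂ ≫ (r' ≫ Ho).left := by
    intro Z g₁ g₂ e
    let Zo : Over S := Over.mk (g₁ ≫ U'.hom)
    let c₁ : Zo ⟶ U' := Over.homMk g₁ rfl
    let c₂ : Zo ⟶ U' := Over.homMk g₂ (by
      change g₂ ≫ U'.hom = g₁ ≫ U'.hom
      rw [← Over.w r, ← Category.assoc, ← e, Category.assoc])
    have ec : c₁ ≫ r = c₂ ≫ r := Over.OverMorphism.ext e
    have := hHo (c₁ ≫ r') (c₂ ≫ r') (by
      rw [Functor.map_comp, Functor.map_comp, Category.assoc, Category.assoc, hr'f, ← Functor.map_comp_assoc, ec,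
        Functor.map_comp_assoc])
    exact congrArg Over.Hom.left (((Category.assoc _ _ _).symm.trans this).trans (Category.assoc _ _ _))
  let x₀ := EffectiveEpi.desc r.left (r' ≫ Ho).left hker
  have hx₀ : r.left ≫ x₀ = (r' ≫ Ho).left := EffectiveEpi.fac r.left _ hker
  let x : U ⟶ Wo := Over.homMk x₀ (by
    rw [← cancel_epi r.left, ← Category.assoc, hx₀]
    exact (Over.w (r' ≫ Ho)).trans (Over.w r).symm)
  have hx : r ≫ x = r' ≫ Ho := Over.OverMorphism.ext hx₀
  obtain ⟨k, hk⟩ := exists_desc_of_atlas ha has ((yon S).map x) fun Z g g' hgg => by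
    rw [← Functor.map_comp, ← Functor.map_comp]
    refine congrArg _ (Over.OverMorphism.ext ?_)
    let Z' : Over S := Over.mk (pullback.fst (g ≫ u).left q.left ≫ Z.hom)
    let z : Z' ⟶ Z := Over.homMk (pullback.fst (g ≫ u).left q.left) rfl
    let z' : Z' ⟶ T' := Over.homMk (pullback.snd (g ≫ u).left q.left) (by
      change pullback.snd _ _ ≫ T'.hom = pullback.fst _ _ ≫ Z.hom
      rw [← Over.w q, ← Over.w (g ≫ u), pullback.condition_assoc])
    have hz : (z ≫ g) ≫ u = z' ≫ q := Over.OverMorphism.ext (by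
      simp only [Over.comp_left, Category.assoc]
      exact pullback.condition)
    have hgu : g ≫ u = g' ≫ u := (yon S).map_injective (by
      rw [Functor.map_comp, Functor.map_comp, hu, ← Category.assoc, hgg, Category.assoc])
    have hz2 : (z ≫ g') ≫ u = z' ≫ q := by rw [← hz, Category.assoc, Category.assoc, hgu]
    let b := sqU.lift (z ≫ g) z' hz
    let b' := sqU.lift (z ≫ g') z' hz2
    have hb : b ≫ r = z ≫ g := sqU.lift_fst _ _ _
    have hb' : b' ≫ r = z ≫ g' := sqU.lift_fst _ _ _
    have := hHo (b ≫ r') (b' ≫ r') (by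
      rw [Functor.map_comp, Functor.map_comp, Category.assoc, Category.assoc, hr'f, ← Functor.map_comp_assoc,
        ← Functor.map_comp_assoc, hb, hb', Functor.map_comp, Functor.map_comp, Category.assoc, Category.assoc, hgg])
    rw [Category.assoc, Category.assoc, ← hx, ← Category.assoc, ← Category.assoc, hb, hb'] at this
    have key := congrArg Over.Hom.left this
    haveI : Flat z.left := inferInstanceAs (Flat (pullback.fst _ _))
    haveI : Surjective z.left := inferInstanceAs (Surjective (pullback.fst _ _))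
    haveI : QuasiCompact z.left := inferInstanceAs (QuasiCompact (pullback.fst _ _))
    rw [← cancel_epi z.left]
    simpa only [Over.comp_left, Category.assoc] using key
  have hkπ : k ≫ (yon S).map βo = π := by
    apply hom_ext_of_atlas ha has
    rw [← Category.assoc, hk, ← Functor.map_comp, ← hu]
    refine congrArg _ (Over.OverMorphism.ext ?_)
    rw [← cancel_epi r.left, ← Over.comp_left, ← Over.comp_left, ← Category.assoc, hx, Category.assoc, hHβ,
      ← Category.assoc, sqU.w]
    refine congrArg Over.Hom.left ((yon S).map_injective ?_)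
    rw [Functor.map_comp, Functor.map_comp, Functor.map_comp, hr'p]
  have hfk : fst ≫ k = (yon S).map Ho := by
    have sqa : IsPullback ((yon S).map r) ((yon S).map r') a fst :=
      IsPullback.of_bot (by rw [hr'p]; exact sqU') hr'f.symm sq
    refine hom_ext_of_atlas (a := (yon S).map r') (repWith_of_isPullback sqa ha) (repWith_of_isPullback sqa has) ?_
    rw [← Category.assoc, hr'f, Category.assoc, hk, ← Functor.map_comp, hx, Functor.map_comp]
  let Po : Over S := Over.mk (pullback.fst β q.left ≫ Wo.hom)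
  let prP : Po ⟶ Wo := Over.homMk (pullback.fst β q.left) rfl
  let prT : Po ⟶ T' := Over.homMk (pullback.snd β q.left) (by
    change pullback.snd _ _ ≫ T'.hom = pullback.fst _ _ ≫ β ≫ T.hom
    rw [← Over.w q, pullback.condition_assoc])
  have bot : IsPullback prP prT βo q := isPullback_over (IsPullback.of_hasPullback β q.left)
  let kk : W' ⟶ Po := Over.homMk (pullback.lift h pW.left w) (by
    change pullback.lift _ _ _ ≫ pullback.fst _ _ ≫ Wo.hom = W'.hom
    rw [pullback.lift_fst_assoc]; exact Over.w Ho)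
  have hkk₁ : kk ≫ prP = Ho := Over.OverMorphism.ext (pullback.lift_fst _ _ _)
  have hkk₂ : kk ≫ prT = pW := Over.OverMorphism.ext (pullback.lift_snd _ _ _)
  have top : IsPullback fst ((yon S).map kk) k ((yon S).map prP) :=
    IsPullback.of_bot (by rw [← Functor.map_comp, hkk₂, hkπ]; exact sq)
      (by rw [hfk, ← Functor.map_comp, hkk₁]) (bot.map (yon S))
  haveI : IsOpenImmersion kk.left := hop
  have hkk : RepWith @IsOpenImmersion ((yon S).map kk) := (repWith_yon_map_iff _ _).2 hop
  have hqc : RepWith @QuasiCompact ((yon S).map prP) :=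
    (repWith_yon_map_iff _ _).2 (inferInstanceAs (QuasiCompact (pullback.fst β q.left)))
  have hWo := IsAlgSpace.yon_obj (S := S) Wo
  have hPo := IsAlgSpace.yon_obj (S := S) Po
  have hcov := isFpqcCover_singleton hPo hWo (f := (yon S).map prP)
    ((locP_yon_map_iff _).2 (inferInstanceAs (Flat (pullback.fst β q.left))))
    (isQuasiCompactMor_of_repWith hPo hWo hqc)
    (map_surjective_of_repWith ((repWith_yon_map_iff _ _).2 (inferInstanceAs (Surjective (pullback.fst β q.left)))))
  have hk' : RepWith @IsOpenImmersion k := (isLocalOnBase_fpqc_repWith_openImmersion S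
    (fun _ : PUnit.{u + 1} => _) (fun _ => (yon S).map prP) hWo
    (fun _ => hPo) hcov k hG _ (fun _ => (yon S).map kk) (fun _ => fst) (fun _ => IsAlgSpace.yon_obj _)
    fun _ => top).2 fun _ => hkk
  have sqk := hk'.rep.isPullback (𝟙 ((yon S).obj Wo))
  haveI : IsIso (hk'.rep.fst (𝟙 ((yon S).obj Wo))) := sqk.isIso_fst_of_isIso
  let j : hk'.rep.pullback (𝟙 ((yon S).obj Wo)) ⟶ Wo := hk'.rep.snd (𝟙 _)
  haveI : IsOpenImmersion j.left := hk'.property_snd _
  obtain ⟨c, hc⟩ := (yon S).map_surjective (fst ≫ inv (hk'.rep.fst (𝟙 ((yon S).obj Wo))))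
  have hcs : RepWith @Surjective ((yon S).map c) := by
    have h1 : RepWith @Surjective fst := repWith_of_isPullback sq.flip
      ((repWith_yon_map_iff _ _).2 ‹Surjective q.left›)
    rw [hc]
    exact repWith_comp h1 (repWith_of_isIso _)
  haveI : Surjective c.left := surjective_left hcs
  haveI : CompactSpace (hk'.rep.pullback (𝟙 ((yon S).obj Wo))).left :=
    Function.Surjective.compactSpace c.left.continuous c.left.surjective
  haveI : IsAffine Wo.left := hWb
  refine ⟨_, j ≫ βo, asIso (hk'.rep.fst (𝟙 ((yon S).obj Wo))), .of_isImmersion j.left, ?_⟩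
  rw [asIso_hom, Functor.map_comp, ← hkπ, ← Category.assoc, sqk.w, Category.comp_id]

/-- A quasi-affine morphism is representable. -/
theorem representable_of_quasiAffine {F G : Sp S} {f : F ⟶ G} (h : IsQuasiAffineMor f) : Representable f := by
  intro T ξ
  let 𝒰 := T.left.affineCover
  let U : 𝒰.I₀ → Over S := fun k => Over.mk (𝒰.f k ≫ T.hom)
  let j : ∀ k, U k ⟶ T := fun k => Over.homMk (𝒰.f k) rfl
  have hG := IsPullback.of_hasPullback f ξ
  choose W i a ha hW using fun k => h (Z := U k) (inferInstanceAs (IsAffine (𝒰.X k))) ((yon S).map (j k) ≫ ξ)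
  let b : ∀ k, (yon S).obj (W k) ⟶ pullback f ξ := fun k => hG.lift (a k) ((yon S).map (i k) ≫ (yon S).map (j k))
    (by rw [(ha k).w, Category.assoc])
  have sqb : ∀ k, IsPullback (b k) ((yon S).map (i k)) (pullback.snd f ξ) ((yon S).map (j k)) := fun k =>
    IsPullback.of_right (by rw [IsPullback.lift_fst]; exact ha k) (IsPullback.lift_snd _ _ _ _) hG
  obtain ⟨V, ⟨e⟩⟩ := isRepSh_of_zariski_base (pullback.snd f ξ) j
    (fun k => (inferInstance : IsOpenImmersion (𝒰.f k))) (fun t => ⟨_, 𝒰.covers t⟩) b sqb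
  obtain ⟨s, hs⟩ := (yon S).map_surjective (e.hom ≫ pullback.snd f ξ)
  exact ⟨V, s, e.hom ≫ pullback.fst f ξ, hG.of_iso e.symm (Iso.refl _) (Iso.refl _) (Iso.refl _)
    (by simp) (by simp [hs]) (by simp) (by simp)⟩

/-- An fpqc covering is refined over an affine scheme by a faithfully flat affine scheme covered by affine opens
lifting to the covering. -/
theorem exists_affine_refinement_affines {ι : Type u} {Y : Sp S} {Yi : ι → Sp S} {g : ∀ i, Yi i ⟶ Y}
    (hτ : IsFpqcCover Yi g) (Z : Over S) [IsAffine Z.left] (h : (yon S).obj Z ⟶ Y) :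
    ∃ (W : Over S) (c : W ⟶ Z) (J : Type u) (Wj : J → Over S) (s : ∀ j, Wj j ⟶ W),
      IsAffine W.left ∧ Flat c.left ∧ Surjective c.left ∧ (∀ j, IsAffine (Wj j).left) ∧
      (∀ j, IsOpenImmersion (s j).left) ∧ (∀ w : W.left, ∃ j, w ∈ Set.range (s j).left) ∧
      ∀ j, ∃ (i : ι) (l : (yon S).obj (Wj j) ⟶ Yi i), l ≫ g i = (yon S).map (s j ≫ c) ≫ h := by
  obtain ⟨W, c, J, Wj, s, hW, hc, hcs, hso, hss, hl⟩ := exists_affine_refinement hτ Z h
  let 𝒰 := fun j => (Wj j).left.affineCover
  let J' := Σ j, (𝒰 j).I₀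
  let Wj' : J' → Over S := fun j => Over.mk ((𝒰 j.1).f j.2 ≫ (Wj j.1).hom)
  let t : ∀ j : J', Wj' j ⟶ Wj j.1 := fun j => Over.homMk ((𝒰 j.1).f j.2) rfl
  refine ⟨W, c, J', Wj', fun j => t j ≫ s j.1, hW, hc, hcs, fun j => inferInstanceAs (IsAffine ((𝒰 j.1).X j.2)),
    fun j => ?_, fun w => ?_, fun j => ?_⟩
  · haveI := hso j.1
    exact inferInstanceAs (IsOpenImmersion ((𝒰 j.1).f j.2 ≫ (s j.1).left))
  · obtain ⟨j, y, rfl⟩ := hss w
    obtain ⟨z, hz⟩ := (𝒰 j).covers y
    exact ⟨⟨j, _⟩, z, congrArg (s j).left hz⟩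
  · obtain ⟨i, l, e⟩ := hl j.1
    exact ⟨i, (yon S).map (t j) ≫ l, by
      simp only [Category.assoc, e]
      simp only [Functor.map_comp, Category.assoc]⟩

/-- Quasi-affine morphisms are detected on an fpqc covering. -/
theorem isQuasiAffineMor_of_fpqc {ι : Type u} {Y : Sp S} (hY : IsAlgSpace Y) {Yi : ι → Sp S} {g : ∀ i, Yi i ⟶ Y}
    (hτ : IsFpqcCover Yi g) {X : Sp S} (hX : IsAlgSpace X) {f : X ⟶ Y}
    {Xi : ι → Sp S} {p : ∀ i, Xi i ⟶ Yi i} {q : ∀ i, Xi i ⟶ X} (sq : ∀ i, IsPullback (q i) (p i) f (g i))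
    (h : ∀ i, IsQuasiAffineMor (p i)) : IsQuasiAffineMor f := by
  intro Z hZ k
  haveI : IsAffine Z.left := hZ
  obtain ⟨E, c, J, Wj, s, hE, hc, hcs, hWj, hso, hss, hl⟩ := exists_affine_refinement_affines hτ Z k
  haveI := hE; haveI := hc; haveI := hcs
  have sqG := IsPullback.of_hasPullback f k
  have hG : IsAlgSpace (pullback f k) := isAlgSpace_pullback hX (IsAlgSpace.yon_obj Z) hY f k
  let G' := pullback (pullback.snd f k) ((yon S).map c)
  have sqE := IsPullback.of_hasPullback (pullback.snd f k) ((yon S).map c)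
  have hloc : ∀ j, ∃ (V : Over S) (i : V ⟶ Wj j) (b : (yon S).obj V ⟶ G'),
      IsPullback b ((yon S).map i) (pullback.snd (pullback.snd f k) ((yon S).map c)) ((yon S).map (s j)) ∧
        V.left.IsQuasiAffine := fun j => by
    obtain ⟨m, l, e⟩ := hl j
    obtain ⟨V, i, a, ha, hV⟩ := h m (hWj j) l
    have big := ha.paste_horiz (sq m)
    rw [e, Functor.map_comp, Category.assoc] at big
    have big' := sqE.paste_horiz sqG
    refine ⟨V, i, big'.lift (a ≫ q m) ((yon S).map i ≫ (yon S).map (s j))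
      (by rw [big.w, Category.assoc]), ?_, hV⟩
    exact IsPullback.of_right (by rw [IsPullback.lift_fst]; exact big) (IsPullback.lift_snd _ _ _ _) big'
  choose V i b sqb hi using hloc
  obtain ⟨W', ⟨e⟩⟩ := isRepSh_of_zariski_base (pullback.snd (pullback.snd f k) ((yon S).map c)) s hso hss b sqb
  obtain ⟨pW, hpW⟩ := (yon S).map_surjective (e.hom ≫ pullback.snd (pullback.snd f k) ((yon S).map c))
  have sqW : IsPullback (e.hom ≫ pullback.fst (pullback.snd f k) ((yon S).map c)) ((yon S).map pW)
      (pullback.snd f k) ((yon S).map c) :=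
    sqE.of_iso e.symm (Iso.refl _) (Iso.refl _) (Iso.refl _) (by simp) (by simp [hpW]) (by simp) (by simp)
  haveI : W'.left.IsQuasiAffine := by
    refine RichLib.QA.isQuasiAffine_of_cover pW.left (fun j => haveI := hso j; (s j).left.opensRange) ?_
      fun j => ?_
    · exact TopologicalSpace.Opens.ext (Set.eq_univ_of_forall fun w => by
        rw [TopologicalSpace.Opens.coe_iSup]; obtain ⟨j, hj⟩ := hss w; exact Set.mem_iUnion.2 ⟨j, hj⟩)
    · haveI := hso j
      have sqb' : IsPullback (b j ≫ e.inv) ((yon S).map (i j)) ((yon S).map pW) ((yon S).map (s j)) :=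
        (sqb j).of_iso (Iso.refl _) e.symm (Iso.refl _) (Iso.refl _) (by simp) (by simp) (by simp [hpW]) (by simp)
      obtain ⟨b', hb'⟩ := (yon S).map_surjective (b j ≫ e.inv)
      rw [← hb'] at sqb'
      have sqS : IsPullback b'.left (i j).left pW.left (s j).left := isPullback_left sqb'
      let φ := Arrow.leftFunc.mapIso (morphismRestrictOpensRange pW.left (s j).left) ≪≫ sqS.isoPullback.symm
      haveI := hi j
      exact RichLib.QA.isQuasiAffine_of_iso φ.hom
  obtain ⟨W, β, e', hW, he'⟩ := exists_quasiAffine_of_fpqc_base hG sqW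
  exact ⟨W, β, e'.hom ≫ pullback.fst f k, sqG.of_iso e'.symm (Iso.refl _) (Iso.refl _) (Iso.refl _)
    (by simp) (by simp [← he']) (by simp) (by simp), hW⟩

theorem isLocalOnBase_fpqc_isQuasiAffineMor (S : Scheme.{u}) :
    IsLocalOnBase (IsFpqcCover (S := S)) IsQuasiAffineMor := by
  intro ι Y Yi g hY hYi hτ X f hX Xi p q hXi sq
  refine ⟨fun hf i Z hZ k => ?_, fun h => isQuasiAffineMor_of_fpqc hY hτ hX sq h⟩
  obtain ⟨W, j, fst, sqW, hW⟩ := hf hZ (k ≫ g i)
  have hl := (sq i).lift fst ((yon S).map j ≫ k) (by rw [sqW.w, Category.assoc])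
  refine ⟨W, j, (sq i).lift fst ((yon S).map j ≫ k) (by rw [sqW.w, Category.assoc]), ?_, hW⟩
  exact IsPullback.of_right (by rw [IsPullback.lift_fst]; exact sqW) (IsPullback.lift_snd _ _ _ _) (sq i)

end AlgSpRegLib
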