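import Groth.Agent.AlgSpRegLib.OneChart
import Groth.Agent.RegImmKindLib.H1Descent
import Groth.Agent.KRLib.ImmFlat
import Groth.Agent.AlgStLib.ImmDescent
import Groth.Agent.S8906
/-!
# Regular immersions descend along etale surjections
-/

set_option autoImplicit false
set_option backward.isDefEq.respectTransparency false
set_option backward.isDefEq.respectTransparency.types false

universe u

open CategoryTheory CategoryTheory.Limits AlgebraicGeometry Opposite RegImm

namespace AlgSpRegLib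

/-- Descent of a regular immersion (not of kind `regular`) along a flat open surjection. -/
theorem isRegularImmersion_of_open_baseChange {Z X X' : Scheme.{u}} (i : Z ⟶ X) [IsImmersion i] (g : X' ⟶ X)
    [Flat g] [Surjective g] (hg : IsOpenMap g) (k : RegImm.Kind) (hk : k ≠ RegImm.Kind.regular)
    {Z' : Scheme.{u}} {g' : Z' ⟶ Z} {i' : Z' ⟶ X'} (sq : IsPullback g' i' i g)
    (h : RegImm.IsRegularImmersion k i') : RegImm.IsRegularImmersion k i := by
  refine ⟨inferInstance, fun z => ?_⟩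
  obtain ⟨U, hU, hzU, hUc⟩ := exists_isAffineOpen_mem_and_subset
    (show i z ∈ i.coborderRange from subset_coborder ⟨z, rfl⟩)
  obtain ⟨hUY, hs⟩ := KRLib.data_of_le_coborderRange i hU hUc
  refine RegImmKindLib.isRegularImmersionAt_of_locK hk hU hUY hs ?_ z hzU
  let J := {W : X'.affineOpens // W.1 ≤ g ⁻¹ᵁ U}
  have hopen : ∀ W : J, IsOpen (g '' (W.1.1 : Set X')) := fun W => hg _ W.1.1.isOpen
  have hcov : (U : Set X) ⊆ ⋃ W : J, g '' (W.1.1 : Set X') := by
    intro x hx
    obtain ⟨s, rfl⟩ := g.surjective x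
    obtain ⟨W, hW, hsW, hWU⟩ := exists_isAffineOpen_mem_and_subset (show s ∈ g ⁻¹ᵁ U from hx)
    exact Set.mem_iUnion.mpr ⟨⟨⟨W, hW⟩, hWU⟩, s, hsW, rfl⟩
  obtain ⟨t, ht⟩ := hU.isCompact.elim_finite_subcover _ hopen hcov
  letI : ∀ W : t, Algebra Γ(X, U) Γ(X', W.1.1.1) := fun W => (g.appLE U W.1.1.1 W.1.2).hom.toAlgebra
  haveI : ∀ W : t, Module.Flat Γ(X, U) Γ(X', W.1.1.1) := fun W => g.flat_appLE hU W.1.1.2 W.1.2
  refine RegImmKindLib.LocK.of_jointly hk (fun W : t => Γ(X', W.1.1.1)) ?_ ?_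
  · intro p
    have hp : hU.fromSpec p ∈ (U : Set X) := by
      rw [← hU.range_fromSpec]; exact ⟨p, rfl⟩
    obtain ⟨W, hW⟩ := Set.mem_iUnion.mp (ht hp)
    obtain ⟨hWt, s, hsW, hs'⟩ := Set.mem_iUnion.mp hW
    obtain ⟨q, hq⟩ : ∃ q, W.1.2.fromSpec q = s := by
      rw [← Set.mem_range, W.1.2.range_fromSpec]; exact hsW
    refine ⟨⟨W, hWt⟩, q, hU.fromSpec.isOpenEmbedding.injective ?_⟩
    have e := IsAffineOpen.SpecMap_appLE_fromSpec g hU W.1.2 W.2
    have h2 := congrArg (fun φ : Spec Γ(X', W.1.1) ⟶ X => φ q) e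
    simp only [Scheme.Hom.comp_apply] at h2
    rw [hq, hs'] at h2
    exact h2
  · intro W
    obtain ⟨h1, h2, h3⟩ := KRLib.baseChange_data sq hU hUY hs W.1.1.2 W.1.2
    have := RegImmKindLib.locK_ker_of_forall hk h.2 W.1.1.2 h1 h2
    rw [h3] at this
    exact this

theorem isImmersion_of_etale {A B A' B' : Scheme.{u}} {f : A ⟶ B} {g : B' ⟶ B} {g' : A' ⟶ A} {f' : A' ⟶ B'}
    (sq : IsPullback g' f' f g) [Etale g] [Surjective g] (h : IsImmersion f') : IsImmersion f :=
  MorphismProperty.of_isPullback_of_descendsAlong (P := @IsImmersion)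
    (Q := @Surjective ⊓ @Flat ⊓ @LocallyOfFinitePresentation) sq.flip ⟨⟨‹_›, inferInstance⟩, inferInstance⟩ h

theorem isRegularImmersion_iso_comp (k : RegImm.Kind) {Z' Z X : Scheme.{u}} (e : Z' ⟶ Z) [IsIso e] (i : Z ⟶ X)
    (h : RegImm.IsRegularImmersion k i) : RegImm.IsRegularImmersion k (e ≫ i) := by
  haveI := h.1
  refine ⟨inferInstance, fun z => ?_⟩
  obtain ⟨U, hU, hc, rs, hseq, hker⟩ := h.2 (e z)
  refine ⟨U, by simpa using hU, ?_, rs, hseq, ?_⟩
  · rw [morphismRestrict_comp]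
    exact MorphismProperty.RespectsIso.precomp @IsClosedImmersion (e ∣_ (i ⁻¹ᵁ U.1)) _ hc
  · rw [← hker]
    ext s
    simp only [RingHom.mem_ker, Scheme.Hom.comp_app, CommRingCat.hom_comp, RingHom.coe_comp, Function.comp_apply]
    exact map_eq_zero_iff _ (ConcreteCategory.bijective_of_isIso (e.app (i ⁻¹ᵁ U.1))).1

instance respectsIso_regImm (k : RegImm.Kind) : (AlgSp.regImm.{u} k).RespectsIso := by
  refine MorphismProperty.RespectsIso.mk _ (fun e f hf => isRegularImmersion_iso_comp k e.hom f hf) ?_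
  intro Z X Y e i hi
  have := Groth.Agent.S8906.result i k hi e.inv
  have sq : IsPullback (𝟙 Z) (i ≫ e.hom) i e.inv := IsPullback.of_horiz_isIso ⟨by simp⟩
  rw [← sq.isoPullback_hom_snd]
  exact isRegularImmersion_iso_comp k _ _ this

theorem stableEtBC_regImm (k : RegImm.Kind) : StableEtBC (AlgSp.regImm k) := by
  intro A B A' B' f g g' f' sq hg hf
  haveI := hg
  have := Groth.Agent.S8906.result f k hf g
  rw [← sq.isoPullback_hom_snd]
  exact isRegularImmersion_iso_comp k _ _ this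

theorem descendsEt_regImm (k : RegImm.Kind) (hk : k ≠ RegImm.Kind.regular) : DescendsEt (AlgSp.regImm k) := by
  intro A B A' B' f g g' f' sq hg hgs hf'
  haveI := hg
  haveI := hgs
  haveI := isImmersion_of_etale sq hf'.1
  exact isRegularImmersion_of_open_baseChange f g (Scheme.Hom.isOpenMap g) k hk sq hf'

end AlgSpRegLib
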