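import Groth.Agent.AlgSpRegLib.DivisorLocal
import Groth.Agent.S1662
/-!
# Base change of effective Cartier divisors flat over the base
-/

set_option autoImplicit false
set_option backward.isDefEq.respectTransparency false
set_option backward.isDefEq.respectTransparency.types false

universe u

open CategoryTheory CategoryTheory.Limits AlgebraicGeometry Opposite AlgSp

namespace AlgSpRegLib

variable {S : Scheme.{u}}

theorem isEffCartierSub_baseChange {X Y D Y' X' D' : Sp S} (hX : IsAlgSpace X) (hY : IsAlgSpace Y)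
    (hY' : IsAlgSpace Y') {f : X ⟶ Y} {i : D ⟶ X} (hD : IsEffCartierSub i) (hflat : LocP @Flat (i ≫ f))
    {g : Y' ⟶ Y} {g' : X' ⟶ X} {f' : X' ⟶ Y'} (hX' : IsPullback g' f' f g) {k : D' ⟶ D} {i' : D' ⟶ X'}
    (hD' : IsPullback k i' i g') : IsEffCartierSub i' := by
  have hi := hD.1
  obtain ⟨V, b, hb, hbs⟩ := hY.atlas
  -- a chart of `X ×_Y V`
  have sqQ := IsPullback.of_hasPullback f b
  obtain ⟨U, p, hp, hps⟩ := (AlgSpLib.isAlgSpace_pullback hX (IsAlgSpace.yon_obj V) hY f b).atlas
  obtain ⟨h, hh⟩ := (yon S).map_surjective (p ≫ pullback.snd f b)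
  let a := p ≫ pullback.fst f b
  have ha : RepWith @Etale a := AlgSpLib.repWith_comp hp (AlgSpLib.repWith_of_isPullback sqQ.flip hb)
  have has : RepWith @Surjective a := AlgSpLib.repWith_comp hps (AlgSpLib.repWith_of_isPullback sqQ.flip hbs)
  obtain ⟨J, q, sqJ⟩ := exists_ideal hi a
  have hJ : BlowUp.IsEffCartierIdeal J := (isEffCartierSub_iff hX hi).1 hD U a ha J q sqJ
  haveI : Flat (J.subschemeι ≫ h.left) := hflat q b
    ((Over.homMk J.subschemeι rfl : Over.mk (J.subschemeι ≫ U.hom) ⟶ U) ≫ h)
    (AlgSpLib.repWith_of_isPullback sqJ.flip ha) hb (by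
      rw [← Category.assoc, sqJ.w, Functor.map_comp, hh]; simp [a, pullback.condition])
  -- a chart of `Y'` over `V`
  obtain ⟨V', b', hb', hbs'⟩ := hY'.atlas
  obtain ⟨T, t, t', sqT⟩ := AlgSpLib.exists_isPullback_yon b (b' ≫ g) hb.rep
  haveI : Etale t'.left := AlgSpLib.etale_left (AlgSpLib.repWith_of_isPullback sqT hb)
  haveI : Surjective t'.left := AlgSpLib.surjective_left (AlgSpLib.repWith_of_isPullback sqT hbs)
  let c := (yon S).map t' ≫ b'
  have hc : RepWith @Etale c := AlgSpLib.repWith_comp ((repWith_yon_map_iff @Etale t').2 ‹_›) hb'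
  have hcs : RepWith @Surjective c := AlgSpLib.repWith_comp ((repWith_yon_map_iff @Surjective t').2 ‹_›) hbs'
  have hw : (yon S).map t ≫ b = c ≫ g := by rw [Category.assoc]; exact sqT.w
  have sq' := IsPullback.of_hasPullback f ((yon S).map t ≫ b)
  let r : pullback f ((yon S).map t ≫ b) ⟶ pullback f b := sqQ.lift (pullback.fst _ _)
    (pullback.snd _ _ ≫ (yon S).map t) (by rw [Category.assoc]; exact sq'.w)
  have sqr : IsPullback r (pullback.snd _ _) (pullback.snd f b) ((yon S).map t) :=
    IsPullback.of_right (by rw [sqQ.lift_fst]; exact sq') (sqQ.lift_snd _ _ _) sqQ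
  have sqW := (IsPullback.of_hasPullback h t).map (yon S)
  rw [hh] at sqW
  let l := sqr.lift ((yon S).map (pullback.fst h t) ≫ p) ((yon S).map (pullback.snd h t))
    (by rw [Category.assoc]; exact sqW.w)
  have sql : IsPullback ((yon S).map (pullback.fst h t)) l p r :=
    IsPullback.of_bot (by rw [sqr.lift_snd]; exact sqW) (sqr.lift_fst _ _ _).symm sqr
  let r' : pullback f ((yon S).map t ≫ b) ⟶ X' := hX'.lift (pullback.fst _ _) (pullback.snd _ _ ≫ c)
    (by rw [Category.assoc, ← hw]; exact sq'.w)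
  have sqr' : IsPullback r' (pullback.snd _ _) f' c :=
    IsPullback.of_right (by rw [hX'.lift_fst, ← hw]; exact sq') (hX'.lift_snd _ _ _) hX'
  let m := l ≫ r'
  have hm : RepWith @Etale m := AlgSpLib.repWith_comp (AlgSpLib.repWith_of_isPullback sql hp)
    (AlgSpLib.repWith_of_isPullback sqr'.flip hc)
  have hms : RepWith @Surjective m := AlgSpLib.repWith_comp (AlgSpLib.repWith_of_isPullback sql hps)
    (AlgSpLib.repWith_of_isPullback sqr'.flip hcs)
  have hma : m ≫ g' = (yon S).map (pullback.fst h t) ≫ a := by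
    have e : l ≫ r = (yon S).map (pullback.fst h t) ≫ p := sqr.lift_fst _ _ _
    calc m ≫ g' = l ≫ r ≫ pullback.fst f b := by
          rw [Category.assoc, hX'.lift_fst, sqQ.lift_fst]
      _ = _ := by rw [← Category.assoc, e, Category.assoc]
  have hi' : RepWith @IsClosedImmersion i' := AlgSpLib.repWith_of_isPullback hD' hi
  obtain ⟨K, qK, sqK⟩ := exists_ideal hi' m
  have hK : K = J.comap (pullback.fst h t).left := by
    have e := comap_ideal_eq (sqK.paste_horiz hD') sqJ (𝟙 _) (pullback.fst h t)
      (by rw [CategoryTheory.Functor.map_id, Category.id_comp, hma])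
    simpa using! e
  have hK' : BlowUp.IsEffCartierIdeal K := by
    have sqL : IsPullback (pullback.fst h t).left (pullback.snd h t).left h.left t.left :=
      (IsPullback.of_hasPullback h t).map (Over.forget S)
    rw [hK, ← sqL.isoPullback_hom_fst, Scheme.IdealSheafData.comap_comp]
    exact BlowUpLib.isEffCartier_comap_of_flat _ (Groth.Agent.S1662.result h.left J hJ t.left)
  exact ⟨hi', _, m, K, qK, hm, hms, sqK, hK'⟩

end AlgSpRegLib
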