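import Groth.Agent.HenselBranchLib.EtCovBase
import Groth.Agent.HenselLib.LocalCover
import Groth.Agent.S0536
import Mathlib.RingTheory.Unramified.Field
import Mathlib.FieldTheory.IsSepClosed

/-!
# Lifting etale algebras with a geometric point into the strict henselization
-/

set_option autoImplicit false
set_option linter.style.haveILetI false
universe u

open IsLocalRing TensorProduct

noncomputable section

namespace AlgSpRegLib

variable {A : Type u} [CommRing A] (p : Ideal A) [p.IsPrime]

/-- The strict henselization at a prime. -/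
abbrev ShAt : Type u := HenselLib.SH (Localization.AtPrime p)

/-- The structure map of the strict henselization at a prime. -/
def shι : A →+* ShAt p :=
  (algebraMap (Localization.AtPrime p) (ShAt p)).comp (algebraMap A (Localization.AtPrime p))

theorem flat_shι : (shι p).Flat :=
  (RingHom.flat_algebraMap_iff.2 (inferInstance : Module.Flat A (Localization.AtPrime p))).comp
    (RingHom.flat_algebraMap_iff.2 (HenselLib.flat_hens (HenselLib.ker_scθ _)))

variable {K : Type u} [Field K] [IsAlgClosed K] {ε : A →+* K} (hε : RingHom.ker ε = p)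

include hε in
theorem exists_shPoint : ∃ φ : ShAt p →+* K, φ.comp (shι p) = ε ∧ RingHom.ker φ = maximalIdeal (ShAt p) ∧
    ∀ (B : Type u) [CommRing B] [Algebra A B] [Algebra.Etale A B] (χ : B →+* K),
      χ.comp (algebraMap A B) = ε → Set.range χ ⊆ Set.range φ := by
  let R := Localization.AtPrime p
  have hu : ∀ s : p.primeCompl, IsUnit (ε s) := fun s => isUnit_iff_ne_zero.2 fun h => s.2 (hε.le h)
  let εR : R →+* K := IsLocalization.lift hu
  have hεR : ∀ a, εR (algebraMap A R a) = ε a := fun a => IsLocalization.lift_eq hu a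
  haveI : IsLocalHom εR := ⟨fun x hx => by
    obtain ⟨a, s, rfl⟩ := IsLocalization.exists_mk'_eq p.primeCompl x
    refine (IsLocalization.AtPrime.isUnit_mk'_iff R p a s).2 fun ha => ?_
    have h0 : εR (IsLocalization.mk' R a s) * ε s = ε a := by
      rw [← hεR, ← map_mul, IsLocalization.mk'_spec, hεR]
    rw [show ε a = 0 from hε.ge ha] at h0
    exact (hx.mul (hu s)).ne_zero h0⟩
  letI : Algebra (ResidueField R) K := (ResidueField.lift εR).toAlgebra
  have hres : ∀ r, algebraMap (ResidueField R) K (residue R r) = εR r := fun r => rfl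
  let σ : HenselLib.SC R →ₐ[ResidueField R] K := IsAlgClosed.lift
  let φ : ShAt p →+* K := (σ : HenselLib.SC R →+* K).comp (HenselLib.hensθ (HenselLib.ker_scθ R))
  refine ⟨φ, RingHom.ext fun a => ?_, ?_, fun B _ _ _ χ hχ => ?_⟩
  · show σ (HenselLib.hensθ _ (algebraMap R (ShAt p) (algebraMap A R a))) = ε a
    rw [← RingHom.comp_apply (HenselLib.hensθ _), HenselLib.hensθ_comp]
    show σ (algebraMap (ResidueField R) (HenselLib.SC R) (residue R _)) = _
    rw [σ.commutes, hres, hεR]
  · rw [RingHom.ker_comp_of_injective _ (σ : HenselLib.SC R →+* K).injective, HenselLib.ker_hensθ]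
  · rintro _ ⟨b, rfl⟩
    letI : Algebra A K := ε.toAlgebra
    haveI : IsScalarTower A (ResidueField R) K := IsScalarTower.of_algebraMap_eq fun a =>
      ((hres _).trans (hεR a)).symm
    let χ' : B →ₐ[A] K := { χ with commutes' := fun a => RingHom.congr_fun hχ a }
    let h : ResidueField R ⊗[A] B →ₐ[ResidueField R] K :=
      Algebra.TensorProduct.lift (Algebra.ofId _ _) χ' fun _ _ => Commute.all _ _
    haveI : Algebra.FormallyUnramified (ResidueField R) h.range :=
      Algebra.FormallyUnramified.of_surjective h.rangeRestrict h.rangeRestrict_surjective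
    haveI : Algebra.EssFiniteType (ResidueField R) h.range :=
      Algebra.EssFiniteType.of_surjective h.rangeRestrict h.rangeRestrict_surjective
    haveI : Module.Finite (ResidueField R) h.range :=
      Algebra.FormallyUnramified.finite_of_free (ResidueField R) h.range
    haveI : Algebra.IsIntegral (ResidueField R) h.range := Algebra.IsIntegral.of_finite _ _
    have hF : IsField h.range :=
      isField_of_isIntegral_of_isField' (R := ResidueField R) (S := h.range) (Field.toIsField _)
    let L : IntermediateField (ResidueField R) K := h.range.toIntermediateField' hF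
    let h' : ResidueField R ⊗[A] B →ₐ[ResidueField R] L := h.codRestrict L.toSubalgebra fun x => ⟨x, rfl⟩
    have h's : Function.Surjective h' := fun ⟨x, y, hy⟩ => ⟨y, Subtype.ext hy⟩
    haveI : Algebra.FormallyUnramified (ResidueField R) L := Algebra.FormallyUnramified.of_surjective h' h's
    haveI : Algebra.EssFiniteType (ResidueField R) L := Algebra.EssFiniteType.of_surjective h' h's
    haveI : Algebra.IsSeparable (ResidueField R) L := Algebra.FormallyUnramified.isSeparable (ResidueField R) L
    have hb : χ b ∈ L := ⟨1 ⊗ₜ b, by simp [h, χ']⟩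
    have hsep0 : (minpoly (ResidueField R) (⟨χ b, hb⟩ : L)).Separable :=
      Algebra.IsSeparable.isSeparable (ResidueField R) _
    have hmp : minpoly (ResidueField R) (L.val ⟨χ b, hb⟩) = minpoly (ResidueField R) (⟨χ b, hb⟩ : L) :=
      minpoly.algHom_eq L.val L.val.injective _
    have hsep : IsSeparable (ResidueField R) (χ b) := by
      show (minpoly (ResidueField R) (L.val ⟨χ b, hb⟩)).Separable
      rw [hmp]; exact hsep0
    haveI : IsSepClosed (HenselLib.SC R) := IsSepClosure.sep_closed (ResidueField R)
    have hsp := IsSepClosed.splits_codomain (K := HenselLib.SC R) (f := algebraMap (ResidueField R) (HenselLib.SC R))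
      (minpoly (ResidueField R) (χ b)) hsep
    have hmem : χ b ∈ (minpoly (ResidueField R) (χ b)).rootSet K :=
      (Polynomial.mem_rootSet).2 ⟨minpoly.ne_zero hsep.isIntegral, minpoly.aeval _ _⟩
    rw [← hsp.image_rootSet σ] at hmem
    obtain ⟨y, -, hy⟩ := hmem
    obtain ⟨z, rfl⟩ := HenselLib.hensθ_SH_surjective R y
    exact ⟨z, hy⟩

variable {p} {φ : ShAt p →+* K} (hφ : φ.comp (shι p) = ε) (hker : RingHom.ker φ = maximalIdeal (ShAt p))

theorem shLift_unique {B : Type u} [CommRing B] [Algebra A B] [Algebra.Etale A B]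
    {K : Type u} [Field K] {φ : ShAt p →+* K} (hker : RingHom.ker φ = maximalIdeal (ShAt p))
    {ξ ξ' : B →+* ShAt p} (h : ξ.comp (algebraMap A B) = shι p) (h' : ξ'.comp (algebraMap A B) = shι p)
    (e : φ.comp ξ = φ.comp ξ') : ξ = ξ' := by
  letI : Algebra A (ShAt p) := (shι p).toAlgebra
  let f : B →ₐ[A] ShAt p := { ξ with commutes' := fun a => RingHom.congr_fun h a }
  let f' : B →ₐ[A] ShAt p := { ξ' with commutes' := fun a => RingHom.congr_fun h' a }
  exact congrArg AlgHom.toRingHom (HenselLib.algHom_ext_of_sub_mem (J := maximalIdeal (ShAt p))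
    (IsLocalRing.maximalIdeal_le_jacobson _) f f' fun x => by
      rw [← hker, RingHom.mem_ker, map_sub, sub_eq_zero]
      exact RingHom.congr_fun e x)

omit [IsAlgClosed K] in
include hφ hker in
theorem exists_shLift {B : Type u} [CommRing B] [Algebra A B] [Algebra.Etale A B] (χ : B →+* K)
    (hχ : χ.comp (algebraMap A B) = ε) (hr : Set.range χ ⊆ Set.range φ) :
    ∃ ξ : B →+* ShAt p, ξ.comp (algebraMap A B) = shι p ∧ φ.comp ξ = χ := by
  letI : Algebra A (ShAt p) := (shι p).toAlgebra
  letI : Field (ShAt p ⧸ maximalIdeal (ShAt p)) := Ideal.Quotient.field _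
  let φb : ShAt p ⧸ maximalIdeal (ShAt p) →+* K := Ideal.Quotient.lift _ φ fun x hx => hker.ge hx
  have hb : ∀ z, φb (Ideal.Quotient.mk _ z) = φ z := fun z => rfl
  have hinj : Function.Injective φb := φb.injective
  choose g hg using fun b => hr ⟨b, rfl⟩
  let q := Ideal.Quotient.mk (maximalIdeal (ShAt p))
  let σ : B →ₐ[A] ShAt p ⧸ maximalIdeal (ShAt p) :=
    { toFun := fun b => q (g b)
      map_one' := hinj (by rw [hb, hg, map_one, map_one])
      map_mul' := fun x y => hinj (by rw [map_mul, hb, hb, hb, hg, hg, hg, map_mul])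
      map_zero' := hinj (by rw [hb, hg, map_zero, map_zero])
      map_add' := fun x y => hinj (by rw [map_add, hb, hb, hb, hg, hg, hg, map_add])
      commutes' := fun a => hinj (by
        rw [show algebraMap A (ShAt p ⧸ maximalIdeal (ShAt p)) a = q (shι p a) from rfl, hb, hb, hg]
        exact (RingHom.congr_fun hχ a).trans (RingHom.congr_fun hφ a).symm) }
  obtain ⟨τ, hτ⟩ := Groth.Agent.S0536.result A B (ShAt p) (maximalIdeal (ShAt p)) σ
  refine ⟨τ.toRingHom, τ.comp_algebraMap, RingHom.ext fun b => ?_⟩
  show φ (τ b) = χ b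
  rw [← hb, show Ideal.Quotient.mk (maximalIdeal (ShAt p)) (τ b) = q (g b) from congr($hτ b), hb, hg]

omit [IsAlgClosed K] in
include hker in
/-- An element killed by the lift is killed by an element not vanishing at the geometric point. -/
theorem exists_annihilator {B : Type u} [CommRing B] [Algebra A B] [Algebra.Etale A B] {ξ : B →+* ShAt p}
    (h : ξ.comp (algebraMap A B) = shι p) {b : B} (hb : ξ b = 0) : ∃ s : B, φ (ξ s) ≠ 0 ∧ s * b = 0 := by
  letI : Algebra A (ShAt p) := (shι p).toAlgebra
  letI : Algebra B (ShAt p) := ξ.toAlgebra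
  haveI : IsScalarTower A B (ShAt p) := IsScalarTower.of_algebraMap_eq fun a => (RingHom.congr_fun h a).symm
  haveI : Module.Flat A (ShAt p) := flat_shι p
  haveI : Module.Flat B (ShAt p) := HenselLib.flat_of_etale (R := A)
  let q := (maximalIdeal (ShAt p)).comap ξ
  have hunit : ∀ y : q.primeCompl, IsUnit (ξ y) := fun y => notMem_maximalIdeal.1 y.2
  let ψ : Localization.AtPrime q →+* ShAt p := IsLocalization.lift hunit
  letI : Algebra (Localization.AtPrime q) (ShAt p) := ψ.toAlgebra
  haveI : IsScalarTower B (Localization.AtPrime q) (ShAt p) :=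
    IsScalarTower.of_algebraMap_eq fun x => (IsLocalization.lift_eq hunit x).symm
  haveI : Module.Flat (Localization.AtPrime q) (ShAt p) := by
    rw [Module.flat_iff_of_isLocalization (Localization.AtPrime q) q.primeCompl]
    infer_instance
  haveI : IsLocalHom (algebraMap (Localization.AtPrime q) (ShAt p)) := ⟨fun x hx => by
    obtain ⟨t, w, rfl⟩ := IsLocalization.exists_mk'_eq q.primeCompl x
    refine (IsLocalization.AtPrime.isUnit_mk'_iff (Localization.AtPrime q) q t w).2 fun ht => ?_
    have hsp : ψ (IsLocalization.mk' _ t w) * ξ w = ξ t := by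
      rw [← IsLocalization.lift_eq (S := Localization.AtPrime q) hunit t, ← IsLocalization.lift_eq (S := Localization.AtPrime q) hunit w, ← map_mul, IsLocalization.mk'_spec]
    exact (IsLocalRing.mem_maximalIdeal _).1 ht (hsp ▸ hx.mul (hunit w))⟩
  haveI := Module.FaithfullyFlat.of_flat_of_isLocalHom (A := Localization.AtPrime q) (B := ShAt p)
  have hinj := FaithfulSMul.algebraMap_injective (Localization.AtPrime q) (ShAt p)
  have h0 : algebraMap B (Localization.AtPrime q) b = 0 := hinj (by
    rw [← IsScalarTower.algebraMap_apply, map_zero]; exact hb)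
  obtain ⟨⟨s, hs⟩, hsb⟩ := (IsLocalization.map_eq_zero_iff q.primeCompl _ b).1 h0
  exact ⟨s, fun h0 => hs (hker.le h0), hsb⟩

/-- Every element of the strict henselization comes from an etale algebra. -/
theorem exists_etale_rep (z : ShAt p) : ∃ (B : Type u) (_ : CommRing B) (_ : Algebra A B) (_ : Algebra.Etale A B)
    (ξ : B →+* ShAt p), ξ.comp (algebraMap A B) = shι p ∧ z ∈ Set.range ξ := by
  obtain ⟨n, y, rfl⟩ := HenselLib.exists_of (HenselLib.ker_scθ (Localization.AtPrime p)) z
  obtain ⟨U, _, _, _, ξ, hξ, u, hu⟩ := HenselBranchLib.etCov_stage p (HenselLib.ker_scθ (Localization.AtPrime p)) n y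
  refine ⟨U, inferInstance, inferInstance, inferInstance,
    (HenselLib.of (HenselLib.ker_scθ (Localization.AtPrime p)) n).toRingHom.comp ξ, ?_, u, ?_⟩
  · rw [RingHom.comp_assoc, hξ]
    exact RingHom.ext fun a => (HenselLib.of (HenselLib.ker_scθ (Localization.AtPrime p)) n).commutes _
  · show HenselLib.of _ n (ξ u) = _
    rw [hu]

end AlgSpRegLib
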