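import Groth.Agent.AlgSpRegLib.RegImmDesc
import Groth.Agent.AlgSpRegLib.KindComp
import Groth.Agent.RegImmKindLib.Mor
import Groth.Agent.AlgSpLib.Noeth
import Groth.Agent.S8905
/-!
# Regular immersions of algebraic spaces
-/

set_option autoImplicit false
set_option backward.isDefEq.respectTransparency false
set_option backward.isDefEq.respectTransparency.types false

universe u

open CategoryTheory CategoryTheory.Limits AlgebraicGeometry Opposite AlgSp

namespace AlgSpRegLib

variable {S : Scheme.{u}}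

theorem repLocT_mono {P Q : MorphismProperty Scheme.{u}} (h : P ≤ Q) {F G : Sp S} {f : F ⟶ G}
    (hf : RepLocT P f) : RepLocT Q f :=
  ⟨hf.1, fun _ _ b fst snd hb sq => h _ (hf.2 b fst snd hb sq)⟩

theorem repLocT_comp {P Q R : MorphismProperty Scheme.{u}} [R.RespectsIso]
    (hPQ : ∀ ⦃A B C : Scheme.{u}⦄ (f : A ⟶ B) (g : B ⟶ C), P f → Q g → R (f ≫ g))
    {F G H : Sp S} {f : F ⟶ G} {g : G ⟶ H} (hf : RepLocT P f) (hg : RepLocT Q g) : RepLocT R (f ≫ g) := by
  refine ⟨AlgSpLib.rep_comp hf.1 hg.1, fun V W b fst snd hb sq => ?_⟩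
  let Y' : Over S := hg.1.pullback b
  have sqg : IsPullback (hg.1.fst b) ((yon S).map (hg.1.snd b)) g b := hg.1.isPullback b
  have hb' : RepWith @Etale (hg.1.fst b) := AlgSpLib.repWith_of_isPullback sqg.flip hb
  have sqf := hf.1.isPullback (hg.1.fst b)
  have big := sqf.paste_vert sqg
  rw [← Functor.map_comp] at big
  let φ := sq.isoIsPullback _ _ big
  let ψ : W ≅ hf.1.pullback (hg.1.fst b) := (yon S).preimageIso φ
  have hψ : ψ.hom ≫ (hf.1.snd (hg.1.fst b) ≫ hg.1.snd b) = snd := by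
    refine (yon S).map_injective ?_
    rw [Functor.map_comp, show (yon S).map ψ.hom = φ.hom from (yon S).map_preimage φ.hom]
    exact sq.isoIsPullback_hom_snd _ _ big
  haveI : IsIso ψ.hom.left := (inferInstance : IsIso ((Over.forget S).map ψ.hom))
  rw [← hψ, Over.comp_left, R.cancel_left_of_respectsIso, Over.comp_left]
  exact hPQ _ _ (hf.2 _ _ _ hb' sqf) (hg.2 _ _ _ hb sqg)

theorem regImm_h1_of_koszul : regImm .koszul ≤ (regImm .h1 : MorphismProperty Scheme.{u}) :=
  fun _ _ f hf => (Groth.Agent.S8905.result f).2.1 hf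

theorem regImm_quasi_of_h1 : regImm .h1 ≤ (regImm .quasi : MorphismProperty Scheme.{u}) :=
  fun _ _ f hf => (Groth.Agent.S8905.result f).2.2 hf

theorem isRegImmMor_iff_of_locNoeth {F G : Sp S} {f : F ⟶ G} (hG : IsLocNoethSp G) (k k' : RegImm.Kind)
    (hf : IsRegImmMor k f) : IsRegImmMor k' f := by
  refine ⟨hf.1, fun V W b fst snd hb sq => ?_⟩
  have h := hf.2 b fst snd hb sq
  haveI := AlgSpLib.isLocallyNoetherian_of_chart hG hb
  haveI := h.1
  exact ⟨h.1, fun z => (RegImmKindLib.isRegularImmersionAt_iff snd.left k' z).2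
    ((RegImmKindLib.isRegularImmersionAt_iff snd.left k z).1 (h.2 z))⟩

theorem isRegImmMor_flat_baseChange {k : RegImm.Kind} (hk : k ≠ .regular) {F G G' P : Sp S} (hG : IsAlgSpace G)
    {i : F ⟶ G} {g : G' ⟶ G} (hi : IsRegImmMor k i) (hg : LocP @Flat g)
    {fst : P ⟶ F} {i' : P ⟶ G'} (sq : IsPullback fst i' i g) : IsRegImmMor k i' := by
  refine ⟨AlgSpLib.rep_of_isPullback sq hi.1, fun V W b fstW snd hb sqW => ?_⟩
  obtain ⟨U₀, u₀, hu₀, hu₀'⟩ := hG.atlas
  obtain ⟨T, t2, t1, sqT⟩ := AlgSpLib.exists_isPullback_yon u₀ (b ≫ g) hu₀.rep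
  haveI : Etale t1.left := AlgSpLib.etale_left (AlgSpLib.repWith_of_isPullback sqT hu₀)
  haveI : Surjective t1.left := AlgSpLib.surjective_left (AlgSpLib.repWith_of_isPullback sqT hu₀')
  haveI : Flat t2.left := hg ((yon S).map t1 ≫ b) u₀ t2
    (AlgSpLib.repWith_comp ((repWith_yon_map_iff @Etale t1).2 ‹_›) hb) hu₀
    (by rw [Category.assoc]; exact sqT.w.symm)
  have sq0 := hi.1.isPullback u₀
  have A := IsPullback.of_hasPullback (hi.1.snd u₀) t2
  have A' := IsPullback.of_hasPullback snd t1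
  have HA := (A.map (yon S)).paste_horiz sq0
  have HA' := (A'.map (yon S)).paste_horiz (sqW.paste_horiz sq)
  rw [sqT.w] at HA
  let φ := HA.isoIsPullback _ _ HA'
  let ψ : pullback (hi.1.snd u₀) t2 ≅ pullback snd t1 := (yon S).preimageIso φ
  have hψ : ψ.hom ≫ pullback.snd snd t1 = pullback.snd (hi.1.snd u₀) t2 := by
    refine (yon S).map_injective ?_
    rw [Functor.map_comp, show (yon S).map ψ.hom = φ.hom from (yon S).map_preimage φ.hom]
    exact HA.isoIsPullback_hom_snd _ _ HA'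
  have h0 : regImm k (hi.1.snd u₀).left := hi.2 u₀ _ _ hu₀ sq0
  have sqA := A.map (Over.forget S)
  have h1 : regImm k (pullback.snd (hi.1.snd u₀) t2).left := by
    have h := Groth.Agent.S8906.result _ k h0 t2.left
    have e : (pullback.snd (hi.1.snd u₀) t2).left = sqA.isoPullback.hom ≫ pullback.snd _ t2.left :=
      sqA.isoPullback_hom_snd.symm
    rw [e]
    exact isRegularImmersion_iso_comp k _ _ h
  rw [← hψ] at h1
  haveI : IsIso ψ.hom.left := (inferInstance : IsIso ((Over.forget S).map ψ.hom))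
  rw [Over.comp_left, (regImm k).cancel_left_of_respectsIso] at h1
  exact descendsEt_regImm k hk (A'.map (Over.forget S)) ‹_› ‹_› h1

end AlgSpRegLib
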