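import Groth.Agent.AlgSpRegLib.StalkShConseq
import Groth.Agent.HenselBranchLib.NbhdCount
import Groth.Agent.AlgSpLib.Basic
import Groth.Agent.S0539
import Groth.Agent.S9238
import Groth.Agent.S9236

/-!
# Branches of algebraic spaces at points
-/

set_option autoImplicit false
set_option linter.style.haveILetI false
set_option backward.isDefEq.respectTransparency false
set_option backward.isDefEq.respectTransparency.types false

universe u v w

open CategoryTheory CategoryTheory.Limits AlgebraicGeometry Opposite AlgSp AlgSpLib Topology IsLocalRing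

noncomputable section

namespace AlgSpRegLib

theorem minimalPrimes_image_of_equiv {A : Type v} {B : Type w} [CommRing A] [CommRing B] (e : A ≃+* B) :
    ∀ q ∈ minimalPrimes B, q.comap (e : A →+* B) ∈ minimalPrimes A := fun q hq => by
  haveI := hq.1.1
  refine ⟨⟨Ideal.IsPrime.comap _, bot_le⟩, fun p hp hle => ?_⟩
  haveI := hp.1
  have h1 : p.comap (e.symm : B →+* A) ≤ q := fun b hb => by
    have := hle (show e.symm b ∈ p from hb)
    simpa only [Ideal.mem_comap, RingHom.coe_coe, RingEquiv.apply_symm_apply] using this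
  have h2 := hq.2 ⟨Ideal.IsPrime.comap _, bot_le⟩ h1
  intro a ha
  have h3 := h2 (show e a ∈ q from ha)
  simpa only [Ideal.mem_comap, RingHom.coe_coe, RingEquiv.symm_apply_apply] using h3

theorem card_minimalPrimes_congr' {A : Type v} {B : Type w} [CommRing A] [CommRing B] (e : A ≃+* B) :
    ENat.card (minimalPrimes A) = ENat.card (minimalPrimes B) :=
  ENat.card_congr
    { toFun := fun p => ⟨p.1.comap (e.symm : B →+* A), minimalPrimes_image_of_equiv e.symm p.1 p.2⟩
      invFun := fun q => ⟨q.1.comap (e : A →+* B), minimalPrimes_image_of_equiv e q.1 q.2⟩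
      left_inv := fun p => Subtype.ext <| Ideal.ext fun a => by
        simp only [Ideal.mem_comap, RingHom.coe_coe, RingEquiv.symm_apply_apply]
      right_inv := fun q => Subtype.ext <| Ideal.ext fun b => by
        simp only [Ideal.mem_comap, RingHom.coe_coe, RingEquiv.apply_symm_apply] }

theorem one_le_card_minimalPrimes (A : Type v) [CommRing A] [Nontrivial A] : 1 ≤ ENat.card (minimalPrimes A) := by
  obtain ⟨P, hP⟩ := Ideal.nonempty_minimalPrimes (I := (⊥ : Ideal A)) bot_ne_top
  exact ENat.one_le_card_iff_nonempty _ |>.2 ⟨⟨P, hP⟩⟩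

theorem hasUniqueMinimalPrime_iff_card (A : Type u) [CommRing A] :
    CAlgX.HasUniqueMinimalPrime A ↔ ENat.card (minimalPrimes A) = 1 := by
  rw [ENat.card_eq_one_iff_unique]
  constructor
  · rintro ⟨p, hp, hu⟩
    exact ⟨{ default := ⟨p, hp⟩, uniq := fun a => Subtype.ext (hu a.1 a.2) }⟩
  · rintro ⟨⟨⟨p⟩, h1⟩⟩
    exact ⟨p.1, p.2, fun q hq => congrArg Subtype.val ((h1 ⟨q, hq⟩).trans rfl)⟩

variable {S : Scheme.{u}} {X : Sp S}

theorem numGeomBranchesAt_chart (hX : IsAlgSpace X) (p : FieldPt X) (hp : p.IsGeometric) {U : Over S}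
    (a : (yon S).obj U ⟶ X) (ha : RepWith @Etale a) (u : U.left) (hu : Points.ofPt a u = Points.mk p) :
    Brnch.numGeomBranchesAt U.left u = ENat.card (minimalPrimes ↥(OEtStalk p)) ∧
      ENat.card (minimalPrimes (U.left.presheaf.stalk u)) ≤ ENat.card (minimalPrimes ↥(OEtStalk p)) := by
  obtain ⟨T, _, _, _, _, hT, ⟨e⟩⟩ := exists_sh_of_chart hX p hp ha u hu
  rw [card_minimalPrimes_congr' e]
  haveI : Module.FaithfullyFlat (U.left.presheaf.stalk u) T := Groth.Agent.S0539.result (U.left.presheaf.stalk u) T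
  exact ⟨(Groth.Agent.S9238.result (U.left.presheaf.stalk u) T).symm,
    HenselBranchLib.card_minimalPrimes_le _ _⟩

theorem card_le_of_charts (hX : IsAlgSpace X) (p : FieldPt X) (hp : p.IsGeometric) (n : ℕ∞)
    (h : ∀ (U : Over S) (a : (yon S).obj U ⟶ X) (u : U.left), RepWith @Etale a → Points.ofPt a u = Points.mk p →
      ENat.card (minimalPrimes (U.left.presheaf.stalk u)) ≤ n) :
    ENat.card (minimalPrimes ↥(OEtStalk p)) ≤ n := by
  obtain ⟨U, a, u, ha, hu⟩ := exists_chart_at_point hX (Points.mk p)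
  rw [← (numGeomBranchesAt_chart hX p hp a ha u hu).1, HenselBranchLib.numGeomBranchesAt_eq]
  refine iSup_le fun V => iSup_le fun g => iSup_le fun v => iSup_le fun ⟨hg, hgv⟩ => ?_
  rw [HenselBranchLib.encard_components]
  let φ : Over.mk (g ≫ U.hom) ⟶ U := Over.homMk g rfl
  refine h _ ((yon S).map φ ≫ a) v (repWith_comp ((repWith_yon_map_iff (P := @Etale) φ).2 hg) ha) ?_
  rw [ofPt_yon_comp]
  show Points.ofPt a (g v) = _
  rw [hgv, hu]

theorem exists_chart_card_ge (hX : IsAlgSpace X) (p : FieldPt X) (hp : p.IsGeometric) (n : ℕ) (hn : 1 ≤ n)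
    (h : ENat.card (minimalPrimes ↥(OEtStalk p)) = n) :
    ∃ (U : Over S) (a : (yon S).obj U ⟶ X) (u : U.left), RepWith @Etale a ∧ Points.ofPt a u = Points.mk p ∧
      ENat.card (minimalPrimes (U.left.presheaf.stalk u)) = n := by
  by_contra hne
  push Not at hne
  have h1 : ENat.card (minimalPrimes ↥(OEtStalk p)) ≤ (n - 1 : ℕ) := card_le_of_charts hX p hp _ fun U a u ha hu => by
    have h2 := (numGeomBranchesAt_chart hX p hp a ha u hu).2
    rw [h] at h2
    have h3 := hne U a u ha hu
    obtain ⟨m, hm⟩ := ENat.ne_top_iff_exists.1 (ne_top_of_le_ne_top (ENat.natCast_ne_top n) h2)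
    rw [← hm] at h2 h3 ⊢
    norm_cast at h2 h3 ⊢
    omega
  rw [h] at h1
  norm_cast at h1
  omega

end AlgSpRegLib
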