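import Groth.Agent.AlgSpRegLib.ShLift
import Groth.Agent.AlgSpLib.EtNbhdFiltered
import Groth.Prelude.Def_AlgSpOX3
import Mathlib.AlgebraicGeometry.Morphisms.Etale

/-!
# Etale local rings are strict henselizations
-/

set_option autoImplicit false
set_option linter.style.haveILetI false
set_option backward.isDefEq.respectTransparency false
set_option backward.isDefEq.respectTransparency.types false

universe u

open CategoryTheory CategoryTheory.Limits AlgebraicGeometry Opposite AlgSp AlgSpLib Topology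

noncomputable section

namespace AlgSpRegLib

variable {S : Scheme.{u}} {X : Sp S} {p : FieldPt X}

/-- The functions of a neighbourhood. -/
abbrev nbRing (N : EtNbhd p) : CommRingCat.{u} := Γ(N.1.obj.left.left, ⊤)

/-- The restriction map of functions. -/
abbrev nbMap {N N' : EtNbhd p} (k : N' ⟶ N) : nbRing N →+* nbRing N' := k.1.hom.left.left.appTop.hom

/-- Evaluation at the geometric point. -/
def nbEval (N : EtNbhd p) : nbRing N →+* p.K :=
  (Scheme.ΓSpecIso (CommRingCat.of p.K)).hom.hom.comp N.2.1.left.appTop.hom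

theorem nbEval_map {N N' : EtNbhd p} (k : N' ⟶ N) : (nbEval N').comp (nbMap k) = nbEval N := by
  have h : N'.2.1.left ≫ k.1.hom.left.left = N.2.1.left := congrArg (fun t => t.1.left) k.2
  rw [nbEval, nbEval, RingHom.comp_assoc, ← h, Scheme.Hom.comp_appTop]
  rfl

theorem nbMap_comp {N N' N'' : EtNbhd p} (k : N' ⟶ N) (m : N'' ⟶ N') :
    (nbMap m).comp (nbMap k) = nbMap (m ≫ k) := by
  show (k.1.hom.left.left.appTop ≫ m.1.hom.left.left.appTop).hom = _
  rw [← Scheme.Hom.comp_appTop]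
  rfl

/-- An open neighbourhood of the geometric point inside a neighbourhood. -/
theorem exists_open_nbhd (N : EtNbhd p) (O : N.1.obj.left.left.Opens)
    (hO : N.2.1.left (IsLocalRing.closedPoint p.K) ∈ O) :
    ∃ (N' : EtNbhd p) (k : N' ⟶ N), IsOpenImmersion k.1.hom.left.left ∧
      Set.range k.1.hom.left.left = (O : Set N.1.obj.left.left) ∧ (IsAffineOpen O → IsAffine N'.1.obj.left.left) := by
  have hr : Set.range N.2.1.left ⊆ Set.range O.ι := by
    haveI : Subsingleton ↥p.pt.left := inferInstanceAs (Subsingleton (PrimeSpectrum p.K))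
    rintro _ ⟨z, rfl⟩
    rw [Scheme.Opens.range_ι, Subsingleton.elim z (IsLocalRing.closedPoint p.K)]
    exact hO
  let j : Over.mk (O.ι ≫ N.1.obj.left.hom) ⟶ N.1.obj.left := Over.homMk O.ι rfl
  let E : EtOver X := EtOver.mk ((yon S).map j ≫ N.1.obj.hom) (AlgSpLib.repWith_comp
    ((repWith_yon_map_iff (P := (@Etale : MorphismProperty Scheme.{u})) j).2 (inferInstanceAs (Etale O.ι))) N.1.property)
  let l' : p.pt ⟶ E.obj.left := Over.homMk (IsOpenImmersion.lift O.ι N.2.1.left hr) (by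
    change _ ≫ O.ι ≫ _ = _
    rw [IsOpenImmersion.lift_fac_assoc]
    exact Over.w N.2.1)
  have hl : l' ≫ j = N.2.1 := Over.OverMorphism.ext (IsOpenImmersion.lift_fac _ _ _)
  have hl2 : (yon S).map l' ≫ E.obj.hom = p.toHom := by
    change (yon S).map l' ≫ (yon S).map j ≫ N.1.obj.hom = p.toHom
    rw [← Category.assoc, ← Functor.map_comp, hl]
    exact N.2.2
  let N' : EtNbhd p := ⟨E, l', hl2⟩
  let k : N' ⟶ N := CategoryOfElements.homMk _ _ (EtOver.homMk j rfl) (Subtype.ext hl)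
  exact ⟨N', k, inferInstanceAs (IsOpenImmersion O.ι), Scheme.Opens.range_ι O, fun h => h⟩

theorem exists_affine_nbhd (N : EtNbhd p) : ∃ (N' : EtNbhd p) (_ : N' ⟶ N), IsAffine N'.1.obj.left.left := by
  obtain ⟨O, hO, hmem, -⟩ := exists_isAffineOpen_mem_and_subset (U := ⊤)
    (x := N.2.1.left (IsLocalRing.closedPoint p.K)) trivial
  obtain ⟨N', k, -, -, h⟩ := exists_open_nbhd N O hmem
  exact ⟨N', k, h hO⟩

variable (hX : IsAlgSpace X) (hp : p.IsGeometric) (N₀ : EtNbhd p) [IsAffine N₀.1.obj.left.left]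

/-- The prime of the geometric point in the affine base neighbourhood. -/
abbrev nbPrime : Ideal (nbRing N₀) := RingHom.ker (nbEval N₀)

instance : (nbPrime N₀).IsPrime := RingHom.ker_isPrime _

variable {N₀} {φ : ShAt (nbPrime N₀) →+* p.K}

/-- The value on a neighbourhood: a map compatible with all affine refinements over the base. -/
def GoodMap (φ : ShAt (nbPrime N₀) →+* p.K) {N : EtNbhd p} (h : N ⟶ N₀) (ξ : nbRing N →+* ShAt (nbPrime N₀)) : Prop :=
  ξ.comp (nbMap h) = shι (nbPrime N₀) ∧ φ.comp ξ = nbEval N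

theorem etale_nbMap {N : EtNbhd p} [IsAffine N.1.obj.left.left] (h : N ⟶ N₀) : (nbMap h).Etale := by
  haveI : Etale h.1.hom.left.left := EtOver.etale_left h.1
  exact (HasRingHomProperty.iff_of_isAffine (P := @Etale) (f := h.1.hom.left.left)).1 inferInstance

theorem goodMap_unique (hker : RingHom.ker φ = IsLocalRing.maximalIdeal _) {N : EtNbhd p}
    [IsAffine N.1.obj.left.left] {h : N ⟶ N₀} {ξ ξ' : nbRing N →+* ShAt (nbPrime N₀)}
    (h1 : GoodMap φ h ξ) (h2 : GoodMap φ h ξ') : ξ = ξ' := by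
  letI := (nbMap h).toAlgebra
  haveI : Algebra.Etale (nbRing N₀) (nbRing N) := etale_nbMap h
  exact shLift_unique hker h1.1 h2.1 (h1.2.trans h2.2.symm)

theorem exists_goodMap (hφ : φ.comp (shι (nbPrime N₀)) = nbEval N₀)
    (hker : RingHom.ker φ = IsLocalRing.maximalIdeal _)
    (hrange : ∀ (B : Type u) [CommRing B] [Algebra (nbRing N₀) B] [Algebra.Etale (nbRing N₀) B] (χ : B →+* p.K),
      χ.comp (algebraMap (nbRing N₀) B) = nbEval N₀ → Set.range χ ⊆ Set.range φ)
    {N : EtNbhd p} [IsAffine N.1.obj.left.left] (h : N ⟶ N₀) : ∃ ξ, GoodMap φ h ξ := by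
  letI := (nbMap h).toAlgebra
  haveI : Algebra.Etale (nbRing N₀) (nbRing N) := etale_nbMap h
  obtain ⟨ξ, h1, h2⟩ := exists_shLift hφ hker (B := nbRing N) (nbEval N) (nbEval_map h)
    (hrange _ (nbEval N) (nbEval_map h))
  exact ⟨ξ, h1, h2⟩

theorem GoodMap.comp {N N' : EtNbhd p} {h : N ⟶ N₀} {h' : N' ⟶ N₀} (m : N' ⟶ N) (e : m ≫ h = h')
    {ξ : nbRing N' →+* ShAt (nbPrime N₀)} (g : GoodMap φ h' ξ) : GoodMap φ h (ξ.comp (nbMap m)) := by
  refine ⟨?_, ?_⟩
  · rw [RingHom.comp_assoc, nbMap_comp, e]; exact g.1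
  · rw [← RingHom.comp_assoc, g.2, nbEval_map]

include hX hp in
/-- The etale local ring is the strict henselization at the point of an affine chart. -/
theorem nonempty_OEtStalk_equiv_shAt :
    Nonempty (↥(stalkEt p (OEt X)) ≃+* ShAt (nbPrime N₀)) := by
  haveI := isCofiltered_etNbhd hX p hp
  haveI : IsAlgClosed p.K := hp
  obtain ⟨φ, hφ, hker, hrange⟩ := exists_shPoint (nbPrime N₀) (K := p.K) (ε := nbEval N₀) rfl
  let Rel : ∀ N : EtNbhd p, (nbRing N →+* ShAt (nbPrime N₀)) → Prop := fun N ψ =>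
    ∀ (N' : EtNbhd p) (k : N' ⟶ N) (h : N' ⟶ N₀) (ξ : nbRing N' →+* ShAt (nbPrime N₀)),
      IsAffine N'.1.obj.left.left → GoodMap φ h ξ → ψ = ξ.comp (nbMap k)
  have refine' : ∀ N : EtNbhd p, ∃ (N' : EtNbhd p) (_ : N' ⟶ N) (_ : N' ⟶ N₀), IsAffine N'.1.obj.left.left := by
    intro N
    obtain ⟨M, m, m₀, -⟩ := IsCofilteredOrEmpty.cone_objs N N₀
    obtain ⟨N', k, hN'⟩ := exists_affine_nbhd M
    exact ⟨N', k ≫ m, k ≫ m₀, hN'⟩
  have hex : ∀ N, ∃ ψ, Rel N ψ := by
    intro N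
    obtain ⟨N₁, k₁, h₁, hN₁⟩ := refine' N
    obtain ⟨ξ₁, hξ₁⟩ := exists_goodMap hφ hker hrange h₁
    refine ⟨ξ₁.comp (nbMap k₁), fun N₂ k₂ h₂ ξ₂ hN₂ hξ₂ => ?_⟩
    obtain ⟨M₁, a₁, a₂, -⟩ := IsCofilteredOrEmpty.cone_objs N₁ N₂
    obtain ⟨M₂, b, hb⟩ := IsCofilteredOrEmpty.cone_maps (a₁ ≫ k₁) (a₂ ≫ k₂)
    obtain ⟨M₃, c, hc⟩ := IsCofilteredOrEmpty.cone_maps (b ≫ a₁ ≫ h₁) (b ≫ a₂ ≫ h₂)
    obtain ⟨M, d, hM⟩ := exists_affine_nbhd M₃
    let m₁ := d ≫ c ≫ b ≫ a₁
    let m₂ := d ≫ c ≫ b ≫ a₂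
    have e1 : m₁ ≫ k₁ = m₂ ≫ k₂ := by simp only [m₁, m₂, Category.assoc]; rw [hb]
    have e2 : m₁ ≫ h₁ = m₂ ≫ h₂ := by simp only [m₁, m₂, Category.assoc]; rw [hc]
    obtain ⟨ξ, hξ⟩ := exists_goodMap hφ hker hrange (m₁ ≫ h₁)
    haveI := hN₁
    haveI := hN₂
    rw [goodMap_unique hker hξ₁ (hξ.comp m₁ rfl), goodMap_unique hker hξ₂ (hξ.comp m₂ e2.symm),
      RingHom.comp_assoc, RingHom.comp_assoc, nbMap_comp, nbMap_comp, e1]
  choose ψ hψ using hex
  have hnat : ∀ {N N' : EtNbhd p} (g : N' ⟶ N), (ψ N').comp (nbMap g) = ψ N := by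
    intro N N' g
    obtain ⟨M, k, h, hM⟩ := refine' N'
    obtain ⟨ξ, hξ⟩ := exists_goodMap hφ hker hrange h
    rw [hψ N' M k h ξ hM hξ, hψ N M (k ≫ g) h ξ hM hξ, RingHom.comp_assoc, nbMap_comp]
  let c : Cocone (stalkEtDiagram p (OEt X)) :=
    { pt := CommRingCat.of (ULift.{u + 1} (ShAt (nbPrime N₀)))
      ι :=
        { app := fun N => CommRingCat.ofHom (ULift.ringEquiv.symm.toRingHom.comp
            ((ψ N.unop).comp ULift.ringEquiv.toRingHom))
          naturality := fun N N' g => by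
            apply CommRingCat.hom_ext
            apply RingHom.ext
            intro s
            exact congrArg ULift.up (RingHom.congr_fun (hnat g.unop) s.down) } }
  let Ψ : ↥(stalkEt p (OEt X)) →+* ULift.{u + 1} (ShAt (nbPrime N₀)) := (colimit.desc _ c).hom
  have hΨ : ∀ (N : EtNbhd p) (s : nbRing N), Ψ ((stalkEtι p (OEt X) N).hom (ULift.up s)) = ULift.up (ψ N s) :=
    fun N s => ConcreteCategory.congr_hom (colimit.ι_desc c (op N)) (ULift.up s)
  haveI : PreservesFilteredColimitsOfSize.{u, u + 1} (forget CommRingCat.{u + 1}) :=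
    preservesFilteredColimitsOfSize_of_univLE.{u + 1, u + 1, u, u + 1} (forget CommRingCat.{u + 1})
  refine ⟨(RingEquiv.ofBijective Ψ ⟨(injective_iff_map_eq_zero Ψ).2 fun z hz => ?_, fun z => ?_⟩).trans ULift.ringEquiv⟩
  · obtain ⟨⟨N⟩, s, rfl⟩ := Concrete.colimit_exists_rep (stalkEtDiagram p (OEt X)) z
    obtain ⟨s⟩ := s
    have hz0 : ψ N s = 0 := congrArg ULift.down ((hΨ N s).symm.trans hz)
    obtain ⟨N', k, h, hN'⟩ := refine' N
    obtain ⟨ξ, hξ⟩ := exists_goodMap hφ hker hrange h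
    rw [hψ N N' k h ξ hN' hξ] at hz0
    letI := (nbMap h).toAlgebra
    haveI : Algebra.Etale (nbRing N₀) (nbRing N') := etale_nbMap h
    obtain ⟨t, ht, htb⟩ := exists_annihilator hker hξ.1 hz0
    have hmem : N'.2.1.left (IsLocalRing.closedPoint p.K) ∈ N'.1.obj.left.left.basicOpen t := by
      have h1 : p.pt.left.basicOpen (N'.2.1.left.appTop.hom t) = ⊤ := by
        refine Scheme.basicOpen_of_isUnit _ ?_
        have h2 : IsUnit ((Scheme.ΓSpecIso (CommRingCat.of p.K)).hom.hom (N'.2.1.left.appTop.hom t)) :=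
          isUnit_iff_ne_zero.2 fun h0 => ht ((RingHom.congr_fun hξ.2 t).trans h0)
        exact (isUnit_map_iff (Scheme.ΓSpecIso (CommRingCat.of p.K)).commRingCatIsoToRingEquiv _).1 h2
      rw [← Scheme.preimage_basicOpen_top] at h1
      exact h1.symm.le (Set.mem_univ _)
    obtain ⟨M, m, -, hrange', -⟩ := exists_open_nbhd N' _ hmem
    have hu : IsUnit (nbMap m t) := by
      refine RingedSpace.isUnit_of_isUnit_germ M.1.obj.left.left.toRingedSpace ⊤ _ fun z _ =>
        (Scheme.mem_basicOpen_top _ _ z).1 ?_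
      rw [← Scheme.preimage_basicOpen_top]
      exact hrange'.le ⟨z, rfl⟩
    have h0 : nbMap (m ≫ k) s = 0 := by
      rw [← nbMap_comp, RingHom.comp_apply]
      refine hu.mul_left_cancel ?_
      rw [← map_mul, htb, map_zero, mul_zero]
    have hw := ConcreteCategory.congr_hom (colimit.w (stalkEtDiagram p (OEt X)) (m ≫ k).op) (ULift.up s)
    exact hw.symm.trans ((congrArg (stalkEtι p (OEt X) M).hom (congrArg ULift.up h0)).trans (map_zero _))
  · obtain ⟨z⟩ := z
    obtain ⟨B, _, _, _, ξ, hξ, b, rfl⟩ := exists_etale_rep z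
    let g : Spec (CommRingCat.of B) ⟶ N₀.1.obj.left.left :=
      Spec.map (CommRingCat.ofHom (algebraMap (nbRing N₀) B)) ≫ N₀.1.obj.left.left.isoSpec.inv
    haveI : Etale (Spec.map (CommRingCat.ofHom (algebraMap (nbRing N₀) B))) :=
      (HasRingHomProperty.Spec_iff (P := @Etale)).2 (RingHom.etale_algebraMap.2 ‹_›)
    let j : Over.mk (g ≫ N₀.1.obj.left.hom) ⟶ N₀.1.obj.left := Over.homMk g rfl
    let E : EtOver X := EtOver.mk ((yon S).map j ≫ N₀.1.obj.hom) (AlgSpLib.repWith_comp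
      ((repWith_yon_map_iff (P := (@Etale : MorphismProperty Scheme.{u})) j).2 (inferInstanceAs (Etale g))) N₀.1.property)
    have hχ : (φ.comp ξ).comp (algebraMap (nbRing N₀) B) = nbEval N₀ := by rw [RingHom.comp_assoc, hξ, hφ]
    have hl : Spec.map (CommRingCat.ofHom (φ.comp ξ)) ≫ g = N₀.2.1.left := by
      show Spec.map (CommRingCat.ofHom (φ.comp ξ)) ≫ _ ≫ _ = _
      rw [← Spec.map_comp_assoc, ← CommRingCat.ofHom_comp, hχ, Iso.comp_inv_eq]
      show Spec.map (N₀.2.1.left.appTop ≫ (Scheme.ΓSpecIso (CommRingCat.of p.K)).hom) = _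
      rw [Spec.map_comp, ← Scheme.isoSpec_Spec_hom]
      exact Scheme.isoSpec_hom_naturality _
    let l' : p.pt ⟶ E.obj.left := Over.homMk (Spec.map (CommRingCat.ofHom (φ.comp ξ))) (by
      change _ ≫ g ≫ _ = _
      rw [← Category.assoc, hl]
      exact Over.w N₀.2.1)
    have hlj : l' ≫ j = N₀.2.1 := Over.OverMorphism.ext hl
    let N : EtNbhd p := ⟨E, l', by
      change (yon S).map l' ≫ (yon S).map j ≫ N₀.1.obj.hom = p.toHom
      rw [← Category.assoc, ← Functor.map_comp, hlj]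
      exact N₀.2.2⟩
    let h : N ⟶ N₀ := CategoryOfElements.homMk _ _ (EtOver.homMk j rfl) (Subtype.ext hlj)
    haveI : IsAffine N.1.obj.left.left := inferInstanceAs (IsAffine (Spec (CommRingCat.of B)))
    let e : nbRing N →+* B := (Scheme.ΓSpecIso (CommRingCat.of B)).hom.hom
    have hgood : GoodMap φ h (ξ.comp e) := by
      refine ⟨?_, ?_⟩
      · rw [RingHom.comp_assoc, ← hξ]
        congr 1
        show (g.appTop ≫ (Scheme.ΓSpecIso (CommRingCat.of B)).hom).hom = algebraMap (nbRing N₀) B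
        have hinv : N₀.1.obj.left.left.isoSpec.inv.appTop ≫ (Scheme.ΓSpecIso (nbRing N₀)).hom = 𝟙 _ := by
          rw [← Scheme.toSpecΓ_appTop, ← Scheme.Hom.comp_appTop, Scheme.toSpecΓ_isoSpec_inv, Scheme.Hom.id_appTop]
        rw [Scheme.Hom.comp_appTop, Category.assoc, Scheme.ΓSpecIso_naturality, ← Category.assoc,
          show N₀.1.obj.left.left.isoSpec.inv.appTop ≫ (Scheme.ΓSpecIso (CommRingCat.of ↑(nbRing N₀))).hom = 𝟙 _ from hinv,
          Category.id_comp]
        rfl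
      · rw [← RingHom.comp_assoc]
        show ((Scheme.ΓSpecIso (CommRingCat.of B)).hom ≫ CommRingCat.ofHom (φ.comp ξ)).hom =
          ((Spec.map (CommRingCat.ofHom (φ.comp ξ))).appTop ≫ (Scheme.ΓSpecIso (CommRingCat.of p.K)).hom).hom
        rw [Scheme.ΓSpecIso_naturality]
    refine ⟨(stalkEtι p (OEt X) N).hom (ULift.up ((Scheme.ΓSpecIso (CommRingCat.of B)).inv.hom b)), (hΨ N _).trans ?_⟩
    rw [hψ N N (𝟙 N) h _ ‹_› hgood]
    refine congrArg ULift.up ?_
    show ξ (e (nbMap (𝟙 N) ((Scheme.ΓSpecIso (CommRingCat.of B)).inv.hom b))) = ξ b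
    congr 1
    exact ConcreteCategory.congr_hom (Scheme.ΓSpecIso (CommRingCat.of B)).inv_hom_id b

end AlgSpRegLib
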