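import Groth.Agent.AlgSpRegLib.StalkShProps
import Groth.Agent.AlgSpRegLib.EnoughPoints
import Groth.Agent.AzInvLib.Local
import Groth.Agent.S0540
import Groth.Agent.S2743
import Mathlib.RingTheory.RegularLocalRing.Defs

/-!
# Consequences of the comparison of etale local rings with strict henselizations
-/

set_option autoImplicit false
set_option linter.style.haveILetI false
set_option backward.isDefEq.respectTransparency false
set_option backward.isDefEq.respectTransparency.types false

universe u

open CategoryTheory CategoryTheory.Limits AlgebraicGeometry Opposite AlgSp AlgSpLib Topology IsLocalRing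

noncomputable section

namespace AlgSpRegLib

variable {S : Scheme.{u}} {X : Sp S}

theorem exists_geometric_mk (hX : IsAlgSpace X) (x : Points X) :
    ∃ p : FieldPt X, p.IsGeometric ∧ Points.mk p = x := by
  obtain ⟨U, a, u, ha, hu⟩ := exists_chart_at_point hX x
  obtain ⟨p, hp, -, -, hpe⟩ := exists_geometric_over (EtOver.mk a ha) u
  exact ⟨p, hp, hpe.trans hu⟩

theorem exists_chart_noeth (hX : IsAlgSpace X) (hN : IsLocNoethSp X) (x : Points X) :
    ∃ (U : Over S) (a : (yon S).obj U ⟶ X) (u : U.left), RepWith @Etale a ∧ Points.ofPt a u = x ∧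
      IsNoetherianRing (U.left.presheaf.stalk u) := by
  obtain ⟨U, a, ha, has, hU⟩ := hN
  obtain ⟨u, hu⟩ := surjective_ofPt has x
  exact ⟨U, a, u, ha, hu, inferInstance⟩

theorem isStrictlyHenselian_OEtStalk (hX : IsAlgSpace X) (p : FieldPt X) (hp : p.IsGeometric) :
    IsLocalRing ↥(OEtStalk p) ∧ EtCoh.IsStrictlyHenselianLocalRing ↥(OEtStalk p) := by
  obtain ⟨U, a, u, ha, hu⟩ := exists_chart_at_point hX (Points.mk p)
  obtain ⟨T, _, _, _, _, hT, ⟨e⟩⟩ := exists_sh_of_chart hX p hp ha u hu
  haveI := hT.henselian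
  haveI := hT.isSepClosure.sep_closed
  haveI := e.symm.isLocalRing
  exact ⟨inferInstance, AzInvLib.henselianLocalRing_of_ringEquiv e.symm,
    AzInvLib.isSepClosed_of_ringEquiv (ResidueField.mapEquiv e.symm)⟩

theorem isNoetherian_OEtStalk (hX : IsAlgSpace X) (hN : IsLocNoethSp X) (p : FieldPt X) (hp : p.IsGeometric) :
    IsNoetherianRing ↥(OEtStalk p) := by
  obtain ⟨U, a, u, ha, hu, hR⟩ := exists_chart_noeth hX hN (Points.mk p)
  obtain ⟨T, _, _, _, _, hT, ⟨e⟩⟩ := exists_sh_of_chart hX p hp ha u hu
  haveI : IsNoetherianRing T := (Groth.Agent.S0540.result _ T).1 hR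
  exact isNoetherianRing_of_ringEquiv T e.symm

theorem isRegular_iff_OEtStalk (hX : IsAlgSpace X) (p : FieldPt X) (hp : p.IsGeometric) {U : Over S}
    (a : (yon S).obj U ⟶ X) (ha : RepWith @Etale a) (u : U.left) (hu : Points.ofPt a u = Points.mk p) :
    IsRegularLocalRing (U.left.presheaf.stalk u) ↔ IsRegularLocalRing ↥(OEtStalk p) := by
  obtain ⟨T, _, _, _, _, hT, ⟨e⟩⟩ := exists_sh_of_chart hX p hp ha u hu
  constructor
  · intro h
    haveI := (Groth.Agent.S2743.result (U.left.presheaf.stalk u) T).2 h
    exact IsRegularLocalRing.of_ringEquiv e.symm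
  · intro h
    haveI : IsRegularLocalRing T := IsRegularLocalRing.of_ringEquiv e
    haveI : IsNoetherianRing (U.left.presheaf.stalk u) := (Groth.Agent.S0540.result _ T).2 inferInstance
    exact (Groth.Agent.S2743.result (U.left.presheaf.stalk u) T).1 inferInstance

end AlgSpRegLib
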