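import Groth.Agent.AlgSpRegLib.SiteEt
import Groth.Agent.AlgSpLib.EtNbhdFiltered
import Groth.Prelude.Def_AlgSpOX3
import Groth.Prelude.Def_AlgSpOX

/-!
# Vanishing loci and stalks of abelian sheaves on the small etale site
-/

set_option autoImplicit false
set_option backward.isDefEq.respectTransparency false
set_option backward.isDefEq.respectTransparency.types false

universe u

open CategoryTheory CategoryTheory.Limits AlgebraicGeometry Opposite AlgSp AlgSpLib Topology

namespace AlgSpRegLib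

variable {S : Scheme.{u}} {X : Sp S}

theorem exists_fibre_point {U V Z : EtOver X} (k : V ⟶ U) (g : Z ⟶ U) (e : V.obj.left.left) (z : Z.obj.left.left)
    (h : g.hom.left.left z = k.hom.left.left e) :
    ∃ (Z' : EtOver X) (k' : Z' ⟶ V) (g' : Z' ⟶ Z) (w : Z'.obj.left.left),
      k' ≫ k = g' ≫ g ∧ k'.hom.left.left w = e ∧ g'.hom.left.left w = z := by
  obtain ⟨P, q, r, sq⟩ := exists_isPullback_yon ((yon S).map k.hom.left) ((yon S).map g.hom.left)
    (representable_yon_map k.hom.left)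
  obtain ⟨w, hw₁, hw₂⟩ := (ofPt_eq_ofPt_iff sq e z).1 (by
    rw [ofPt_comp_ofScheme, ofPt_comp_ofScheme, Function.comp_apply, Function.comp_apply,
      Points.map_yon_map_apply, Points.map_yon_map_apply, h])
  haveI := EtOver.etale_left g
  haveI : Etale q.left := etale_left (repWith_of_isPullback sq.flip
    ((repWith_yon_map_iff (P := (@Etale : MorphismProperty Scheme.{u})) g.hom.left).2 ‹_›))
  let Z' : EtOver X := EtOver.mk ((yon S).map q ≫ V.obj.hom)
    (AlgSpLib.repWith_comp ((repWith_yon_map_iff (P := (@Etale : MorphismProperty Scheme.{u})) q).2 ‹_›) V.property)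
  have hr : (yon S).map r ≫ Z.obj.hom = (yon S).map q ≫ V.obj.hom := by
    rw [← EtOver.w g, ← Category.assoc, ← sq.w, Category.assoc, EtOver.w k]
  exact ⟨Z', EtOver.homMk q rfl, EtOver.homMk r hr, w,
    EtOver.hom_ext _ _ ((yon S).map_injective (by
      change (yon S).map (q ≫ k.hom.left) = (yon S).map (r ≫ g.hom.left)
      rw [Functor.map_comp, Functor.map_comp, sq.w])), hw₁, hw₂⟩

/-- A section killed on a covering sieve is zero. -/
theorem eq_zero_of_locally (F : AbEt X) {E : EtOver X} (σ : ↥(F.obj.obj (op E)))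
    (h : ∀ e : E.obj.left.left, ∃ (Z : EtOver X) (g : Z ⟶ E),
      (F.obj.map g.op).hom σ = 0 ∧ e ∈ Set.range g.hom.left.left) : σ = 0 := by
  let T : Sieve E := ⟨fun Z g => (F.obj.map g.op).hom σ = 0, fun {Z Z'} g hg k => by
    rw [op_comp, CategoryTheory.Functor.map_comp]
    change (F.obj.map k.op).hom ((F.obj.map g.op).hom σ) = 0
    rw [hg, map_zero]⟩
  have hs := ((isSheaf_iff_isSheaf_of_type _ _).1
    ((Presheaf.isSheaf_iff_isSheaf_forget (etTop X) F.obj (forget AddCommGrpCat.{u + 1})).1 F.property) T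
      ((mem_etTop_iff T).2 h))
  exact hs.isSeparatedFor.ext fun Z g hg => hg.trans (map_zero (F.obj.map g.op).hom).symm

theorem exists_vanishing_open (F : AbEt X) (U : EtOver X) (σ : ↥(F.obj.obj (op U))) :
    ∃ W : TopologicalSpace.Opens ↥U.obj.left.left,
      (∀ (V : EtOver X) (φ : V ⟶ U),
        (F.obj.map φ.op).hom σ = 0 ↔ Set.range (fun v => φ.hom.left.left v) ⊆ (W : Set ↥U.obj.left.left)) ∧
      ∀ e, e ∈ W ↔ ∃ (Z : EtOver X) (g : Z ⟶ U), (F.obj.map g.op).hom σ = 0 ∧ e ∈ Set.range g.hom.left.left := by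
  let W : Set U.obj.left.left :=
    {e | ∃ (Z : EtOver X) (g : Z ⟶ U), (F.obj.map g.op).hom σ = 0 ∧ e ∈ Set.range g.hom.left.left}
  have hW : IsOpen W := isOpen_iff_forall_mem_open.2 fun e ⟨Z, g, hg, he⟩ => by
    haveI := EtOver.etale_left g
    exact ⟨Set.range g.hom.left.left, fun e' he' => ⟨Z, g, hg, he'⟩, g.hom.left.left.isOpenMap.isOpen_range, he⟩
  refine ⟨⟨W, hW⟩, fun V φ => ⟨fun h => ?_, fun h => eq_zero_of_locally F _ fun v => ?_⟩, fun e => Iff.rfl⟩
  · rintro _ ⟨v, rfl⟩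
    exact ⟨V, φ, h, v, rfl⟩
  · obtain ⟨Z, g, hg, z, hz⟩ := h ⟨v, rfl⟩
    obtain ⟨Z', k', g', w, e, hw, -⟩ := exists_fibre_point φ g v z hz
    refine ⟨Z', k', ?_, w, hw⟩
    change ((F.obj.map φ.op ≫ F.obj.map k'.op)).hom σ = 0
    rw [← CategoryTheory.Functor.map_comp, ← op_comp, e, op_comp, CategoryTheory.Functor.map_comp]
    change (F.obj.map g'.op).hom ((F.obj.map g.op).hom σ) = 0
    rw [hg, map_zero]

/-- A section vanishes in the stalk exactly when it vanishes on a smaller neighbourhood. -/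
theorem stalkι_eq_zero_iff (hX : IsAlgSpace X) (p : FieldPt X) (hp : p.IsGeometric) (F : AbEt X) (N : EtNbhd p)
    (σ : ↥(F.obj.obj (op N.1))) :
    (stalkEtι p F N).hom σ = 0 ↔ ∃ (N' : EtNbhd p) (g : N' ⟶ N), (F.obj.map g.1.op).hom σ = 0 := by
  haveI := isCofiltered_etNbhd hX p hp
  haveI : PreservesFilteredColimitsOfSize.{u, u + 1} (forget AddCommGrpCat.{u + 1}) :=
    preservesFilteredColimitsOfSize_of_univLE.{u + 1, u + 1, u, u + 1} (forget AddCommGrpCat.{u + 1})
  constructor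
  · intro h
    obtain ⟨k, i₁, i₂, e⟩ := Concrete.colimit_exists_of_rep_eq (stalkEtDiagram p F) (i := op N) (j := op N) σ 0
      (h.trans (map_zero (stalkEtι p F N).hom).symm)
    exact ⟨k.unop, i₁.unop, e.trans (map_zero ((stalkEtDiagram p F).map i₂).hom)⟩
  · rintro ⟨N', g, hg⟩
    have h := ConcreteCategory.congr_hom (colimit.w (stalkEtDiagram p F) g.op) σ
    exact h.symm.trans ((congrArg (stalkEtι p F N').hom hg).trans (map_zero _))

/-- A point of a chart over the closed point of a neighbourhood refines it. -/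
theorem exists_refine (p : FieldPt X) (hp : p.IsGeometric) (N : EtNbhd p) {Z : EtOver X} (g : Z ⟶ N.1)
    (z : Z.obj.left.left) (hz : g.hom.left.left z = N.2.1.left (IsLocalRing.closedPoint p.K)) :
    ∃ (l : (FieldPt.liftsTo p).obj Z), (FieldPt.liftsTo p).map g l = N.2 := by
  haveI : IsAlgClosed p.K := hp
  haveI := EtOver.etale_left g
  obtain ⟨w, hw⟩ := exists_lift_of_etale (K := p.K) (str := p.str) g.hom.left N.2.1 z hz
  refine ⟨⟨w, ?_⟩, Subtype.ext hw⟩
  rw [← EtOver.w g, ← Category.assoc, ← Functor.map_comp, hw]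
  exact N.2.2

theorem stalkι_eq_zero_iff_mem (hX : IsAlgSpace X) (p : FieldPt X) (hp : p.IsGeometric) (F : AbEt X) (N : EtNbhd p)
    (σ : ↥(F.obj.obj (op N.1))) :
    (stalkEtι p F N).hom σ = 0 ↔ ∃ (Z : EtOver X) (g : Z ⟶ N.1),
      (F.obj.map g.op).hom σ = 0 ∧ N.2.1.left (IsLocalRing.closedPoint p.K) ∈ Set.range g.hom.left.left := by
  rw [stalkι_eq_zero_iff hX p hp F N σ]
  constructor
  · rintro ⟨N', g, hg⟩
    exact ⟨N'.1, g.1, hg, N'.2.1.left (IsLocalRing.closedPoint p.K),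
      congrArg (fun t => t.1.left (IsLocalRing.closedPoint p.K)) g.2⟩
  · rintro ⟨Z, g, hg, z, hz⟩
    obtain ⟨l, hl⟩ := exists_refine p hp N g z hz
    exact ⟨⟨Z, l⟩, CategoryOfElements.homMk _ _ g hl, hg⟩

end AlgSpRegLib
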